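import Cfsg.Agent.D4.RBig1

/-!
The groups `G(m, m, 3)` with `m ≥ 5` do not occur.
-/

set_option autoImplicit false

open Matrix

namespace Cfsg.Agent.D4

variable {K : Type*} [Field K] {Γ : Type*} [Group Γ] {ρ : Γ →* M4 K} {u v w f g h : V4 K}

theorem big_eq {p A B : K} (hp : p ≠ 0) (hA : A ≠ 0) (hB : B ≠ 0)
    (e : p * (2 - A - A⁻¹) = p * (2 - B - B⁻¹)) : A = B ∨ A * B = 1 := by
  have h1 := mul_left_cancel₀ hp e
  have : (A - B) * (A * B - 1) = 0 := by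
    field_simp at h1
    linear_combination -h1
  exact (mul_eq_zero.1 this).imp sub_eq_zero.1 sub_eq_zero.1

theorem big_two {p : K} (hp : p ≠ 0) (c : K) :
    ∃ s t : K, ∀ A, A ≠ 0 → p * (2 - A - A⁻¹) = c → A = s ∨ A = t := by
  by_cases h : ∃ B, B ≠ 0 ∧ p * (2 - B - B⁻¹) = c
  · obtain ⟨B, hB, e⟩ := h
    exact ⟨B, B⁻¹, fun A hA e' => (big_eq hp hA hB (e'.trans e.symm)).imp_right eq_inv_of_mul_eq_one_left⟩
  · exact ⟨0, 0, fun A hA e => (h ⟨A, hA, e⟩).elim⟩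

theorem big_five {θ A : K} (h0 : θ ≠ 0) (h3 : θ ^ 3 ≠ 1) (h4 : θ ^ 4 ≠ 1) (hA : A ≠ 0) (a b c d : K) :
    ∃ n : ℕ, θ ^ n * A ≠ a ∧ θ ^ n * A ≠ b ∧ θ ^ n * A ≠ c ∧ θ ^ n * A ≠ d := by
  classical
  by_contra hc
  have k : ∀ m n : ℕ, m < n → n < 5 → θ ^ m * A ≠ θ ^ n * A := fun m n h1 h2 e => by
    obtain ⟨d, rfl⟩ := Nat.exists_eq_add_of_lt h1
    have e1 : θ ^ (d + 1) = 1 := by
      have := mul_right_cancel₀ hA e
      rw [add_assoc, pow_add] at this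
      exact (mul_eq_left₀ (pow_ne_zero _ h0)).1 this.symm
    have : d = 0 ∨ d = 1 ∨ d = 2 ∨ d = 3 := by omega
    rcases this with rfl | rfl | rfl | rfl
    · exact h3 (by rw [zero_add, pow_one] at e1; simp [e1])
    · exact h4 (by rw [show 4 = (1 + 1) * 2 from rfl, pow_mul, e1, one_pow])
    · exact h3 e1
    · exact h4 e1
  have h1 : ((Finset.range 5).image fun n => θ ^ n * A) ⊆ {a, b, c, d} := fun y hy => by
    obtain ⟨n, -, rfl⟩ := Finset.mem_image.1 hy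
    simp only [Finset.mem_insert, Finset.mem_singleton]
    by_contra h'
    push Not at h'
    exact hc ⟨n, h'⟩
  have h2 := (Finset.card_le_card h1).trans Finset.card_le_four
  rw [Finset.card_image_of_injOn fun m hm n hn e => by
    rcases lt_trichotomy m n with h | h | h
    exacts [(k m n h (by simpa using hn) e).elim, h, (k n m h (by simpa using hm) e.symm).elim]] at h2
  simp at h2

theorem big_end {θ p : K} (h0 : θ ≠ 0) (h3 : θ ^ 3 ≠ 1) (h4 : θ ^ 4 ≠ 1) (hp : p ≠ 0)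
    (h : ∀ n : ℕ, θ ^ n ≠ 1 → p * (2 - θ ^ n - (θ ^ n)⁻¹) = 1 ∨ p * (2 - θ ^ n - (θ ^ n)⁻¹) = 2) : False := by
  have h1 : θ ^ 1 ≠ 1 := fun e => h3 (by rw [pow_one] at e; simp [e])
  have h2 : θ ^ 2 ≠ 1 := fun e => h4 (by rw [show 4 = 2 * 2 from rfl, pow_mul, e, one_pow])
  have k := fun m n e => big_eq hp (pow_ne_zero m h0) (pow_ne_zero n h0) e
  have n12 : p * (2 - θ ^ 1 - (θ ^ 1)⁻¹) ≠ p * (2 - θ ^ 2 - (θ ^ 2)⁻¹) := fun e => (k _ _ e).elim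
    (fun e => h1 (mul_left_cancel₀ h0 (by linear_combination -e))) fun e => h3 (by linear_combination e)
  have n13 : p * (2 - θ ^ 1 - (θ ^ 1)⁻¹) ≠ p * (2 - θ ^ 3 - (θ ^ 3)⁻¹) := fun e => (k _ _ e).elim
    (fun e => h2 (mul_left_cancel₀ h0 (by linear_combination -e))) fun e => h4 (by linear_combination e)
  have h5 : p * (2 - θ ^ 2 - (θ ^ 2)⁻¹) = p * (2 - θ ^ 3 - (θ ^ 3)⁻¹) → θ ^ 5 = 1 := fun e =>
    (k _ _ e).elim (fun e => (h1 (mul_left_cancel₀ (pow_ne_zero 2 h0) (by linear_combination -e))).elim)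
      fun e => by linear_combination e
  have fin : θ ^ 5 = 1 → ∀ c : K, 3 * (θ + θ⁻¹) = c → c ^ 2 + 3 * c = 4 → False := fun e5 c e1 e2 => by
    have e3 : θ ^ 4 + θ ^ 3 + θ ^ 2 + θ + 1 = 0 :=
      mul_left_cancel₀ (sub_ne_zero.2 h1) (by linear_combination e5)
    have e4 : (θ + θ⁻¹) ^ 2 + (θ + θ⁻¹) = 1 := by field_simp; linear_combination e3
    have e6 : (5 : K) = 0 := by rw [← e1] at e2; linear_combination e2 - 9 * e4
    refine h1 (sub_eq_zero.1 ((pow_eq_zero_iff (n := 5) (by decide)).1 ?_))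
    linear_combination e5 + (-θ ^ 4 + 2 * θ ^ 3 - 2 * θ ^ 2 + θ) * e6
  have sq : θ ^ 5 = 1 → 2 - θ ^ 2 - (θ ^ 2)⁻¹ = 3 + (θ + θ⁻¹) := fun e5 => by
    have e3 : θ ^ 4 + θ ^ 3 + θ ^ 2 + θ + 1 = 0 :=
      mul_left_cancel₀ (sub_ne_zero.2 h1) (by linear_combination e5)
    field_simp; linear_combination -e3
  rcases h 1 h1 with a | a <;> rcases h 2 h2 with b | b
  · exact n12 (a.trans b.symm)
  · have e5 := h5 (b.trans ((h 3 h3).resolve_left fun c => n13 (a.trans c.symm)).symm)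
    rw [sq e5] at b; rw [pow_one] at a
    exact fin e5 1 (mul_left_cancel₀ hp (by linear_combination b - 2 * a)) (by norm_num)
  · have e5 := h5 (b.trans ((h 3 h3).resolve_right fun c => n13 (a.trans c.symm)).symm)
    rw [sq e5] at b; rw [pow_one] at a
    exact fin e5 (-4) (mul_left_cancel₀ hp (by linear_combination 2 * b - a)) (by norm_num)
  · exact n12 (a.trans b.symm)

variable [IsAlgClosed K] [Finite Γ]

theorem RH.not_ppp (r : RH ρ) {e x : Fin 3 → V4 K} {θ p : K} (F : Fr ρ e x θ) (h3 : θ ^ 3 ≠ 1)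
    (h4 : θ ^ 4 ≠ 1) (a : D ρ v f) (hp : p ≠ 0) (h : ∀ i, pp e x v f i = p) : False := by
  have d := F.du
  have n01 : (0 : Fin 3) ≠ 1 := by decide
  have n12 : (1 : Fin 3) ≠ 2 := by decide
  have n02 : (0 : Fin 3) ≠ 2 := by decide
  have h0 := F.ne n01
  have ha : ∀ i, x i ⬝ᵥ v ≠ 0 := fun i => left_ne_zero_of_mul (h i ▸ hp : pp e x v f i ≠ 0)
  have hα : ∀ i, f ⬝ᵥ e i = p / (x i ⬝ᵥ v) := fun i => by
    rw [eq_div_iff (ha i), mul_comm]; exact h i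
  have a0 := ha 0
  have a1 := ha 1
  have a2 := ha 2
  have key : ∀ φ, Sw ρ e x 0 1 φ → φ * (x 0 ⬝ᵥ v / x 1 ⬝ᵥ v) ≠ 1 →
      p * (2 - φ * (x 0 ⬝ᵥ v / x 1 ⬝ᵥ v) - (φ * (x 0 ⬝ᵥ v / x 1 ⬝ᵥ v))⁻¹) = 1 ∨
      p * (2 - φ * (x 0 ⬝ᵥ v / x 1 ⬝ᵥ v) - (φ * (x 0 ⬝ᵥ v / x 1 ⬝ᵥ v))⁻¹) = 2 := fun φ s n1 => by
    by_contra hc
    push Not at hc
    have φ0 := s.1
    obtain ⟨y, z, hz⟩ := big_two hp 1
    obtain ⟨n, b1, b2, b3, b4⟩ := big_five h0 h3 h4 (div_ne_zero a1 a2) 1 (φ * (x 0 ⬝ᵥ v / x 1 ⬝ᵥ v))⁻¹ y z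
    have t := (F.pow le_rfl n).th 1 2 n12
    obtain ⟨ψ, hψ⟩ : ∃ ψ, ψ = θ ^ n := ⟨_, rfl⟩
    rw [← hψ] at t b1 b2 b3 b4
    have ψ0 := t.1
    have l1 : lam v f (e 0 - φ • e 1) (x 0 - φ⁻¹ • x 1) =
        p * (2 - φ * (x 0 ⬝ᵥ v / x 1 ⬝ᵥ v) - (φ * (x 0 ⬝ᵥ v / x 1 ⬝ᵥ v))⁻¹) := by
      simp only [lam, sub_dotProduct, dotProduct_sub, smul_dotProduct, dotProduct_smul, smul_eq_mul, hα]
      field_simp; ring
    have := r.ns_one s.2 t.2 a (fun e => ?_) ?_ (l1 ▸ hc.1) (l1 ▸ hc.2)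
    · refine (hz _ (mul_ne_zero ψ0 (div_ne_zero a1 a2)) (Eq.trans ?_ this)).elim b3 b4
      simp only [lam, sub_dotProduct, dotProduct_sub, smul_dotProduct, dotProduct_smul, smul_eq_mul, hα]
      field_simp; ring
    · simp only [sub_dotProduct, dotProduct_sub, smul_dotProduct, dotProduct_smul, smul_eq_mul, hα, d.eq,
        d.ne n01, d.ne n12, d.ne n02, d.ne n01.symm, d.ne n12.symm, d.ne n02.symm] at e
      have k1 : φ * x 0 ⬝ᵥ v - x 1 ⬝ᵥ v ≠ 0 := fun k => n1 (by field_simp; linear_combination k)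
      have k2 : ψ * x 1 ⬝ᵥ v - x 2 ⬝ᵥ v ≠ 0 := fun k => b1 (by field_simp; linear_combination k)
      have k3 : φ * ψ * x 0 ⬝ᵥ v - x 2 ⬝ᵥ v ≠ 0 := fun k => b2 (by field_simp; linear_combination k)
      refine mul_ne_zero (mul_ne_zero k1 k2) k3 ?_
      field_simp at e
      linear_combination -e
    · simp only [lam, sub_dotProduct, dotProduct_sub, smul_dotProduct, dotProduct_smul, smul_eq_mul, d.eq,
        d.ne n01, d.ne n12, d.ne n02, d.ne n01.symm, d.ne n12.symm, d.ne n02.symm]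
      field_simp; ring
  obtain ⟨y, z, hz⟩ := big_two hp 1
  obtain ⟨y', z', hz'⟩ := big_two hp 2
  obtain ⟨n, b1, b2, b3, b4⟩ := big_five h0 h3 h4 (div_ne_zero a0 a1) y z y' z'
  have e1 : θ ^ n * (x 0 ⬝ᵥ v / x 1 ⬝ᵥ v) = 1 := by
    by_contra c
    have c0 := mul_ne_zero (pow_ne_zero n h0) (div_ne_zero a0 a1)
    exact (key _ ((F.pow le_rfl n).th 0 1 n01) c).elim (fun e => (hz _ c0 e).elim b1 b2)
      fun e => (hz' _ c0 e).elim b3 b4
  refine big_end h0 h3 h4 hp fun m hm => ?_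
  have := key _ ((F.pow le_rfl (m + n)).th 0 1 n01)
  rw [pow_add, mul_assoc, e1, mul_one] at this
  exact this hm

theorem RH.not_big (r : RH ρ) {e x : Fin 3 → V4 K} {θ : K} (F : Fr ρ e x θ) (h3 : θ ^ 3 ≠ 1)
    (h4 : θ ^ 4 ≠ 1) : False := by
  have h1 : θ ≠ 1 := fun e => h3 (by simp [e])
  have h2 : θ ^ 2 ≠ 1 := fun e => h4 (by rw [show 4 = 2 * 2 from rfl, pow_mul, e, one_pow])
  refine r.climb F h1 fun e x F v f a => ?_
  by_cases hm : Mon e x v f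
  · exact .inr (.inr hm)
  have pr := fun {i j} (hij : i ≠ j) => r.pair_big F h3 h4 a hij
  by_cases hz : ∃ i j, i ≠ j ∧ pp e x v f i = 1 ∧ Zr e x v f j
  swap
  · have k : ∀ i, pp e x v f i = pp e x v f 0 := fun i => by
      by_cases c : i = 0
      · rw [c]
      rcases pr c with h | h | h | h
      exacts [h, (hz ⟨_, _, c, h⟩).elim, (hz ⟨_, _, Ne.symm c, h⟩).elim, (hm h).elim]
    by_cases p0 : pp e x v f 0 = 0
    · exact .inl (F.zero r.toTame h1 le_rfl a fun i => (k i).trans p0)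
    · exact (r.not_ppp F h3 h4 a p0 k).elim
  obtain ⟨i, j, hij, pi, z⟩ := hz
  obtain ⟨l, hli, hlj⟩ := exists_third le_rfl i j
  have all : ∀ m, m ≠ i → m ≠ l → m = j := fun m => by
    clear pi z pr; revert i j l m; decide
  have pj : pp e x v f j = 0 := by rw [pp, z.1, zero_mul]
  have one : Zr e x v f l → ∃ i, pp e x v f i = 1 ∧ ∀ j, j ≠ i → Zr e x v f j := fun zl =>
    ⟨i, pi, fun m hm => by
      by_cases c : m = l
      exacts [c ▸ zl, all m hm c ▸ z]⟩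
  rcases pr hlj with h | h | h | h
  · exact .inr (.inl (one (F.zero_of r.toTame h1 a hlj (h.trans pj) z)))
  swap
  · exact .inr (.inl (one h.2))
  swap
  · exact (hm h).elim
  have mon := fun h' => hm (F.du.mon hli.symm h' pi h.1 fun m c1 c2 => all m c1 c2 ▸ z)
  obtain ⟨c2, b1⟩ := (F.two r.toTame h2 a hli.symm hij.symm hlj.symm pi h.1 z).resolve_left mon
  obtain ⟨-, b2⟩ := ((F.pow le_rfl 2).two r.toTame (by rwa [← pow_mul]) a hli.symm hij.symm hlj.symm pi h.1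
    z).resolve_left mon
  have h0 := F.ne hij
  have e1 := smul_left_injective K (fun c => b1.2.2.1 (by rw [c, smul_zero])) (r.ctr b1 b2)
  have e2 : θ ^ 2 + (θ ^ 2)⁻¹ = (θ + θ⁻¹) ^ 2 - 2 := by field_simp; ring
  rw [e2, c2, sub_zero] at e1
  have e3 : θ + θ⁻¹ ≠ 0 := fun c => h2 (by field_simp at c; linear_combination c - c2)
  have e4 : (θ + θ⁻¹) ^ 2 = 1 := mul_left_cancel₀ (pow_ne_zero 2 e3) (by linear_combination -e1)
  field_simp at e4
  exact (h3 (sub_eq_zero.1 ((pow_eq_zero_iff (n := 2) (by decide)).1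
    (by linear_combination (θ ^ 2 - 1) * e4 + (1 - θ ^ 3) * c2)))).elim

theorem RH.lam (r : RH ρ) : Lam ρ := fun _ _ _ _ _ _ a b c n => by
  by_contra hc
  obtain ⟨e, x, θ, F, h3, h4⟩ := r.big_of a b c n (fun h => hc (.inl h)) fun h => hc (.inr h)
  exact r.not_big F h3 h4

end Cfsg.Agent.D4
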