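import Cfsg.Agent.D4.L3
import Cfsg.Agent.DIM5.U3

/-!
The groups `U₃(r)`.
-/

set_option autoImplicit false
set_option linter.unusedSectionVars false
set_option linter.unusedVariables false
set_option linter.style.haveILetI false

open Matrix
open scoped MatrixGroups

namespace Cfsg.Agent.D4

variable {K : Type*} [Field K] {Γ X : Type*} [Group Γ] [Group X] {ρ : Γ →* M4 K} {π : Γ →* X}
variable [IsAlgClosed K] [Finite Γ]

open Cfsg.Agent.H10 Cfsg.Agent.H49.U3
open D5 (cov_su3 su3_gen su3_comm su3_ne shift3 dg3)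

section

variable {F : Type*} [Field F] [Fintype F] {q : ℕ} [hF : Fact (Fintype.card F = q ^ 2)]
variable {e w f : Fin 3 → F}

theorem u3_cube (h3 : (3 : F) = 0) {z : Fin 3 → F} {b : F} (he : hermForm 3 F q e e = 0)
    (hz : hermForm 3 F q z e = 0) (hb : b + H10.cj F q b = hermForm 3 F q z z) :
    eichSU he hz hb ^ 3 = 1 := sm_injective (by
  have z3 : z + (z + z) = 0 := by
    ext i; simp only [Pi.add_apply, Pi.zero_apply]; linear_combination z i * h3
  rw [pow_three, sm_mul, sm_mul, sm_eichSU, eich_mul he hz hz, eich_mul he hz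
    (by rw [herm_add_left, hz, add_zero]), z3, eich_zero, herm_add_left, sm_one, ← ut_zero (q := q) e]
  congr 1
  linear_combination (-b - hermForm 3 F q z z) * h3)

theorem u3_heis (h3 : (3 : F) = 0) (hfr : Frame q e w f) {c : F} (hc : H10.cj F q c = -c) :
    ∃ x y : SU 3 F q, x * y = utSU hfr.ee hc * (y * x) ∧ sm x *ᵥ e = e ∧ sm y *ᵥ e = e ∧
      x ^ 3 = 1 ∧ y ^ 3 = 1 := by
  obtain ⟨a, ha⟩ := exists_sub_cj_eq hc
  have y1 : hermForm 3 F q (a • w) e = 0 := by rw [herm_smul_left, hfr.we, mul_zero]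
  obtain ⟨b1, hb1⟩ := exists_trace_eq (cj_herm (q := q) (a • w) (a • w))
  obtain ⟨b2, hb2⟩ := exists_trace_eq (cj_herm (q := q) w w)
  refine ⟨eichSU hfr.ee y1 hb1, eichSU hfr.ee hfr.we hb2, sm_injective ?_,
    eich_mulVec_self hfr.ee y1 _, eich_mulVec_self hfr.ee hfr.we _, u3_cube h3 _ _ _, u3_cube h3 _ _ _⟩
  rw [sm_mul, sm_mul, sm_mul, sm_utSU, sm_eichSU, sm_eichSU, eich_mul hfr.ee y1 hfr.we,
    eich_mul hfr.ee hfr.we y1, ← neg_neg c, ← eich_zero, eich_mul hfr.ee (herm_zero_left e)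
      (by rw [herm_add_left, hfr.we, y1, add_zero]), herm_zero_right, herm_smul_left,
      herm_smul_right, hfr.ww, zero_add, add_comm w]
  congr 1
  linear_combination -ha

end

theorem Hyp.u3_even (h : Hyp ρ π) (h2 : (2 : K) = 0) {r : ℕ} (e : IsU3 X r) (h3 : 4 ≤ r)
    (hr : Even r) : False := by
  classical
  obtain ⟨F, _, _, hF, ⟨e⟩⟩ := e
  haveI := Fact.mk hF
  have c := cov_su3 e
  obtain ⟨l, k, hlp, hl, k0, hk⟩ := exists_char_pow_of_card_sq hF
  have qb : IsIsom r (shift3 F) := (isIsom_iff _).2 (by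
    ext i j
    fin_cases i <;> fin_cases j <;> simp [shift3, Matrix.mul_apply, Fin.sum_univ_three])
  have qd : ∀ a b d : F, a * cj F r a = 1 → b * cj F r b = 1 → d * cj F r d = 1 →
      IsIsom r (dg3 a b d) := fun a b d h1 h2 h3 => (isIsom_iff _).2 (by
    ext i j
    fin_cases i <;> fin_cases j <;> simp [dg3, Matrix.mul_apply, Fin.sum_univ_three, h1, h2, h3])
  obtain rfl : l = 2 := ((Nat.prime_dvd_prime_iff_eq Nat.prime_two hlp).1
    (Nat.prime_two.dvd_of_dvd_pow (hk ▸ hr.two_dvd))).symm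
  have hr0 : (r : K) = 0 := by rw [hk, Nat.cast_pow, Nat.cast_ofNat, h2, zero_pow k0.ne']
  obtain ⟨s, hs⟩ := IsCyclic.exists_ofOrder_eq_natCard (α := Fˣ)
  rw [Nat.card_units, Nat.card_eq_fintype_card, hF, show r ^ 2 - 1 = (r - 1) * (r + 1) by
    rw [mul_comm, ← Nat.sq_sub_sq]] at hs
  have hμ : ∀ t : rootsOfUnity (r + 1) F, ((t : Fˣ) : F) * cj F r (t : Fˣ) = 1 := fun t => by
    rw [mul_cj_eq_pow]; exact (mem_rootsOfUnity' _ _).1 t.2
  refine h.c3torus (h.c3inj h2) c ((Units.coeHom F).comp (rootsOfUnity (r + 1) F).subtype)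
    (Units.val_injective.comp Subtype.val_injective)
    (fun a b => qd _ _ _ (hμ a) (hμ b) (hμ (a * b)⁻¹)) qb
    ((isIsom_iff _).2 (by
      ext i j
      fin_cases i <;> fin_cases j <;> simp [Matrix.mul_apply, Fin.sum_univ_three]))
    (n := r + 1) (by rw [Nat.cast_succ, hr0]; simp) (fun s => Subtype.ext s.2)
    (s := ⟨s ^ (r - 1), by rw [mem_rootsOfUnity, ← pow_mul, ← hs, pow_orderOf_eq_one]⟩)
    (fun e => ?_) fun H w y a b hw hy h1 h2 => su3_gen (by omega) H hw hy h1 h2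
  have : orderOf s ∣ (r - 1) * 6 := orderOf_dvd_of_pow_eq_one (by
    rw [pow_mul]; exact congrArg Subtype.val e)
  rw [hs] at this
  have := Nat.dvd_of_mul_dvd_mul_left (by omega) this
  have h6 := Nat.le_of_dvd (by norm_num) this
  obtain ⟨j, hj⟩ := hr
  obtain rfl : r = 4 := by omega
  simp at this

theorem Hyp.u33 (h : Hyp ρ π) (n : NoTv ρ) (h2 : (2 : K) ≠ 0) (e : IsU3 X 3) : False := by
  classical
  obtain ⟨F, _, _, hF, ⟨e⟩⟩ := e
  haveI := Fact.mk hF
  have c := cov_su3 e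
  have f3 : (3 : F) = 0 := by
    have := FiniteField.cast_card_eq_zero F
    rw [hF, Nat.cast_pow] at this
    exact_mod_cast pow_eq_zero_iff (n := 2) (by norm_num) |>.1 this
  obtain ⟨v, w, f, hfr⟩ := H69.exists_frame' (F := F) (q := 3)
  obtain ⟨a, a0, ha⟩ := exists_skew F 3
  obtain ⟨x, y, e1, hx, hy, x3, y3⟩ := u3_heis f3 hfr ha
  refine h.c3heis n (e.symm.toMonoidHom.comp (QuotientGroup.mk' _)) e1 (su3_comm _ ha hx)
    (su3_comm _ ha hy) (fun e => ?_) x3 y3 (c.inj ?_) ?_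
  · obtain ⟨_, ht⟩ := (c.ker _).1 e
    exact a0 (su3_ne hfr ht)
  · rw [map_pow, map_one]
    change unitaryTransvection 3 3 v a ^ 3 = 1
    rw [ut_pow hfr.ee, Nat.cast_ofNat, f3, zero_mul, ut_zero]
  · obtain ⟨b, b0, hb⟩ := exists_norm_neg_one (F := F) (q := 3)
    have hv : hermForm 3 F 3 (b • v) (b • v) = 0 := by
      rw [herm_smul_left, herm_smul_right, hfr.ee, mul_zero, mul_zero]
    obtain ⟨g, hg⟩ := H69.exists_SU_move hfr hv (smul_ne_zero b0 hfr.e_ne)
    refine isConj_iff.2 ⟨g, (H69.conj_utSU hfr.ee hv ha hg).trans (eq_inv_of_mul_eq_one_left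
      (sm_injective ?_))⟩
    rw [sm_mul, sm_utSU, sm_utSU, ut_smul, ut_mul_ut, hb, hfr.ee, sm_one, ← ut_zero (q := 3) v]
    congr 1
    ring

end Cfsg.Agent.D4
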