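import Cfsg.Agent.D4.WF40

/-!
Centralisers of sign changes.
-/

set_option autoImplicit false

open Matrix
open scoped MatrixGroups

namespace Cfsg.Agent.D4

open WF WB

variable {K : Type*} [Field K] {G X : Type*} [Group G] [Group X] {σ : G →* M6 K} {π : G →* X}

/-- A matrix acting on the coordinates `2, 3`. -/
def WF.Rm (a c b d : K) : M6 K :=
  !![1, 0, 0, 0, 0, 0; 0, 1, 0, 0, 0, 0; 0, 0, a, c, 0, 0; 0, 0, b, d, 0, 0; 0, 0, 0, 0, 1, 0; 0, 0, 0, 0, 0, 1]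

theorem WF.Rm_mul (a c b d a' c' b' d' : K) : Rm a c b d * Rm a' c' b' d' =
    Rm (a * a' + c * b') (a * c' + c * d') (b * a' + d * b') (b * c' + d * d') := by
  ext i j
  fin_cases i <;> fin_cases j <;> simp [Rm, mul_apply, Fin.sum_univ_six]

theorem WF.Rm_tr (a c b d : K) : (Rm a c b d)ᵀ = Rm a b c d := by
  ext i j
  fin_cases i <;> fin_cases j <;> simp [Rm]

theorem WF.Rm_aa (a c b d : K) : Rm a c b d * aa 4 5 = aa 4 5 * Rm a c b d := by
  ext i j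
  rw [aa, mul_diagonal, diagonal_mul]
  fin_cases i <;> fin_cases j <;> simp [Rm]

theorem WF.Rm_aa' (a c b d : K) : Rm a c b d * aa 2 3 = aa 2 3 * Rm a c b d := by
  ext i j
  rw [aa, mul_diagonal, diagonal_mul]
  fin_cases i <;> fin_cases j <;> simp [Rm]

theorem WF.Rm_b (a c b d : K) : (b4 (Rm a c b d)).det = a * d - b * c ∧ b2 (Rm a c b d) = 1 := by
  constructor
  · have : b4 (Rm a c b d) = !![1, 0, 0, 0; 0, 1, 0, 0; 0, 0, a, c; 0, 0, b, d] := by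
      ext i j
      fin_cases i <;> fin_cases j <;> simp [Rm, b4]
    rw [this]
    simp [det_succ_row_zero, Fin.sum_univ_succ, Fin.succAbove]
    ring
  · ext i j
    fin_cases i <;> fin_cases j <;> simp [Rm, b2]

theorem WF.eq_Rm {M : M6 K} (o : Mᵀ * M = 1) (e : ∀ i, i ≠ 2 → i ≠ 3 → M *ᵥ ee i = ee i) :
    M = Rm (M 2 2) (M 2 3) (M 3 2) (M 3 3) := by
  have col : ∀ k i, i ≠ 2 → i ≠ 3 → M k i = if k = i then 1 else 0 := fun k i a b => by
    simpa [Pi.single_apply] using congrFun (e i a b) k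
  have row : ∀ k i, i ≠ 2 → i ≠ 3 → M i k = if k = i then 1 else 0 := fun k i a b => by
    have : Mᵀ *ᵥ ee i = ee i := by
      conv_lhs => rw [← e i a b]
      rw [mulVec_mulVec, o, one_mulVec]
    simpa [Pi.single_apply] using congrFun this k
  ext i j
  fin_cases i <;> fin_cases j <;> simp [Rm, col, row]

theorem WF.pow4 (h2 : (2 : K) ≠ 0) {H : Type*} [Group H] {φ : H →* M3 K}
    (b : ∀ g, φ g ^ 3 = 1 ∨ φ g ^ 4 = 1 ∨ φ g ^ 5 = 1) {g s : H} (c : g * s = s * g) (hs : φ s = s3 0) :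
    φ (g ^ 4) = 1 := by
  have ss : φ s ^ 2 = 1 := by
    rw [hs, s3, diagonal_pow, ← diagonal_one]
    refine congrArg _ (funext fun k => ?_)
    simp only [Pi.pow_apply]
    split_ifs <;> simp
  have cm : Commute (φ g) (φ s) := by rw [Commute, SemiconjBy, ← map_mul, c, map_mul]
  have s1 : φ s ≠ 1 := fun e => by
    have := congrFun (congrFun (hs.symm.trans e) 1) 1
    simp [s3] at this
    exact h2 (by linear_combination -this)
  have o : ∀ g, φ g ^ 3 = 1 ∨ φ g ^ 5 = 1 → φ g ^ 15 = 1 := fun g e => by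
    rcases e with e | e
    · rw [show 15 = 3 * 5 from rfl, pow_mul, e, one_pow]
    · rw [show 15 = 5 * 3 from rfl, pow_mul, e, one_pow]
  rw [map_pow]
  by_contra n
  have n' : φ (g * s) ^ 4 ≠ 1 := by
    rwa [map_mul, cm.mul_pow, show 4 = 2 * 2 from rfl, pow_mul (φ s), ss, one_pow, mul_one]
  have o' : ∀ g, φ g ^ 4 ≠ 1 → φ g ^ 15 = 1 := fun g e =>
    o g ((b g).imp_right fun f => f.resolve_left e)
  have := o' (g * s) n'
  rw [map_mul, cm.mul_pow, o' g n, one_mul, show 15 = 2 * 7 + 1 from rfl, pow_succ,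
    pow_mul, ss, one_pow, one_mul] at this
  exact s1 this

variable [IsAlgClosed K] [Finite G]

theorem WF.rot4_one (h : HW σ π) (F : Frm σ) (c : c3 ∈ Yg σ) {g : G}
    (e : ∀ i, i ≠ 2 → i ≠ 3 → σ g *ᵥ ee i = ee i) : IsMono (σ g) 1 ∨ IsMono (σ g) (Equiv.swap 2 3) := by
  obtain ⟨a, c', b, d, hg⟩ : ∃ a c b d, σ g = Rm a c b d := ⟨_, _, _, _, eq_Rm (h.orth g) e⟩
  have gz : g ∈ Cz σ (aa 4 5) := by change σ g * _ = _ * σ g; rw [hg, Rm_aa]
  have n1 : (1 : K) ≠ -1 := fun e => h.two (by linear_combination e)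
  have dt : (b4 (σ g)).det = 1 := ((h.blk gz).2.2.resolve_right fun e => n1 (by
    rw [← e.2, hg, (Rm_b ..).2, det_one])).1
  have o := h.orth g
  rw [hg, Rm_tr, Rm_mul] at o
  have o1 : a * a + b * b = 1 := by simpa [Rm] using congrFun (congrFun o 2) 2
  have o2 : a * c' + b * d = 0 := by simpa [Rm] using congrFun (congrFun o 2) 3
  have dt' := dt
  rw [hg, (Rm_b ..).1] at dt'
  obtain rfl : d = a := by linear_combination a * dt' - d * o1 + b * o2
  obtain rfl : c' = -b := by linear_combination -b * dt' - c' * o1 + d * o2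
  obtain ⟨C, φ, ψ, hC, hφ, hψ, tφ, tψ⟩ := h.exists_c0
  obtain ⟨s, hs⟩ := F 2 3 (by decide)
  have sm : ((2, 3, 0) : Fin 6 × Fin 6 × Fin 3) ∈
    [(0, 1, 0), (2, 3, 0), (0, 2, 1), (2, 0, 1), (0, 3, 2), (2, 1, 2)] := by decide
  let g' : C := ⟨g, (hC g).2 ⟨gz, dt⟩⟩
  let s' : C := ⟨s, (hC s).2 (in0_aa h hs sm)⟩
  have cm : g' * s' = s' * g' := Subtype.ext (h.inj (by
    simp only [g', s', Subgroup.coe_mul, map_mul, hg, hs, Rm_aa']))
  obtain ⟨p1, p2⟩ := big h F c hC (Or.inl hφ)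
  obtain ⟨q1, q2⟩ := big h F c hC (Or.inr hψ)
  have r1 := pow4 h.two (tφ.big p1 p2).1 cm (by rw [hφ, hs]; exact (cp_aa h.two sm).2.1)
  have r2 := pow4 h.two (tψ.big q1 q2).1 cm (by rw [hψ, hs]; exact (cp_aa h.two sm).2.2)
  rw [hφ] at r1
  rw [hψ] at r2
  have i4 := (hC _).1 (g' ^ 4).2
  have k := cpm_ker h.two (h.blk i4.1).1 i4.2 r1 r2
  have p : σ (g' ^ 4 : C) = σ g * σ g * (σ g * σ g) := by
    rw [Subgroup.coe_pow, map_pow, show 4 = 2 * 2 from rfl, pow_mul, pow_two, pow_two]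
  rw [p, hg, Rm_mul, Rm_mul] at k
  have k1 := k.resolve_right fun e => n1 (by simpa [Rm, b4] using congrFun (congrFun e 0) 0)
  have k2 := congrFun (congrFun k1 2) 2
  simp only [Rm, b4, submatrix_apply, Fin.reduceCastAdd, of_apply, cons_val', cons_val, one_apply_eq] at k2
  have : 2 * 4 * (d * b) ^ 2 = 0 := by linear_combination (d * d + b * b + 1) * o1 - k2
  rcases mul_eq_zero.1 (pow_eq_zero_iff two_ne_zero |>.1
    ((mul_eq_zero.1 this).resolve_left (mul_ne_zero h.two (four h.two)))) with rfl | rfl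
  · refine Or.inr ⟨![1, 1, b, -b, 1, 1], fun j => ?_, ?_⟩
    · fin_cases j <;> simp <;> linear_combination o1
    · rw [hg]
      ext i j
      fin_cases i <;> fin_cases j <;> simp [Rm, mono, Equiv.swap_apply_def]
  · refine Or.inl ⟨![1, 1, d, d, 1, 1], fun j => ?_, ?_⟩
    · fin_cases j <;> simp <;> linear_combination o1
    · rw [hg]
      ext i j
      fin_cases i <;> fin_cases j <;> simp [Rm, mono]

theorem WF.pm_Yg (τ : S6) {u : S6} (c : τ * u * τ⁻¹ ∈ Yg σ) : u ∈ Yg (cw σ (pm τ)) :=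
  c.imp fun g m => (cw_pm_mono τ u g).2 m

theorem HW.rot4 (h : HW σ π) (F : Frm σ) (τ : S6) (c : τ * c3 * τ⁻¹ ∈ Yg σ) {g : G}
    (e : ∀ i, i ≠ 2 → i ≠ 3 → σ g *ᵥ ee (τ i) = ee (τ i)) :
    IsMono (σ g) 1 ∨ IsMono (σ g) (Equiv.swap (τ 2) (τ 3)) := by
  have := rot4_one (h.cw (pm τ)) (F.pm τ) (pm_Yg τ c) (g := g) fun i a b => by
    have := e i a b
    rw [pm_vec, ← pm_ee] at this
    have := congrArg ((pm τ : O6 K).1ᵀ *ᵥ ·) this
    simpa only [mulVec_mulVec, ← mul_assoc, (pm τ).2, one_mul, one_mulVec] using this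
  rwa [cw_pm_mono, cw_pm_mono, mul_one, mul_inv_cancel, ← Equiv.swap_apply_apply] at this

theorem WF.col_ext (h2 : (2 : K) ≠ 0) {M : M6 K} (h : M * aa 4 5 = aa 4 5 * M) (j : Fin 4) {v : V6 K}
    (a : ∀ k : Fin 4, M (k.castAdd 2) (j.castAdd 2) = v (k.castAdd 2)) (b : ∀ k : Fin 2, v (k.natAdd 4) = 0) :
    M *ᵥ ee (j.castAdd 2) = v := by
  funext m
  rw [mulVec_single_one]
  refine Fin.addCases (m := 4) (n := 2) (fun k => a k) (fun k => ?_) m
  exact ((Cz.blk h2 h j k).2).trans (b k).symm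

theorem WF.cast_ne (k : Fin 2) (i : Fin 4) : (k.natAdd 4 : Fin 6) ≠ i.castAdd 2 := by
  revert k i; decide

theorem WF.castA_inj {k i : Fin 4} : (k.castAdd 2 : Fin 6) = i.castAdd 2 ↔ k = i := by
  revert k i; decide

theorem WF.f4_one (h : HW σ π) (F : Frm σ) (c : c3 ∈ Yg σ) (s : Group.IsSolvable (Cz σ (aa 4 5))) {g : G}
    (hg : g ∈ Cz σ (aa 4 5)) : ∃ a b a' b' : Fin 3, a ≠ a' ∧ b ≠ b' ∧ ∀ j : Fin 4, ∃ e ∈ [1, -1], ∃ e' ∈ [1, -1],
      ∀ k : Fin 4, 4 * σ g (k.castAdd 2) (j.castAdd 2) ^ 2 = (Qz a b a' b' e e' k k : K) := by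
  obtain ⟨C, φ, ψ, hC, hφ, hψ, tφ, tψ⟩ := h.exists_c0
  obtain ⟨p1, p2⟩ := big h F c hC (Or.inl hφ)
  obtain ⟨q1, q2⟩ := big h F c hC (Or.inr hψ)
  have : Group.IsSolvable C := Group.isSolvable_of_isSolvable_injective
    (Subgroup.inclusion_injective fun g hg => ((hC g).1 hg).1)
  have key : ∀ g, In0 σ g → ∃ a b a' b' : Fin 3, a ≠ a' ∧ b ≠ b' ∧ ∀ j : Fin 4, ∃ e ∈ [1, -1], ∃ e' ∈ [1, -1],
      ∀ k : Fin 4, 4 * σ g (k.castAdd 2) (j.castAdd 2) ^ 2 = (Qz a b a' b' e e' k k : K) := fun g i => by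
    have a := (tφ.big p1 p2).2 inferInstance ⟨g, (hC g).2 i⟩
    have b := (tψ.big q1 q2).2 inferInstance ⟨g, (hC g).2 i⟩
    have a' := tφ.orth ⟨g, (hC g).2 i⟩
    have b' := tψ.orth ⟨g, (hC g).2 i⟩
    rw [hφ] at a a'
    rw [hψ] at b b'
    exact cols h.two (h.blk i.1).1 i.2 a' b' a b
  rcases (h.blk hg).2.2 with d | d
  · exact key g ⟨hg, d.1⟩
  obtain ⟨t, ht⟩ := F 3 4 (by decide)
  have tz : t ∈ Cz σ (aa 4 5) := by change σ t * _ = _ * σ t; rw [ht, aa_comm]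
  obtain ⟨a, b, a', b', n, n', q⟩ := key (g * t) ⟨mul_mem hg tz, by
    rw [map_mul, (b4_mul h.two hg _).1, det_mul, d.1, ht, b4_aa, det_diagonal]
    simp [Fin.prod_univ_four]⟩
  refine ⟨a, b, a', b', n, n', fun j => ?_⟩
  obtain ⟨e, he, e', he', q⟩ := q j
  refine ⟨e, he, e', he', fun k => ?_⟩
  rw [← q k, map_mul, ht, aa, mul_diagonal]
  split_ifs <;> simp

theorem HW.f4 (h : HW σ π) (F : Frm σ) (τ : S6) (c : τ * c3 * τ⁻¹ ∈ Yg σ)
    (s : Group.IsSolvable (Cz σ (aa (τ 4) (τ 5)))) {g : G} (hg : g ∈ Cz σ (aa (τ 4) (τ 5))) :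
    (∀ j : Fin 4, ∃ (i : Fin 4) (a : K), a * a = 1 ∧
      σ g *ᵥ ee (τ (j.castAdd 2)) = a • ee (τ (i.castAdd 2))) ∨
    (∀ i j : Fin 4, 4 * σ g (τ (i.castAdd 2)) (τ (j.castAdd 2)) ^ 2 = 1) ∨
    ∀ j : Fin 4, ∃ (i k : Fin 4) (a b : K), i ≠ k ∧ 2 * a ^ 2 = 1 ∧ 2 * b ^ 2 = 1 ∧
      σ g *ᵥ ee (τ (j.castAdd 2)) = a • ee (τ (i.castAdd 2)) + b • ee (τ (k.castAdd 2)) := by
  rw [← cz_pm h F τ (by decide)] at s hg
  obtain ⟨a, b, a', b', n, n', q⟩ := f4_one (h.cw (pm τ)) (F.pm τ) (pm_Yg τ c) s hg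
  have h4 := four h.two
  have z : ∀ x : K, 4 * x ^ 2 = 0 → x = 0 := fun x e =>
    pow_eq_zero_iff two_ne_zero |>.1 ((mul_eq_zero.1 e).resolve_left h4)
  rcases Qz_cases a b a' b' n n' with r | r | r
  · refine Or.inl fun j => ?_
    obtain ⟨e, he, e', he', q⟩ := q j
    obtain ⟨i, r⟩ := r e he e' he'
    refine ⟨i, D4.cw σ (pm τ) g (i.castAdd 2) (j.castAdd 2), ?_, ?_⟩
    · have := q i
      rw [r, if_pos rfl] at this
      exact mul_left_cancel₀ h4 (by push_cast at this; linear_combination this)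
    · rw [pm_vec, ← pm_ee, ← mulVec_smul]
      refine congrArg _ (col_ext h.two hg j (fun k => ?_) fun k => by simp [cast_ne])
      by_cases m : k = i
      · simp [m]
      · have := q k
        rw [r, if_neg m, Int.cast_zero] at this
        simp [castA_inj, m, z _ this]
  · refine Or.inr (Or.inl fun i j => ?_)
    obtain ⟨e, he, e', he', q⟩ := q j
    rw [← cw_pm_apply, q, r e he e' he', Int.cast_one]
  · refine Or.inr (Or.inr fun j => ?_)
    obtain ⟨e, he, e', he', q⟩ := q j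
    obtain ⟨i, l, m, r⟩ := r e he e' he'
    have t : ∀ k, k = i ∨ k = l → 2 * D4.cw σ (pm τ) g (k.castAdd 2) (j.castAdd 2) ^ 2 = 1 := fun k hk => by
      have := q k
      rw [r, if_pos hk] at this
      exact mul_left_cancel₀ h.two (by push_cast at this; linear_combination this)
    refine ⟨i, l, _, _, m, t i (Or.inl rfl), t l (Or.inr rfl), ?_⟩
    rw [pm_vec, ← pm_ee, ← pm_ee, ← mulVec_smul, ← mulVec_smul, ← mulVec_add]
    refine congrArg _ (col_ext h.two hg j (fun k => ?_) fun k => by simp [cast_ne])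
    by_cases m1 : k = i
    · simp [m1, castA_inj, m]
    by_cases m2 : k = l
    · simp [m2, castA_inj, m.symm]
    · have := q k
      rw [r, if_neg (by tauto), Int.cast_zero] at this
      simp [castA_inj, m1, m2, z _ this]

end Cfsg.Agent.D4
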