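import Cfsg.Agent.D4.WA2d
import Cfsg.Agent.D2M.AbIdx

/-!
A component `A₅` acting on a four-dimensional subspace.
-/

set_option autoImplicit false

open Matrix
open scoped MatrixGroups

namespace Cfsg.Agent.D4

variable {K : Type*} [Field K] {G X : Type*} [Group G] [Group X] {σ : G →* M6 K} {π : G →* X}

namespace W2

variable {L : Subgroup G}

theorem four (h : HW σ π) (f : L ≃* alternatingGroup (Fin 5)) {x y : G} (hx : x ∈ L)
    (ex : σ x = aa 0 1) (hy : y ∈ L) (ey : σ y = aa 0 2) :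
    let a := (f ⟨x, hx⟩).1
    let b := (f ⟨y, hy⟩).1
    (∀ l, l * a = a * l → l * b = b * l → l = 1 ∨ l = a ∨ l = b ∨ l = a * b) ∧
    (Equiv.Perm.sign a = 1 → Equiv.Perm.sign b = 1 → ∃ i j, i ≠ j ∧
      .swap i j * a * .swap i j = a ∧ .swap i j * b * .swap i j = a * b) := by
  have n1 : (-1 : K) ≠ 1 := fun e => h.two (by linear_combination -e)
  refine s5_four _ ?_ _ ?_
  all_goals
    simp only [← Subgroup.coe_mul, ← map_mul, ne_eq, OneMemClass.coe_eq_one, Subtype.val_inj,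
      map_eq_one_iff _ f.injective, f.injective.eq_iff]
    simp only [Subtype.ext_iff, ← h.inj.eq_iff, Subgroup.coe_mul, map_mul, ex, ey, aa_mul_self,
      OneMemClass.coe_one, map_one, true_and, aa_comm 0 1 0 2, and_true]
  · exact fun v => n1 (by simpa [aa] using congrFun (congrFun v 0) 0)
  · exact ⟨fun v => n1 (by simpa [aa] using congrFun (congrFun v 0) 0),
      fun v => n1 (by simpa [aa] using congrFun (congrFun v 1) 1)⟩

theorem exists_T [Finite G] {C P : Subgroup G} (hP : IsPGroup 2 P) (le : P ≤ C) :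
    ∃ T, P ≤ T ∧ T ≤ C ∧ IsPGroup 2 T ∧ ∀ R : Subgroup G, IsPGroup 2 R → T ≤ R →
      ∀ g ∈ R, g ∈ C → g ∈ T := by
  obtain ⟨Q, hQ⟩ := (hP.comap_subtype (K := C)).exists_le_sylow
  refine ⟨(Q : Subgroup C).map C.subtype, fun g hg => ⟨⟨g, le hg⟩, hQ hg, rfl⟩,
    Subgroup.map_subtype_le _, Q.isPGroup'.map _, fun R hR h g a b => ⟨⟨g, b⟩, ?_, rfl⟩⟩
  rw [← Q.is_maximal' (hR.comap_subtype (K := C)) (Subgroup.map_le_iff_le_comap.1 h)]
  exact a

theorem exists_u [Finite G] (h : HW σ π) (a : A2 σ L) (e : ¬ ∀ g ∈ L, σ g *ᵥ ee 3 = ee 3) {x y : G}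
    (hx : x ∈ L) (ex : σ x = aa 0 1) (hy : y ∈ L) (ey : σ y = aa 0 2) : ∃ u ∈ Cz σ (aa 4 5),
      ¬ In0 σ u ∧ u * u = 1 ∧ u * x * u⁻¹ = x ∧ u * y * u⁻¹ = x * y := by
  obtain ⟨u0, c0, n0⟩ := exists_out h a e
  obtain ⟨f⟩ := a.iso
  obtain ⟨τ, hτ⟩ := (S2119.result 5 (by norm_num) (by norm_num)).2 (MulAut.congr f
    (L.normalizerMonoidHom ⟨u0, Subgroup.mem_normalizer_fintype (a.nrm u0 c0)⟩))
  have act : ∀ s : Equiv.Perm (Fin 5), Equiv.Perm.sign s = Equiv.Perm.sign τ → ∃ u ∈ Cz σ (aa 4 5), ¬ In0 σ u ∧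
      ∀ l m : L, (f m).1 = s * f l * s⁻¹ → u * l * u⁻¹ = m := fun s hs => by
    obtain ⟨r, hr⟩ := f.surjective ⟨τ⁻¹ * s, by simp [Equiv.Perm.mem_alternatingGroup, hs]⟩
    refine ⟨u0 * r, mul_mem c0 (a.le r r.2).1.1, fun v => n0 ?_, fun l m v => ?_⟩
    · have : u0 * r * (r : G)⁻¹ ∈ So4.C0 h := mul_mem v ((So4.C0 h).inv_mem (a.le r r.2).1)
      rwa [mul_inv_cancel_right] at this
    · have := congrArg (fun α : MulAut _ => (α (f (r * l * r⁻¹))).1) hτ
      simp only [MulAut.conjNormal_apply, MulAut.congr_apply, MulEquiv.trans_apply,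
        MulEquiv.symm_apply_apply] at this
      rw [map_mul, map_mul, map_inv, hr] at this
      have w : f m = f (L.normalizerMonoidHom ⟨u0, Subgroup.mem_normalizer_fintype (a.nrm u0 c0)⟩
        (r * l * r⁻¹)) := Subtype.ext (by
          rw [← this, v]; simp only [Subgroup.coe_mul, Subgroup.coe_inv]; group)
      rw [f.injective w]
      change _ = u0 * (r * l * (r : G)⁻¹) * u0⁻¹
      group
  rcases Int.units_eq_one_or (Equiv.Perm.sign τ) with s | s
  · obtain ⟨u, cu, nu, k⟩ := act 1 (by simp [s])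
    refine (nu ⟨cu, ?_⟩).elim
    rcases cent h a e cu fun l hl => mul_inv_eq_iff_eq_mul.1 (k ⟨l, hl⟩ ⟨l, hl⟩ (by simp)) with v | v
    · rw [v, det_one]
    · rw [v, Matrix.det_neg, det_one]; norm_num
  obtain ⟨i, j, ij, s3, s4⟩ := (four h f hx ex hy ey).2 (f _).2 (f _).2
  obtain ⟨u, cu, nu, k⟩ := act (.swap i j) ((Equiv.Perm.sign_swap ij).trans s.symm)
  have k1 : u * x * u⁻¹ = x := k ⟨x, hx⟩ ⟨x, hx⟩ s3.symm
  have k2 : u * y * u⁻¹ = x * y := k ⟨y, hy⟩ (⟨x, hx⟩ * ⟨y, hy⟩) (by rw [map_mul]; exact s4.symm)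
  have s2 := Equiv.swap_mul_self i j
  refine ⟨u, cu, nu, ?_, k1, k2⟩
  have cc : ∀ l ∈ L, u * u * l = l * (u * u) := fun l hl => by
    obtain ⟨m, hm⟩ := f.surjective (MulAut.conjNormal (.swap i j) (f ⟨l, hl⟩))
    have a1 := k ⟨l, hl⟩ m (by rw [hm]; rfl)
    have a2 := k m ⟨l, hl⟩ (by rw [hm, MulAut.conjNormal_apply, ← mul_assoc, ← mul_assoc, s2, one_mul,
      mul_assoc, ← _root_.mul_inv_rev, s2, inv_one, mul_one])
    rw [← a1] at a2
    rw [← mul_inv_eq_iff_eq_mul, ← show u * (u * l * u⁻¹) * u⁻¹ = l from a2]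
    nth_rewrite 1 [show u * (u * l * u⁻¹) * u⁻¹ = l from a2]
    group
  have z1 := ent h.two (M := σ u) (i := 0) (j := 1) (k := 0) (l := 1) (by
    rw [← ex, ← map_mul, ← map_mul, mul_inv_eq_iff_eq_mul.1 k1])
  have z2 := ent h.two (M := σ u) (i := 0) (j := 2) (k := 1) (l := 2) (by
    rw [← aa_mul (i := 0) (j := 1) (k := 0) (l := 2) (m := 1) (by decide), ← ex, ← ey, ← map_mul,
      ← map_mul, ← map_mul, mul_inv_eq_iff_eq_mul.1 k2])
  have o := congrFun (congrFun (h.orth u) 2) 2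
  simp [mul_apply, Fin.sum_univ_six, z1, z2] at o
  refine h.inj (blk_ext h.two (mul_mem cu cu) (by simp) ?_ ?_) <;> rw [map_one]
  · rw [So4.b4_one.1]
    refine (cent h a e (mul_mem cu cu) cc).resolve_right fun v => h.two ?_
    have := congrFun (congrFun v 2) 2
    simp [b4, mul_apply, Fin.sum_univ_six, z1, z2, o] at this
    linear_combination this
  · obtain ⟨r1, r2, r3⟩ := refl2 (h.blk cu).2.1 (det_neg h cu nu).2
    rw [map_mul, (b4_mul h.two cu _).2, So4.b4_one.2]
    ext i j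
    fin_cases i <;> fin_cases j <;> simp [mul_apply, r1, r2] <;> grind

end W2

open W2

variable [IsAlgClosed K] [Finite G]

set_option linter.unusedSectionVars false in
theorem HW.a2b_cent (h : HW σ π) {L : Subgroup G} (a : A2 σ L)
    (e : ¬ ∀ g ∈ L, σ g *ᵥ ee 3 = ee 3) {k : G} (hk : k ∈ Cz σ (aa 4 5))
    (c : ∀ l ∈ L, k * l = l * k) : b4 (σ k) = 1 ∨ b4 (σ k) = -1 :=
  cent h a e hk c

theorem HW.not_a2b (h : HW σ π) {L : Subgroup G} (a : A2 σ L)
    (e : ¬ ∀ g ∈ L, σ g *ᵥ ee 3 = ee 3) : False := by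
  obtain ⟨t, ht⟩ := a.t
  obtain ⟨x, hx, ex⟩ := a.f1
  obtain ⟨y, hy, ey⟩ := a.f2
  obtain ⟨n, hn⟩ := h.neg
  obtain ⟨u, cu, nu, uu, ux, uy⟩ := exists_u h a e hx ex hy ey
  obtain ⟨f⟩ := a.iso
  have N := tr_ne h.two
  have xx : x * x = 1 := h.inj (by rw [map_mul, ex, aa_mul_self, map_one])
  have yy : y * y = 1 := h.inj (by rw [map_mul, ey, aa_mul_self, map_one])
  have tt : t * t = 1 := h.inj (by rw [map_mul, ht, aa_mul_self, map_one])
  have xy : x * y = y * x := h.inj (by rw [map_mul, map_mul, ex, ey, aa_comm])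
  have x1 : x ≠ 1 := fun v => N.1 (by rw [← map_one σ, ← v, ex, trace_aa (by decide)])
  have exy : σ (x * y) = aa 1 2 := by rw [map_mul, ex, ey]; exact aa_mul (by decide)
  have ct : ∀ k, k ∈ Cz σ (aa 4 5) ↔ k * t = t * k := fun k => by
    rw [← ht, WI.cz_eq h, Subgroup.mem_centralizer_singleton_iff]
  have cj : ∀ g k : G, (σ (g * k * g⁻¹)).trace = (σ k).trace := fun g k => by
    rw [map_mul, trace_mul_comm, ← map_mul, ← mul_assoc, inv_mul_cancel, one_mul]
  have nc : u * n = n * u := h.inj (by simp [hn])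
  have le0 : Subgroup.closure {x, y, t, n} ≤ MG σ ⊥ := (Subgroup.closure_le _).2 <| by
    rintro _ (rfl | rfl | rfl | rfl)
    exacts [⟨1, one_mem _, ex ▸ isMono_aa ..⟩, ⟨1, one_mem _, ey ▸ isMono_aa ..⟩,
      ⟨1, one_mem _, ht ▸ isMono_aa ..⟩, ⟨1, one_mem _, hn ▸ isMono_one.neg⟩]
  obtain ⟨T, le, tc, hT, mx⟩ := exists_T (C := Cz σ (aa 4 5))
    (P := Subgroup.closure {x, y, t, n} ⊔ Subgroup.zpowers u) (IsPGroup.to_sup_of_normal_left'
      (fun g => ⟨1, Subtype.ext (h.inj (by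
        obtain ⟨w, hw, ε, e1, e2⟩ := le0 g.2
        obtain rfl := Subgroup.mem_bot.1 hw
        rw [pow_one, Subgroup.coe_pow, pow_two, map_mul, e2, mono_mul, one_mul, OneMemClass.coe_one,
          map_one, ← mono_one]
        exact congrArg _ (funext e1)))⟩)
      (IsPGroup.of_card (n := 1) (by
        rw [Nat.card_zpowers, orderOf_eq_prime (p := 2) (x := u) (by rwa [pow_two])
          fun v => nu (by rw [v]; exact (So4.C0 h).one_mem)]
        rfl))
      (Subgroup.zpowers_le_of_mem (Subgroup.mem_normalizer_fintype fun k hk => by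
        refine (Subgroup.closure_le (((Subgroup.closure {x, y, t, n}).comap
          (MulAut.conj u).toMonoidHom))).2 ?_ hk
        have s := fun z (hz : z ∈ ({x, y, t, n} : Set G)) => Subgroup.subset_closure hz
        rintro _ (rfl | rfl | rfl | rfl) <;> change u * _ * u⁻¹ ∈ Subgroup.closure _
        · rw [ux]; exact s _ (by simp)
        · rw [uy]; exact mul_mem (s _ (by simp)) (s _ (by simp))
        · rw [(ct u).1 cu, mul_inv_cancel_right]; exact s _ (by simp)
        · rw [nc, mul_inv_cancel_right]; exact s _ (by simp))))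
    (sup_le ((Subgroup.closure_le _).2 (by
      rintro _ (rfl | rfl | rfl | rfl)
      exacts [(a.le _ hx).1.1, (a.le _ hy).1.1, (ct _).2 rfl, show _ = _ by simp [hn]]))
      (Subgroup.zpowers_le_of_mem cu))
  have s := fun z (hz : z ∈ ({x, y, t, n} : Set G)) =>
    le (Subgroup.mem_sup_left (Subgroup.subset_closure hz))
  have xT := s x (by simp); have yT := s y (by simp); have tT := s t (by simp)
  have nT := s n (by simp)
  have uT := le (Subgroup.mem_sup_right (Subgroup.mem_zpowers u))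
  have TK : ∀ k ∈ T, In0 σ k → ∃ z l, Zz σ L z ∧ l ∈ L ∧ k = z * l ∧
      (l = 1 ∨ l = x ∨ l = y ∨ l = x * y) := fun k hk i => by
    obtain ⟨z, l, hz, hl, rfl⟩ := dec h a e i
    have sq : ∀ m ∈ L, m ∈ T → l * m * (l * m) = 1 := fun m hm hm' => by
      obtain ⟨j, hj⟩ := hT ⟨_, mul_mem hk hm'⟩
      have := (pow_split a hz (mul_mem hl hm) (n := 2 ^ j)
        (by rw [← mul_assoc]; exact congrArg Subtype.val hj)).2
      have a5 : ∀ x : alternatingGroup (Fin 5), x * x = 1 ∨ x ^ 15 = 1 := by decide +kernel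
      rcases a5 (f ⟨_, mul_mem hl hm⟩) with v | v
      · rw [← map_mul, map_eq_one_iff _ f.injective] at v
        exact congrArg Subtype.val v
      · rw [← map_pow, map_eq_one_iff _ f.injective] at v
        have := pow_gcd_eq_one.2 ⟨show (l * m) ^ 15 = 1 from congrArg Subtype.val v, this⟩
        rw [Nat.Coprime.pow_right j (by norm_num), pow_one] at this
        rw [this, one_mul]
    have ll := sq 1 (one_mem _) (one_mem _)
    rw [mul_one] at ll
    have cm : ∀ m ∈ L, m ∈ T → m * m = 1 → l * m = m * l := fun m a b c => by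
      rw [← inv_eq_of_mul_eq_one_right (sq m a b), _root_.mul_inv_rev, inv_eq_of_mul_eq_one_right c,
        inv_eq_of_mul_eq_one_right ll]
    refine ⟨z, l, hz, hl, rfl, ?_⟩
    have := (four h f hx ex hy ey).1 (f ⟨l, hl⟩)
    simp only [← Subgroup.coe_mul, ← map_mul, OneMemClass.coe_eq_one, Subtype.val_inj,
      map_eq_one_iff _ f.injective, f.injective.eq_iff] at this
    simpa only [Subtype.ext_iff, Subgroup.coe_mul, OneMemClass.coe_one] using
      this (Subtype.ext (cm x hx xT xx)) (Subtype.ext (cm y hy yT yy))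
  have c0 : ∀ k ∈ T, In0 σ k → k * x = x * k ∧ k * y = y * k := fun k hk i => by
    obtain ⟨z, l, hz, hl, rfl, v⟩ := TK k hk i
    rw [← mul_assoc, ← mul_assoc, ← hz.2.2 x hx, ← hz.2.2 y hy]
    simp only [mul_assoc, mul_right_inj]
    rcases v with rfl | rfl | rfl | rfl <;> simp [← xy, mul_assoc]
    rw [← mul_assoc y, ← xy, mul_assoc]
  have out : ∀ k ∈ T, ¬ In0 σ k → k * x = x * k ∧ k * y = x * y * k := fun k hk i => by
    obtain ⟨v, w⟩ := c0 _ (mul_mem uT hk) ((par h cu (tc hk)).2 (iff_of_false nu i))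
    rw [show k = u * (u * k) by rw [← mul_assoc, uu, one_mul], mul_assoc, v, mul_assoc u, w,
      ← mul_assoc, ← mul_assoc u y, mul_inv_eq_iff_eq_mul.1 ux, mul_inv_eq_iff_eq_mul.1 uy]
    simp only [mul_assoc, and_self]
  have := h.finiteX
  have := h.simple
  obtain ⟨P, hP⟩ := (hT.map π).exists_le_sylow
  by_cases eq : T.map π = P
  · have n0 : n ∈ T ⊓ So4.C0 h := ⟨nT, tc nT, by
      rw [hn, show b4 (-1 : M6 K) = -1 from congrArg Neg.neg So4.b4_one.1, Matrix.det_neg]; norm_num⟩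
    refine not_rank h ht ex ey (D2M.abidx h.nonab P (T := (T ⊓ So4.C0 h).map π)
      ((Subgroup.map_mono inf_le_left).trans hP) ?_ ?_ (hP ⟨u, uT, rfl⟩)
      (fun v => nu ((mem_map h hn n0).1 v).2) (by rw [← map_mul, uu, map_one]) fun v => x1 ?_)
    · rw [← eq]
      refine Subgroup.index_eq_two_iff.2 ⟨⟨_, u, uT, rfl⟩, ?_⟩
      rintro ⟨_, k, hk, rfl⟩
      simp only [Subgroup.mem_subgroupOf, Subgroup.coe_mul, ← map_mul, mem_map h hn n0,
        Subgroup.mem_inf, show k ∈ T from hk, mul_mem hk uT, true_and]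
      change Xor (In0 σ _) (In0 σ _)
      rw [par h (tc hk) cu]
      tauto
    · rintro _ ⟨k, hk, rfl⟩ _ ⟨k', hk', rfl⟩
      obtain ⟨z, l, hz, hl, rfl, -⟩ := TK k hk.1 hk.2
      obtain ⟨z', l', hz', hl', e', v⟩ := TK k' hk'.1 hk'.2
      obtain ⟨p, q⟩ := c0 _ hk.1 hk.2
      have : z * l * l' = l' * (z * l) := by
        rcases v with rfl | rfl | rfl | rfl
        exacts [by simp, p, q, by rw [← mul_assoc, p, mul_assoc, q, mul_assoc]]
      rw [← map_mul, ← map_mul, e', mul_assoc z', ← this, ← mul_assoc, ← mul_assoc, ← mul_assoc,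
        ← hz.comm h hz', mul_assoc z z', hz'.2.2 l hl, mul_assoc z l]
    · have := congrArg Subtype.val (v.is_comm.comm ⟨_, hP ⟨u, uT, rfl⟩⟩ ⟨_, hP ⟨y, yT, rfl⟩⟩)
      have ty : (σ y).trace = 2 := ey ▸ trace_aa (by decide)
      simpa [uy] using h.conj_lift (k := u) ty ty (mul_inv_eq_iff_eq_mul.2 this)
  obtain ⟨g, gP, gN, ng, gg⟩ := WF.exists_sq P.isPGroup' hP eq
  obtain ⟨g, rfl⟩ := h.surj g
  rw [← map_mul, mem_map h hn nT] at gg
  have nrm : ∀ k, k ∈ T ↔ g * k * g⁻¹ ∈ T := fun k => by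
    rw [← mem_map h hn nT, ← mem_map h hn nT, map_mul, map_mul, map_inv]
    exact Subgroup.mem_normalizer_iff.1 gN _
  have gc : g * t * g⁻¹ ≠ t := fun v => ng ⟨g, mx _ (P.isPGroup'.comap_of_ker_isPGroup π fun k =>
    ⟨1, Subtype.ext (h.inj (by rcases (h.ker k).1 k.2 with w | w <;> simp [w]))⟩)
    (Subgroup.map_le_iff_le_comap.1 hP) g gP ((ct g).2 (mul_inv_eq_iff_eq_mul.1 v)), rfl⟩
  have cen : ∀ k ∈ T, k * (g * t * g⁻¹) = g * t * g⁻¹ * k := fun k hk => by
    have := (ct _).1 (tc ((nrm (g⁻¹ * k * g)).2 (by simpa [mul_assoc] using hk)))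
    simpa [mul_assoc] using congrArg (g * · * g⁻¹) this
  have zc : ∀ z, Zz σ L z → z * z = 1 → ∀ k ∈ T, k * z = z * k := fun z hz v k hk => h.inj <| by
    have : σ k * aa 4 5 = aa 4 5 * σ k := tc hk
    rcases hz.sq h v with w | w | w | w <;> simp [w, this]
  have et : σ (g * t * g⁻¹) = aa 0 1 ∨ σ (g * t * g⁻¹) = aa 2 3 := by
    obtain ⟨z, l, hz, hl, e1, v⟩ := TK _ ((nrm t).1 tT) (by_contra fun i => x1 (by
      simpa [cen y yT, mul_assoc] using (out _ ((nrm t).1 tT) i).2.symm.trans (cen y yT).symm))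
    have zz := (pow_split a hz hl (n := 2) (by rw [← e1, conj_pow, pow_two, tt]; simp)).1
    rw [pow_two] at zz
    have ul := cen u uT
    rw [e1, ← mul_assoc, zc z hz zz u uT, mul_assoc, mul_assoc, mul_right_inj,
      ← mul_inv_eq_iff_eq_mul] at ul
    have tr := (cj g t).trans (ht ▸ trace_aa (by decide))
    rw [e1, map_mul] at tr ⊢
    rcases v with rfl | rfl | rfl | rfl
    · rcases hz.sq h zz with w | w | w | w <;> rw [w, map_one, mul_one] at tr
      · exact (N.1 tr).elim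
      · exact (N.2.1 tr).elim
      · exact (gc (h.inj (by rw [e1, mul_one, w, ht]))).elim
      · exact (N.2.2 (by rwa [trace_neg, trace_aa (by decide)] at tr)).elim
    · rcases hz.sq h zz with w | w | w | w <;> rw [w, ex] at tr ⊢
      · exact Or.inl (one_mul _)
      · exact (N.2.2 (by rwa [neg_one_mul, trace_neg, trace_aa (by decide)] at tr)).elim
      · exact (N.2.2 (by
          rwa [aa_mul' (m := 2) (n := 3) (by decide), trace_neg, trace_aa (by decide)] at tr)).elim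
      · exact Or.inr (by rw [neg_mul, aa_mul' (m := 2) (n := 3) (by decide), neg_neg])
    · exact (x1 (by simpa [uy] using ul)).elim
    · rw [← conj_mul, ux, uy, ← mul_assoc, xx, one_mul] at ul
      exact (x1 (by simpa using ul)).elim
  have yT' := (nrm y).1 yT
  have t1 : (σ (g * y * g⁻¹)).trace = 2 := (cj g y).trans (ey ▸ trace_aa (by decide))
  have t2 : (σ (g * y * g⁻¹) * σ (g * t * g⁻¹)).trace = -2 := by
    rw [← map_mul, conj_mul, cj, map_mul, ey, ht, aa_mul' (m := 1) (n := 3) (by decide), trace_neg,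
      trace_aa (by decide)]
  have z12 : ∀ k ∈ T, ¬ In0 σ k → σ k 0 0 = 0 ∧ σ k 1 1 = 0 := fun k hk i => by
    have := ent h.two (M := σ k) (i := 0) (j := 2) (k := 1) (l := 2) (by
      rw [← ey, ← exy, ← map_mul, ← map_mul, (out k hk i).2])
    exact ⟨this _ _ (by decide), this _ _ (by decide)⟩
  by_cases i : In0 σ (g * y * g⁻¹)
  · obtain ⟨z, l, hz, hl, e1, v⟩ := TK _ yT' i
    have zz := (pow_split a hz hl (n := 2) (by rw [← e1, conj_pow, pow_two, yy]; simp)).1
    rw [pow_two] at zz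
    have : l * x = x * l → l = 1 ∨ l = x → False := fun _ v => x1 <| by
      have uT' := (nrm u).1 uT
      have : g * u * g⁻¹ * (g * y * g⁻¹) = g * y * g⁻¹ * (g * u * g⁻¹) := by
        rw [e1, ← mul_assoc, zc z hz zz _ uT', mul_assoc z, mul_assoc z, mul_right_inj]
        rcases v with rfl | rfl
        · simp
        · by_cases j : In0 σ (g * u * g⁻¹)
          exacts [(c0 _ uT' j).1, (out _ uT' j).1]
      rw [conj_mul, conj_mul, mul_left_inj, mul_right_inj, ← mul_inv_eq_iff_eq_mul, uy] at this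
      simpa using this
    have d : σ (g * y * g⁻¹) 0 0 + σ (g * y * g⁻¹) 1 1 = 0 ∧
        σ (g * y * g⁻¹) 2 2 + σ (g * y * g⁻¹) 3 3 = 0 := by
      rw [e1, map_mul]
      rcases v with rfl | rfl | rfl | rfl
      · exact (this (by simp) (Or.inl rfl)).elim
      · exact (this rfl (Or.inr rfl)).elim
      · rcases hz.sq h zz with w | w | w | w <;> simp [w, ey, aa]
      · rw [exy]
        rcases hz.sq h zz with w | w | w | w <;> simp [w, aa]
    rcases et with v | v <;> rw [v, trace_mul_aa _ (by decide), t1] at t2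
    · exact N.2.2 (by rw [← t2, d.1]; ring)
    · exact N.2.2 (by rw [← t2, d.2]; ring)
  obtain ⟨b0, b1⟩ := z12 _ yT' i
  rcases et with v | v
  · rw [v, trace_mul_aa _ (by decide), t1, b0, b1] at t2
    exact N.2.2 (by rw [← t2]; ring)
  have := last h.two (h.orth g) (h.det g) (by rw [← ht, ← v, ← map_mul, ← map_mul]; simp)
    (by
      rw [← ht, ← v, ← map_mul, ← map_mul, ← mul_assoc, ← mul_assoc, (ct _).1 (tc gg)]
      simp [mul_assoc]) (by rw [← ey, ← map_mul, ← map_mul]; simp) b0 b1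
  rw [← map_mul] at this
  by_cases j : In0 σ (g * g)
  · rw [((h.blk j.1).2.2.resolve_right fun w => h.two (by linear_combination -w.1.symm.trans j.2)).2,
      sub_self, mul_eq_zero] at this
    have z1 := ent h.two (M := σ (g * g)) (by rw [← ex, ← map_mul, (c0 _ gg j).1, map_mul, ex])
    have z2 := ent h.two (M := σ (g * g)) (by rw [← ey, ← map_mul, (c0 _ gg j).2, map_mul, ey])
    have o := congrFun (congrFun (h.orth (g * g)) 0) 0
    generalize σ (g * g) = M at this z1 z2 o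
    simp [mul_apply, Fin.sum_univ_six, z1, z2, this.resolve_left h.two] at o
  · rw [(z12 _ gg j).1, (det_neg h (tc gg) j).2] at this
    exact h.two (by linear_combination -this)

end Cfsg.Agent.D4
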