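import Cfsg.Agent.D4.SO3a

/-!
Finite groups of rotations in dimension three.
-/

set_option autoImplicit false

open Matrix
open scoped MatrixGroups

namespace Cfsg.Agent.D4

variable {K : Type*} [Field K] [IsAlgClosed K] {H : Type*} [Group H] [Finite H] {τ : H →* M3 K}

namespace SO

theorem not_solv_a5 {H : Type*} [Group H] (e : H ≃* alternatingGroup (Fin 5)) :
    ¬ Group.IsSolvable H := fun _ => by
  have hc := IsSimpleGroup.comm_iff_isSolvable.2
    (Group.isSolvable_of_surjective (f := e.toMonoidHom) e.surjective)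
  have := congrArg Subtype.val (hc
    ⟨Equiv.swap 0 1 * Equiv.swap 1 2, Equiv.Perm.mem_alternatingGroup.2 (by decide)⟩
    ⟨Equiv.swap 0 1 * Equiv.swap 1 3, Equiv.Perm.mem_alternatingGroup.2 (by decide)⟩)
  revert this
  decide

theorem solv0 (t : Tm τ) (hi : Function.Injective τ) :
    Group.IsSolvable H ∨ Nonempty (H ≃* alternatingGroup (Fin 5)) := by
  obtain ⟨p, hp, _⟩ := t.lf.char
  have := Fact.mk hp
  obtain ⟨_, ν, a⟩ := exists_act t hi p
  have := H85.isSolvable_perm_fin_four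
  rcases a.cases with ⟨x, e⟩ | ⟨x, y, n, q, e, w, hw⟩ | ⟨⟨e⟩⟩ | ⟨⟨e⟩⟩ | e
  · obtain ⟨χ, hχ⟩ := a.mob.chi x
    have := (a.mob.isPGroup_Q x).isNilpotent
    refine Or.inl (Group.isSolvable_of_ker_le_range (a.mob.Q x).subtype
      (χ.comp ((MonoidHom.id H).codRestrict _ e)) fun g hg => ⟨⟨g, e g, (hχ _).1 hg⟩, rfl⟩)
  · obtain ⟨f⟩ := a.mob.dihedral_of_pair n q e hw
    have := H93.L2.dih_solvable (Nat.card (MulAction.stabilizer H x))
    exact Or.inl (Group.isSolvable_of_isSolvable_injective (f := f.toMonoidHom) f.injective)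
  · exact Or.inl (Group.isSolvable_of_isSolvable_injective (f := e.toMonoidHom) e.injective)
  · exact Or.inl (Group.isSolvable_of_isSolvable_injective (f := e.toMonoidHom) e.injective)
  · exact Or.inr e

omit [IsAlgClosed K] in
theorem s3_mul : (s3 0 : M3 K) * s3 1 = s3 2 := by
  rw [s3, s3, diagonal_mul_diagonal]
  exact congrArg _ (funext fun k => by fin_cases k <;> simp)

omit [IsAlgClosed K] in
theorem not_fix (h2 : (2 : K) ≠ 0) {x : Fin 3 → K} {c d : K} (h0 : x ≠ 0) (h : x ⬝ᵥ x = 0)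
    (a : s3 0 *ᵥ x = c • x) (b : s3 1 *ᵥ x = d • x) : False := by
  have a0 := congrFun a 0; have a1 := congrFun a 1; have a2 := congrFun a 2
  have b0 := congrFun b 0; have b1 := congrFun b 1; have b2 := congrFun b 2
  simp only [s3, mulVec_diagonal, Pi.smul_apply, smul_eq_mul, dotProduct, Fin.sum_univ_three]
    at a0 a1 a2 b0 b1 b2 h
  simp at a0 a1 a2 b0 b1 b2
  refine h0 (funext fun i => ?_)
  fin_cases i <;> simp <;> grind

theorem s4_four : ∀ a d : Equiv.Perm (Fin 4), (a * a = 1 ∧ a ≠ 1 ∧ d * a * d⁻¹ ≠ a ∧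
    d * (d * a * d⁻¹) * d⁻¹ = a * (d * a * d⁻¹)) → ∀ g, ∀ x ∈ [a, d * a * d⁻¹, a * (d * a * d⁻¹)],
      g * x * g⁻¹ ∈ [a, d * a * d⁻¹, a * (d * a * d⁻¹)] := by
  decide +kernel

theorem big0 (t : Tm τ) (hi : Function.Injective τ) (hs : ∀ i, ∃ g, τ g = s3 i)
    (hd : ∃ g, τ g * s3 0 = s3 1 * τ g ∧ τ g * s3 1 = s3 2 * τ g) :
    (∀ g : H, g ^ 3 = 1 ∨ g ^ 4 = 1 ∨ g ^ 5 = 1) ∧
      (Group.IsSolvable H → ∀ g i, ∃ j, τ g * s3 i = s3 j * τ g) := by
  obtain ⟨p, hp, _⟩ := t.lf.char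
  have := Fact.mk hp
  obtain ⟨_, ν, a⟩ := exists_act t hi p
  choose s hs using hs
  obtain ⟨d, d0, d1⟩ := hd
  have e0 : d * s 0 * d⁻¹ = s 1 := mul_inv_eq_iff_eq_mul.2 (hi (by simp only [map_mul, hs, d0]))
  have e1 : d * s 1 * d⁻¹ = s 2 := mul_inv_eq_iff_eq_mul.2 (hi (by simp only [map_mul, hs, d1]))
  have e2 : s 0 * s 1 = s 2 := hi (by rw [map_mul, hs, hs, hs, s3_mul])
  have nf : ∀ x, s 0 • x = x → s 1 • x = x → False := fun x h0 h1 => by
    obtain ⟨c, hc⟩ := a.act (s 0) x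
    obtain ⟨c', hc'⟩ := a.act (s 1) x
    rw [hs, h0] at hc
    rw [hs, h1] at hc'
    exact not_fix t.two (a.sing x).1 (a.sing x).2 hc hc'
  have n1 : (-1 : K) ≠ 1 := fun e => t.two (by linear_combination -e)
  have k : ∀ f : H →* Equiv.Perm (Fin 4), Function.Injective f →
      ∀ g i, ∃ j, τ g * s3 i = s3 j * τ g := fun f hf g i => by
    have := s4_four (f (s 0)) (f d) ⟨by
      rw [← map_mul, show s 0 * s 0 = 1 from hi (by
        rw [map_mul, hs, map_one, s3, diagonal_mul_diagonal, ← diagonal_one]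
        exact congrArg _ (funext fun k => by split_ifs <;> simp)), map_one],
      fun e => n1 (by simpa [hs, s3] using congrFun (congrFun (congrArg τ
        ((map_eq_one_iff f hf).1 e)) 1) 1),
      fun e => n1 (by
        rw [← map_inv, ← map_mul, ← map_mul, e0] at e
        simpa [hs, s3] using congrFun (congrFun (congrArg τ (hf e)) 0) 0),
      by simp only [← map_inv, ← map_mul, e0, e1, e2]⟩ (f g) (f (s i))
    simp only [← map_inv, ← map_mul, e0, e2, List.mem_cons, List.not_mem_nil, or_false,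
      hf.eq_iff, mul_inv_eq_iff_eq_mul] at this
    rcases this (by fin_cases i <;> simp) with e | e | e <;>
      exact ⟨_, by simpa only [map_mul, hs] using congrArg τ e⟩
  rcases a.cases with ⟨x, e⟩ | ⟨x, y, n, q, e, w, hw⟩ | e
  · exact (nf x (e _) (e _)).elim
  · have cj : ∀ g, g • x = x → (d * g * d⁻¹) • x = x ∧ (d⁻¹ * g * d) • x = x := fun g hg => by
      have hy := ((e g).resolve_right fun u => n (hg.symm.trans u.1)).2
      rcases e d with ⟨u, v⟩ | ⟨u, v⟩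
      · rw [mul_smul, mul_smul, mul_smul, mul_smul, inv_smul_eq_iff.2 u.symm, hg, u, hg,
          inv_smul_eq_iff.2 u.symm]
        exact ⟨rfl, rfl⟩
      · rw [mul_smul, mul_smul, mul_smul, mul_smul, inv_smul_eq_iff.2 v.symm, hy, v, u, hy,
          inv_smul_eq_iff.2 u.symm]
        exact ⟨rfl, rfl⟩
    have b0 : s 1 • x = x → s 0 • x = x := fun u => by simpa [← e0, mul_assoc] using (cj _ u).2
    have b1 : s 1 • x = x := by
      rcases e (s 0) with u | u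
      · exact e0 ▸ (cj _ u.1).1
      rcases e (s 1) with v | v
      · exact v.1
      · simpa [← e1, mul_assoc] using (cj (s 2) (by rw [← e2, mul_smul, v.1, u.2])).2
    exact (nf x (b0 b1) b1).elim
  refine ⟨D5.small_pow e, fun _ => ?_⟩
  rcases e with ⟨⟨e⟩⟩ | ⟨⟨e⟩⟩ | ⟨⟨e⟩⟩
  · exact k ((Subgroup.subtype _).comp e.toMonoidHom) (Subtype.val_injective.comp e.injective)
  · exact k e.toMonoidHom e.injective
  · exact (not_solv_a5 e ‹_›).elim

omit [IsAlgClosed K] [Finite H] in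
theorem unip_one (t : Tm τ) (h3 : (3 : K) ≠ 0) {g : H} (hg : IsNilpotent (τ g - 1)) : τ g = 1 := by
  obtain ⟨p, hp, _⟩ := t.lf.char
  have := Fact.mk hp
  obtain ⟨k, hk⟩ := pow_of_nil p hg
  have cp : ∀ r : ℕ, r.Prime → (r : K) ≠ 0 → τ g ^ r = 1 → τ g = 1 := fun r hr h0 e => by
    have := pow_gcd_eq_one.2 ⟨e, hk⟩
    rwa [Nat.Coprime.pow_right k ((Nat.coprime_primes hr hp).2 fun e =>
      h0 (e ▸ CharP.cast_eq_zero K p)), pow_one] at this
  have n2 : IsNilpotent (τ (g * g) - 1) := by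
    rw [map_mul, show τ g * τ g - 1 = (τ g - 1) * (τ g + 1) by noncomm_ring]
    exact Commute.isNilpotent_mul_right (show _ = _ by noncomm_ring) hg
  rcases t.quad g (g * g) hg n2 (by simp [mul_assoc]) with e | e | e | e
  · exact e
  · exact cp 2 Nat.prime_two (by exact_mod_cast t.two) (by rwa [sq, ← map_mul])
  · rw [← mul_one (τ g), ← map_one τ, ← mul_inv_cancel g, map_mul, ← mul_assoc, ← map_mul, e]
  · exact cp 3 Nat.prime_three (by exact_mod_cast h3) (by rwa [pow_succ, sq, ← map_mul])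

theorem three0 (t : Tm τ) (hi : Function.Injective τ) (h3 : (3 : K) ≠ 0) {a b : H} (ha : a ^ 3 = 1)
    (hb : b ^ 3 = 1) (e : a * b ≠ b * a) (g : H) : g ^ 3 = 1 ∨ g ^ 4 = 1 ∨ g ^ 5 = 1 := by
  obtain ⟨p, hp, _⟩ := t.lf.char
  have := Fact.mk hp
  obtain ⟨_, ν, m⟩ := exists_act t hi p
  have k : ∀ x, a • x = x → b • x = x → False := fun x u v => by
    have := m.mob.isCyclic_stabilizer (y := x) (eq_bot_iff.2 fun g hg => hi
      ((unip_one t h3 (nil_of_pow (p := p) (by rw [← map_pow, hg.2, map_one]))).trans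
        (map_one τ).symm))
    exact e (congrArg Subtype.val (IsCyclic.commGroup.mul_comm
      (⟨a, u⟩ : MulAction.stabilizer H x) ⟨b, v⟩))
  rcases m.cases with ⟨x, f⟩ | ⟨x, y, n, q, f, w, hw⟩ | f
  · exact (k x (f a) (f b)).elim
  · have : ∀ c : H, c ^ 3 = 1 → c • x = x := fun c hc => (f c).elim And.left fun u => (n (by
      rw [← one_smul H x, ← hc, pow_three, mul_smul, mul_smul, u.1, u.2, u.1])).elim
    exact (k x (this a ha) (this b hb)).elim
  · exact D5.small_pow f g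

omit [IsAlgClosed K] [Finite H] in
theorem bar_mk (g : H) : bar τ (g : H ⧸ τ.ker) = τ g := rfl

end SO

open SO

theorem Tm.cases (t : Tm τ) :
    (∃ x : Fin 3 → K, x ≠ 0 ∧ x ⬝ᵥ x = 0 ∧ ∀ g, ∃ c : K, τ g *ᵥ x = c • x) ∨
    (∃ x y : Fin 3 → K, x ⬝ᵥ x = 0 ∧ y ⬝ᵥ y = 0 ∧ x ⬝ᵥ y ≠ 0 ∧ ∀ g, ∃ c d : K,
      (τ g *ᵥ x = c • x ∧ τ g *ᵥ y = d • y) ∨ (τ g *ᵥ x = c • y ∧ τ g *ᵥ y = d • x)) ∨
    Nonempty (H ⧸ τ.ker ≃* alternatingGroup (Fin 4)) ∨ Nonempty (H ⧸ τ.ker ≃* Equiv.Perm (Fin 4)) ∨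
    Nonempty (H ⧸ τ.ker ≃* alternatingGroup (Fin 5)) := by
  obtain ⟨p, hp, _⟩ := t.lf.char
  have := Fact.mk hp
  obtain ⟨_, ν, a⟩ := exists_act (tm_bar t) bar_inj p
  rcases a.cases with ⟨x, e⟩ | ⟨x, y, n, -, e, -⟩ | e
  · refine Or.inl ⟨ν x, (a.sing x).1, (a.sing x).2, fun g => ?_⟩
    have := a.act g x
    rwa [e] at this
  · refine Or.inr (Or.inl ⟨ν x, ν y, (a.sing x).2, (a.sing y).2, a.ne x y n, fun g => ?_⟩)
    obtain ⟨c, hc⟩ := a.act g x
    obtain ⟨d, hd⟩ := a.act g y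
    rcases e g with ⟨u, v⟩ | ⟨u, v⟩ <;> rw [u] at hc <;> rw [v] at hd
    exacts [⟨c, d, Or.inl ⟨hc, hd⟩⟩, ⟨c, d, Or.inr ⟨hc, hd⟩⟩]
  · exact Or.inr (Or.inr e)

theorem Tm.solv (t : Tm τ) :
    Group.IsSolvable (H ⧸ τ.ker) ∨ Nonempty (H ⧸ τ.ker ≃* alternatingGroup (Fin 5)) :=
  solv0 (tm_bar t) bar_inj

set_option linter.unusedSectionVars false in
theorem Tm.sub (t : Tm τ) (L : Subgroup H) : Tm (τ.comp L.subtype) :=
  ⟨t.two, t.lf, fun g => t.orth g, fun g => t.det g, fun g k => t.quad g k⟩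

theorem Tm.onto (t : Tm τ) {L : Subgroup H}
    (hL : ¬ Group.IsSolvable (L.map (QuotientGroup.mk' τ.ker))) (g : H) : ∃ l ∈ L, τ l = τ g := by
  obtain ⟨e⟩ := t.solv.resolve_left fun _ => hL inferInstance
  obtain ⟨f⟩ := (solv0 ((tm_bar t).sub (L.map (QuotientGroup.mk' τ.ker)))
    (bar_inj.comp Subtype.val_injective)).resolve_left hL
  have := Subgroup.eq_top_of_card_eq _ (Nat.card_congr (f.trans e.symm).toEquiv)
  obtain ⟨l, hl, h⟩ : (g : H ⧸ τ.ker) ∈ L.map (QuotientGroup.mk' τ.ker) := this ▸ trivial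
  exact ⟨l, hl, congrArg (bar τ) h⟩

theorem Tm.big (t : Tm τ) (hs : ∀ i, ∃ g, τ g = s3 i)
    (hd : ∃ g, τ g * s3 0 = s3 1 * τ g ∧ τ g * s3 1 = s3 2 * τ g) :
    (∀ g, τ g ^ 3 = 1 ∨ τ g ^ 4 = 1 ∨ τ g ^ 5 = 1) ∧
      (Group.IsSolvable (H ⧸ τ.ker) → ∀ g i, ∃ j, τ g * s3 i = s3 j * τ g) := by
  obtain ⟨a, b⟩ := big0 (tm_bar t) bar_inj (fun i => (hs i).elim fun g e => ⟨g, e⟩)
    (hd.elim fun g e => ⟨g, e⟩)
  refine ⟨fun g => ?_, fun s g => b s g⟩
  simpa only [← bar_inj.eq_iff, map_pow, map_one, bar_mk] using a g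

theorem Tm.three (t : Tm τ) (h3 : (3 : K) ≠ 0) {a b : H} (ha : τ a ^ 3 = 1) (hb : τ b ^ 3 = 1)
    (e : τ a * τ b ≠ τ b * τ a) (g : H) :
    (τ g ^ 3 = 1 ∨ τ g ^ 4 = 1 ∨ τ g ^ 5 = 1) ∧ (IsNilpotent (τ g - 1) → τ g = 1) := by
  refine ⟨?_, unip_one t h3⟩
  simpa only [← bar_inj.eq_iff, map_pow, map_one, bar_mk] using three0 (tm_bar t) bar_inj h3 (a := a)
    (b := b) (bar_inj (by rwa [map_pow, map_one])) (bar_inj (by rwa [map_pow, map_one]))
    (fun f => e (by simpa only [map_mul, bar_mk] using congrArg (bar τ) f)) g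

theorem Tm.two_group (t : Tm τ) (hi : Function.Injective τ) (hH : IsPGroup 2 H) :
    IsCyclic H ∨ ∃ n, 2 ≤ n ∧ Nonempty (H ≃* DihedralGroup n) := by
  obtain ⟨p, hp, _⟩ := t.lf.char
  have := Fact.mk hp
  obtain ⟨_, ν, a⟩ := exists_act t hi p
  obtain ⟨n, hn⟩ := hH.exists_card_eq
  have k : ¬ 3 ∣ Nat.card H := fun e => by
    rw [hn] at e
    exact absurd (Nat.prime_three.dvd_of_dvd_pow e) (by decide)
  rcases a.cases with ⟨x, e⟩ | ⟨x, y, n, q, e, w, hw⟩ | ⟨⟨e⟩⟩ | ⟨⟨e⟩⟩ | ⟨⟨e⟩⟩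
  · have := a.mob.isCyclic_stabilizer (y := x) (eq_bot_iff.2 fun g hg => by
      obtain ⟨m, hm⟩ := hH g
      have := pow_gcd_eq_one.2 ⟨hg.2, hm⟩
      rwa [Nat.Coprime.pow_right m ((Nat.coprime_primes hp Nat.prime_two).2 fun e =>
        t.two (by exact_mod_cast e ▸ CharP.cast_eq_zero K p)), pow_one] at this)
    exact Or.inl (isCyclic_of_surjective (MulAction.stabilizer H x).subtype fun g => ⟨⟨g, e g⟩, rfl⟩)
  · obtain ⟨f⟩ := a.mob.dihedral_of_pair n q e hw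
    by_cases h2 : 2 ≤ Nat.card (MulAction.stabilizer H x)
    · exact Or.inr ⟨_, h2, ⟨f⟩⟩
    · have := Nat.card_pos (α := MulAction.stabilizer H x)
      have := Nat.card_congr f.toEquiv
      rw [DihedralGroup.nat_card] at this
      exact Or.inl (isCyclic_of_prime_card (p := 2) (by omega))
  all_goals
    refine (k ?_).elim
    rw [Nat.card_congr e.toEquiv]
    simp only [nat_card_alternatingGroup, Nat.card_perm, Nat.card_fin]
    decide

end Cfsg.Agent.D4
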