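import Cfsg.Agent.D4.Defs3
import Cfsg.Agent.DIM5.DK
import Cfsg.Agent.H10.P3SO
import Cfsg.Agent.H93.L2Perm

/-!
Finite groups of rotations in dimension three act on the conic of singular points.
-/

set_option autoImplicit false

open Matrix
open scoped MatrixGroups OnePoint

namespace Cfsg.Agent.D4.SO

open H28 H10.P3

variable {K : Type*} [Field K] {H : Type*} [Group H] {τ : H →* M3 K}

/-- Homogeneous coordinates. -/
def hc (x : OnePoint K) : Fin 2 → K := x.rec ![1, 0] fun z => ![z, 1]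

theorem hc_infty : hc (∞ : OnePoint K) = ![1, 0] := rfl

theorem hc_coe (z : K) : hc (z : OnePoint K) = ![z, 1] := rfl

/-- The quadratic monomials. -/
def ver (v : Fin 2 → K) : Fin 3 → K := ![v 0 ^ 2, v 0 * v 1, v 1 ^ 2]

theorem sym2_ver (g : Matrix (Fin 2) (Fin 2) K) (v : Fin 2 → K) :
    sym2 g *ᵥ ver v = ver (g *ᵥ v) := by
  ext i
  fin_cases i <;> simp [sym2, ver, mulVec, dotProduct, Fin.sum_univ_two, Fin.sum_univ_three] <;> ring

theorem ver_smul (c : K) (v : Fin 2 → K) : ver (c • v) = c ^ 2 • ver v := by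
  ext i
  fin_cases i <;> simp [ver] <;> ring

theorem hc_smul [DecidableEq K] (g : GL (Fin 2) K) (x : OnePoint K) :
    ∃ c : K, g.val *ᵥ hc x = c • hc (g • x) := by
  induction x using OnePoint.rec with
  | infty =>
    rw [OnePoint.smul_infty_eq_ite]
    split_ifs with e
    · exact ⟨g 0 0, by ext i; fin_cases i <;> simp [hc_infty, mulVec, dotProduct, e]⟩
    · exact ⟨g 1 0, by ext i; fin_cases i <;> simp [hc_infty, hc_coe, mulVec, dotProduct]; field_simp⟩
  | coe z =>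
    rw [OnePoint.smul_some_eq_ite]
    split_ifs with e
    · exact ⟨g 0 0 * z + g 0 1, by ext i; fin_cases i <;> simp [hc_infty, hc_coe, mulVec, dotProduct, e]⟩
    · refine ⟨g 1 0 * z + g 1 1, ?_⟩
      ext i
      fin_cases i <;> simp [hc_coe, mulVec, dotProduct]
      rw [mul_div_cancel₀ _ e]

theorem exists_theta [IsAlgClosed K] [DecidableEq K] (t : Tm τ) (hi : Function.Injective τ) :
    ∃ (θ : H →* PGL(2, K)) (ν : OnePoint K → Fin 3 → K), Function.Injective θ ∧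
      (∀ x, ν x ≠ 0 ∧ ν x ⬝ᵥ ν x = 0) ∧ (∀ x y, x ≠ y → ν x ⬝ᵥ ν y ≠ 0) ∧
      ∀ g x, ∃ c : K, τ g *ᵥ ν x = c • ν (θ g • x) := by
  have h2 := t.two
  obtain ⟨i, hi'⟩ := IsAlgClosed.exists_eq_mul_self (-1 : K)
  obtain ⟨B, C, bc, bb⟩ : ∃ B C : M3 K, B * C = 1 ∧ Bᵀ * B = (2 : K) • jj K := by
    refine ⟨!![1, 0, -1; 0, 2, 0; i, 0, i], (2 : K)⁻¹ • !![1, 0, -i; 0, 1, 0; -1, 0, -i], ?_, ?_⟩
    · ext a b
      fin_cases a <;> fin_cases b <;> simp [h2] <;> field_simp <;> grind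
    · ext a b
      fin_cases a <;> fin_cases b <;> simp [jj, mul_apply, Fin.sum_univ_three] <;> grind
  have cb := mul_eq_one_comm.1 bc
  have bm : ∀ g, B * (C * τ g * B) = τ g * B := fun g => by
    rw [← mul_assoc, ← mul_assoc, bc, one_mul]
  let R : H → PGL(2, K) → Prop := fun x y => ∃ (g : GL (Fin 2) K) (c : K),
    ProjGenLinGroup.mk g = y ∧ sym2 g.val = c • (C * τ x * B)
  have mul : ∀ x y x' y', R x y → R x' y' → R (x * x') (y * y') := by
    rintro x _ x' _ ⟨g, c, rfl, h1⟩ ⟨g', c', rfl, h3⟩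
    exact ⟨g * g', c * c', map_mul _ _ _, by
      rw [Units.val_mul, sym2_mul, h1, h3, map_mul, smul_mul_smul_comm, mul_assoc _ B, bm,
        ← mul_assoc, mul_assoc C]⟩
  have c0 : ∀ (g : GL (Fin 2) K) (c : K) (M : M3 K), sym2 g.val = c • M → c ≠ 0 := by
    rintro g _ M e rfl
    have := sym2_mul g⁻¹.val g.val
    rw [e, Units.inv_mul, sym2_one] at this
    simp at this
  have one : ∀ x y, R x y → (x = 1 ↔ y = 1) := by
    rintro x _ ⟨g, c, rfl, h1⟩
    refine ⟨fun h3 => mk_eq_one_of_sym2 (c := c) (by rw [h1, h3, map_one, mul_one, cb]),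
      fun h3 => hi ?_⟩
    obtain ⟨u, hu⟩ := ProjGenLinGroup.mk_eq_mk_iff.1 ((map_one _).trans h3.symm)
    have e1 : sym2 g.val = (u : K) ^ 2 • 1 := by
      rw [← hu]; ext i j; fin_cases i <;> fin_cases j <;> simp [sym2, sq]
    have e2 : τ x = (c⁻¹ * u ^ 2) • 1 := by
      rw [← mul_one (τ x), ← bc, ← mul_assoc, ← bm, ← inv_smul_smul₀ (c0 g c _ h1) (C * τ x * B),
        ← h1, e1, smul_smul, mul_smul_comm, mul_one, smul_mul_assoc]
    generalize c⁻¹ * (u : K) ^ 2 = d at e2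
    have a := congrFun (congrFun (t.orth x) 0) 0
    have b := t.det x
    simp [e2] at a b
    rw [e2, map_one, show d = 1 by linear_combination b - d * a, one_smul]
  have ex : ∀ x, ∃ y, R x y := fun x => by
    obtain ⟨g, c, h1⟩ := exists_sym2 h2 (M := C * τ x * B) (smul_right_injective _ h2 (by
      simp only
      rw [← smul_mul_assoc, ← mul_smul_comm, ← bb, ← mul_assoc _ Bᵀ, ← transpose_mul, mul_assoc, bm,
        transpose_mul, mul_assoc, ← mul_assoc (τ x)ᵀ, t.orth, one_mul]))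
      (by rw [det_mul, det_mul, t.det, mul_one, ← det_mul, cb, det_one])
    exact ⟨_, g, c, rfl, h1⟩
  choose θ hθ using ex
  have inv : ∀ x, θ x * θ x⁻¹ = 1 := fun x => (one _ _ (mul _ _ _ _ (hθ x) (hθ x⁻¹))).1 (by simp)
  have dot : ∀ v w, (B *ᵥ ver v) ⬝ᵥ (B *ᵥ ver w) = -2 * (v 0 * w 1 - v 1 * w 0) ^ 2 := fun v w => by
    rw [dotProduct_mulVec, vecMul_mulVec, bb]
    simp [jj, ver, vecMul, dotProduct, Fin.sum_univ_three]
    ring
  have ne : ∀ x y, x ≠ y → (B *ᵥ ver (hc x)) ⬝ᵥ (B *ᵥ ver (hc y)) ≠ 0 := fun x y e => by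
    rw [dot]
    refine mul_ne_zero (neg_ne_zero.2 h2) (pow_ne_zero _ ?_)
    revert e
    induction x using OnePoint.rec <;> induction y using OnePoint.rec <;>
      simp [hc_infty, hc_coe, sub_eq_zero]
  refine ⟨MonoidHom.mk' θ fun a b => ?_, fun x => B *ᵥ ver (hc x),
    (injective_iff_map_eq_one _).2 fun x hx => (one _ _ (hθ x)).2 hx,
    fun x => ⟨fun e => ?_, by rw [dot]; ring⟩, ne, fun g x => ?_⟩
  · have := (one _ _ (mul _ _ _ _ (mul _ _ _ _ (hθ a) (hθ b)) (hθ (a * b)⁻¹))).1 (by simp)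
    exact mul_right_cancel ((inv _).trans this.symm)
  · obtain ⟨y, hy⟩ := exists_ne x
    exact ne y x hy (by simp only at e; rw [e, dotProduct_zero])
  · obtain ⟨u, c, e, h1⟩ := hθ g
    obtain ⟨d, hd⟩ := hc_smul u x
    refine ⟨c⁻¹ * d ^ 2, ?_⟩
    rw [MonoidHom.mk'_apply, ← e, mk_smul_pt, mul_smul, ← mulVec_smul, ← ver_smul, ← hd, ← sym2_ver,
      h1, smul_mulVec, mulVec_smul, inv_smul_smul₀ (c0 u c _ h1), mulVec_mulVec, mulVec_mulVec, bm]

theorem nil_of_pow {p : ℕ} [Fact p.Prime] [CharP K p] {M : M3 K} (h : M ^ p = 1) :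
    IsNilpotent (M - 1) :=
  ⟨p, by rw [sub_pow_char_of_commute _ (Commute.one_right M), h, one_pow, sub_self]⟩

theorem pow_of_nil (p : ℕ) [hp : Fact p.Prime] [CharP K p] {M : M3 K} (h : IsNilpotent (M - 1)) :
    ∃ k, M ^ p ^ k = 1 := by
  obtain ⟨n, hn⟩ := h
  refine ⟨n, ?_⟩
  have := sub_pow_char_pow_of_commute p n (Commute.one_right M)
  rw [pow_eq_zero_of_le (Nat.lt_pow_self hp.out.one_lt).le hn, one_pow] at this
  exact sub_eq_zero.1 this.symm

/-- The action on the singular points. -/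
structure Act (τ : H →* M3 K) (p : ℕ) (Y : Type*) [MulAction H Y] (ν : Y → Fin 3 → K) : Prop where
  mob : Mob p K H Y
  sing : ∀ x, ν x ≠ 0 ∧ ν x ⬝ᵥ ν x = 0
  ne : ∀ x y, x ≠ y → ν x ⬝ᵥ ν y ≠ 0
  act : ∀ g x, ∃ c : K, τ g *ᵥ ν x = c • ν (g • x)
  cases : (∃ x : Y, ∀ g : H, g • x = x) ∨ (∃ x y : Y, x ≠ y ∧ mob.Q x = ⊥ ∧
    (∀ g : H, (g • x = x ∧ g • y = y) ∨ (g • x = y ∧ g • y = x)) ∧ ∃ w : H, w • x = y) ∨
    Nonempty (H ≃* alternatingGroup (Fin 4)) ∨ Nonempty (H ≃* Equiv.Perm (Fin 4)) ∨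
    Nonempty (H ≃* alternatingGroup (Fin 5))

theorem exists_act [IsAlgClosed K] [Finite H] (t : Tm τ) (hi : Function.Injective τ) (p : ℕ)
    [hp : Fact p.Prime] [CharP K p] :
    ∃ (_ : MulAction H (OnePoint K)) (ν : OnePoint K → Fin 3 → K), Act τ p (OnePoint K) ν := by
  classical
  obtain ⟨θ, ν, h1, h2, h3, h4⟩ := exists_theta t hi
  let _ : MulAction H (OnePoint K) := MulAction.compHom _ θ
  have m : Mob p K H (OnePoint K) := (mob_pgl p).of_hom θ h1 fun _ _ => rfl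
  refine ⟨inferInstance, ν, m, h2, h3, h4, ?_⟩
  rcases m.classify with e | e | e | e | ⟨x, a, b, c⟩
  · exact Or.inl e
  · exact Or.inr (Or.inl e)
  · exact Or.inr (Or.inr e.2)
  · exact Or.inr (Or.inr (Or.inr (Or.inr e.2)))
  have : Nontrivial (m.Q x) := Finite.one_lt_card_iff_nontrivial.1 (by omega)
  have := (m.isPGroup_Q x).center_nontrivial
  obtain ⟨⟨z, hz⟩, z1⟩ := exists_ne (1 : Subgroup.center (m.Q x))
  have nil : ∀ k : m.Q x, IsNilpotent (τ k - 1) := fun k =>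
    nil_of_pow (p := p) (by rw [← map_pow, k.2.2, map_one])
  have le : Nat.card (m.Q x) ≤ Nat.card (Fin 3) :=
    Nat.card_le_card_of_surjective ![1, z, z⁻¹] fun k => by
      have := congrArg (fun u : m.Q x => τ u) (Subgroup.mem_center_iff.1 hz k)
      simp only [Subgroup.coe_mul, map_mul] at this
      rcases t.quad _ _ (nil z) (nil k) this.symm with e | e | e | e
      · exact (z1 (Subtype.ext (Subtype.ext (hi (e.trans (map_one τ).symm))))).elim
      · exact ⟨0, Subtype.ext (hi ((map_one τ).trans e.symm))⟩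
      · exact ⟨1, Subtype.ext (hi e.symm)⟩
      · exact ⟨2, inv_eq_of_mul_eq_one_left (Subtype.ext (hi (by simpa using e)))⟩
  have q3 : Nat.card (m.Q x) = 3 := by simp at le; omega
  obtain rfl : p = 3 := by
    obtain ⟨n, hn⟩ := (m.isPGroup_Q x).exists_card_eq
    rw [q3] at hn
    exact ((Nat.Prime.pow_eq_iff Nat.prime_three).1 hn.symm).1
  have six : ∀ g : H, orderOf g ≠ 6 := fun g e => by
    obtain ⟨y, hy⟩ := m.fix g
    obtain ⟨w, n, hw⟩ := m.ss g y hy fun f => by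
      exact absurd (e ▸ orderOf_dvd_of_pow_eq_one f) (by decide)
    exact absurd (e ▸ orderOf_dvd_of_pow_eq_one (n := 2) (m.uni (g ^ 2) w y
      (by rw [← pow_mul]; exact orderOf_dvd_iff_pow_eq_one.1 (by rw [e])) n
      (by rw [sq, mul_smul, hw, hw]) (by rw [sq, mul_smul, hy, hy]))) (by decide)
  have := (MulAction.stabilizer H x).index_mul_card
  rw [b, q3] at this
  rw [q3] at c
  rcases c with c | c
  · exact Or.inr (Or.inr (Or.inr (Or.inl (sym4_of_orders (by omega) six))))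
  · exact Or.inr (Or.inr (Or.inl (alt4_of_orders (by omega) six)))

/-- The faithful representation of the quotient by the kernel. -/
def bar (τ : H →* M3 K) : H ⧸ τ.ker →* M3 K := QuotientGroup.lift _ τ le_rfl

theorem bar_inj : Function.Injective (bar τ) := (injective_iff_map_eq_one _).2 fun x e => by
  obtain ⟨g, rfl⟩ := QuotientGroup.mk_surjective x
  exact (QuotientGroup.eq_one_iff g).2 e

theorem tm_bar (t : Tm τ) : Tm (bar τ) where
  two := t.two
  lf := t.lf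
  orth x := x.inductionOn' t.orth
  det x := x.inductionOn' t.det
  quad x y := Quotient.inductionOn₂' x y t.quad

end Cfsg.Agent.D4.SO
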