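import Cfsg.Agent.D4.WBas
import Cfsg.Agent.D4.SO3
import Cfsg.Agent.D4.SO4a

/-!
The centraliser of an involution.
-/

set_option autoImplicit false

open Matrix
open scoped MatrixGroups

namespace Cfsg.Agent.D4

open So4

variable {K : Type*} [Field K] {G X : Type*} [Group G] [Group X] {σ : G →* M6 K} {π : G →* X}

theorem Cz.blk {M : M6 K} (h2 : (2 : K) ≠ 0) (h : M * aa 4 5 = aa 4 5 * M) (i : Fin 4) (j : Fin 2) :
    M (Fin.castAdd 2 i) (Fin.natAdd 4 j) = 0 ∧ M (Fin.natAdd 4 j) (Fin.castAdd 2 i) = 0 := by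
  have e1 : ¬ (Fin.castAdd 2 i = (4 : Fin 6) ∨ Fin.castAdd 2 i = (5 : Fin 6)) := by
    revert i; decide
  have e2 : Fin.natAdd 4 j = (4 : Fin 6) ∨ Fin.natAdd 4 j = (5 : Fin 6) := by revert j; decide
  have a := congrFun (congrFun h (Fin.castAdd 2 i)) (Fin.natAdd 4 j)
  have b := congrFun (congrFun h (Fin.natAdd 4 j)) (Fin.castAdd 2 i)
  simp only [aa, mul_diagonal, diagonal_mul, if_neg e1, if_pos e2] at a b
  exact ⟨(mul_eq_zero.1 (by linear_combination -a : (2 : K) * _ = 0)).resolve_left h2,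
    (mul_eq_zero.1 (by linear_combination b : (2 : K) * _ = 0)).resolve_left h2⟩

theorem blk_ext {M N : M6 K} (h2 : (2 : K) ≠ 0) (hM : M * aa 4 5 = aa 4 5 * M)
    (hN : N * aa 4 5 = aa 4 5 * N) (e4 : b4 M = b4 N) (e2 : b2 M = b2 N) : M = N := by
  ext i j
  refine Fin.addCases (m := 4) (n := 2) (fun i => ?_) (fun i => ?_) i <;>
    refine Fin.addCases (m := 4) (n := 2) (fun j => ?_) (fun j => ?_) j
  · exact congrFun (congrFun e4 i) j
  · rw [(Cz.blk h2 hM i j).1, (Cz.blk h2 hN i j).1]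
  · rw [(Cz.blk h2 hM j i).2, (Cz.blk h2 hN j i).2]
  · exact congrFun (congrFun e2 i) j

theorem b4_mul {M : M6 K} (h2 : (2 : K) ≠ 0) (h : M * aa 4 5 = aa 4 5 * M) (N : M6 K) :
    b4 (M * N) = b4 M * b4 N ∧ b2 (M * N) = b2 M * b2 N := by
  constructor <;> ext i j <;> simp only [b4, b2, submatrix_apply, mul_apply] <;>
    rw [Fin.sum_univ_add (a := 4) (b := 2)]
  · simp [fun k => (Cz.blk h2 h i k).1]
  · simp [fun k => (Cz.blk h2 h k i).2]

namespace So4

theorem b4_one : b4 (1 : M6 K) = 1 ∧ b2 (1 : M6 K) = 1 :=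
  ⟨submatrix_one _ (Fin.castAdd_injective 4 2), submatrix_one _ (Fin.natAdd_injective 2 4)⟩

theorem det_blk {M : M6 K} (h2 : (2 : K) ≠ 0) (h : M * aa 4 5 = aa 4 5 * M) :
    M.det = (b4 M).det * (b2 M).det := by
  rw [← det_fromBlocks_zero₂₁ (b4 M) 0 (b2 M),
    ← det_submatrix_equiv_self (finSumFinEquiv (m := 4) (n := 2)) M]
  congr 1
  ext (i | i) (j | j)
  · rfl
  · exact (Cz.blk h2 h i j).1
  · exact (Cz.blk h2 h j i).2
  · rfl

theorem rot2 {M : Matrix (Fin 2) (Fin 2) K} (h : Mᵀ * M = 1) (d : M.det = 1) :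
    M 1 1 = M 0 0 ∧ M 0 1 = -M 1 0 := by
  have e : Mᵀ = M.adjugate := left_inv_eq_left_inv h (by rw [adjugate_mul, d, one_smul])
  rw [adjugate_fin_two] at e
  have a := congrFun (congrFun e 0) 0
  have b := congrFun (congrFun e 1) 0
  simp at a b
  exact ⟨a.symm, b⟩

end So4

theorem HW.blk (h : HW σ π) {g : G} (hg : g ∈ Cz σ (aa 4 5)) :
    (b4 (σ g))ᵀ * b4 (σ g) = 1 ∧ (b2 (σ g))ᵀ * b2 (σ g) = 1 ∧
      (((b4 (σ g)).det = 1 ∧ (b2 (σ g)).det = 1) ∨ ((b4 (σ g)).det = -1 ∧ (b2 (σ g)).det = -1)) := by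
  have i : σ g⁻¹ * aa 4 5 = aa 4 5 * σ g⁻¹ := inv_mem hg
  rw [h.inv_eq] at i
  have m := b4_mul h.two i (σ g)
  rw [h.orth, b4_one.1, b4_one.2] at m
  refine ⟨m.1.symm, m.2.symm, ?_⟩
  have d := det_blk h.two hg
  rw [h.det] at d
  have e : (b4 (σ g)).det * (b4 (σ g)).det = 1 := by
    have m1 : (b4 (σ g))ᵀ * b4 (σ g) = 1 := m.1.symm
    have := congrArg Matrix.det m1
    rwa [det_one, det_mul, det_transpose] at this
  rcases mul_self_eq_one_iff.1 e with e | e <;> rw [e] at d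
  · exact .inl ⟨e, by linear_combination -d⟩
  · exact .inr ⟨e, by linear_combination d⟩

theorem conj_Jp (h2 : (2 : K) ≠ 0) {M : M4 K} (h : Mᵀ * M = 1) (d : M.det = 1) (j : Fin 3) :
    M * Jp j * Mᵀ = ∑ i, cp M i j • Jp i ∧ M * Jm j * Mᵀ = ∑ i, cm M i j • Jm i := by
  have a := hat_conj h2 h (Jp_t j) (Jp_sq j)
  have b := hat_conj h2 h (Jm_t j) (Jm_sq j)
  rw [pf_Jp, d, one_smul] at a
  rw [pf_Jm, d, neg_smul, one_smul] at b
  exact ⟨(sd h2 a.1 a.2).trans (by simp only [cp, of_apply, mul_assoc]),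
    (asd h2 b.1 b.2).trans (by simp only [cm, of_apply, mul_assoc])⟩

theorem conj_Jp_neg (h2 : (2 : K) ≠ 0) {M : M4 K} (h : Mᵀ * M = 1) (d : M.det = -1) (j : Fin 3) :
    (∃ c : Fin 3 → K, M * Jp j * Mᵀ = ∑ i, c i • Jm i) ∧
      ∃ c : Fin 3 → K, M * Jm j * Mᵀ = ∑ i, c i • Jp i := by
  have a := hat_conj h2 h (Jp_t j) (Jp_sq j)
  have b := hat_conj h2 h (Jm_t j) (Jm_sq j)
  rw [pf_Jp, d, neg_smul, one_smul] at a
  rw [pf_Jm, d, neg_neg, one_smul] at b
  exact ⟨⟨_, asd h2 a.1 a.2⟩, _, sd h2 b.1 b.2⟩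

theorem cm_eq_one (h2 : (2 : K) ≠ 0) {M : M4 K} (h : Mᵀ * M = 1) (d : M.det = 1) :
    (cm M = 1 ↔ ∃ (a : K) (c : Fin 3 → K), M = a • 1 + ∑ i, c i • Jp i) ∧
      (cp M = 1 ↔ ∃ (a : K) (c : Fin 3 → K), M = a • 1 + ∑ i, c i • Jm i) :=
  ⟨(cj_eq_one (coef_m h2) h fun j => (conj_Jp h2 h d j).2).trans (comm_iff Jm_e Jp_e Jp_Jm M),
    (cj_eq_one (coef_p h2) h fun j => (conj_Jp h2 h d j).1).trans
      (comm_iff Jp_e Jm_e (fun i j => (Jp_Jm j i).symm) M)⟩

theorem cpm_ker (h2 : (2 : K) ≠ 0) {M : M4 K} (h : Mᵀ * M = 1) (d : M.det = 1) (a : cp M = 1)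
    (b : cm M = 1) : M = 1 ∨ M = -1 := by
  obtain ⟨x, c, e⟩ := (cm_eq_one h2 h d).1.1 b
  obtain ⟨y, c', e'⟩ := (cm_eq_one h2 h d).2.1 a
  have t := e.symm.trans e'
  have t1 := congrFun (congrFun t 1) 0
  have t2 := congrFun (congrFun t 2) 0
  have t3 := congrFun (congrFun t 3) 0
  have s1 := congrFun (congrFun t 3) 2
  have s2 := congrFun (congrFun t 1) 3
  have s3 := congrFun (congrFun t 2) 1
  simp [Jp, Jm, Fin.sum_univ_three] at t1 t2 t3 s1 s2 s3
  have z : ∀ i, c i = 0 := fun i => (mul_eq_zero.1 (show (2 : K) * c i = 0 by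
    fin_cases i
    · simpa using (by linear_combination t1 + s1 : 2 * c 0 = 0)
    · simpa using (by linear_combination t2 + s2 : 2 * c 1 = 0)
    · simpa using (by linear_combination t3 + s3 : 2 * c 2 = 0))).resolve_left h2
  simp only [z, zero_smul, Finset.sum_const_zero, add_zero] at e
  have := congrFun (congrFun h 0) 0
  rw [e] at this ⊢
  simp at this
  rcases mul_self_eq_one_iff.1 this with rfl | rfl <;> simp

theorem HW.rot_comm (h : HW σ π) {g k : G} (hg : In0 σ g) (hk : In0 σ k) :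
    b2 (σ g) * b2 (σ k) = b2 (σ k) * b2 (σ g) := by
  have f : ∀ {g}, In0 σ g → _ := fun {g} hg => rot2 (h.blk hg.1).2.1
    (((h.blk hg.1).2.2.resolve_right fun e => h.two (by linear_combination e.1 - hg.2)).2)
  obtain ⟨a, b⟩ := f hg
  obtain ⟨c, d⟩ := f hk
  ext i j
  fin_cases i <;> fin_cases j <;> simp [mul_apply, Fin.sum_univ_two, a, b, c, d] <;> ring

namespace So4

theorem pow_of_nil {n : Type*} [Fintype n] [DecidableEq n] [Nonempty n] {p : ℕ} [Fact p.Prime]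
    [CharP K p] {M : Matrix n n K} : IsNilpotent (M - 1) ↔ ∃ k, M ^ p ^ k = 1 := by
  have e : ∀ k, (M - 1) ^ p ^ k = M ^ p ^ k - 1 := fun k => by
    rw [sub_pow_char_pow_of_commute _ _ (Commute.one_right M), one_pow]
  refine ⟨fun ⟨m, h⟩ => ⟨m, sub_eq_zero.1 ?_⟩, fun ⟨k, h⟩ => ⟨p ^ k, by rw [e, h, sub_self]⟩⟩
  rw [← e]
  exact pow_eq_zero_of_le (Nat.lt_pow_self (Fact.out : p.Prime).one_lt).le h

/-- The rotation subgroup of the centraliser. -/
def C0 (h : HW σ π) : Subgroup G where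
  carrier := {g | In0 σ g}
  one_mem' := ⟨one_mem _, by rw [map_one, b4_one.1, det_one]⟩
  mul_mem' {a b} ha hb := ⟨mul_mem ha.1 hb.1, by
    rw [map_mul, (b4_mul h.two ha.1 _).1, det_mul, ha.2, hb.2, mul_one]⟩
  inv_mem' {a} ha := ⟨inv_mem ha.1, by rw [h.inv_eq]; exact (det_transpose _).trans ha.2⟩

theorem fix45 (h : HW σ π) {p : ℕ} [Fact p.Prime] [CharP K p] {g : G} (hg : In0 σ g) {k : ℕ}
    (e : g ^ p ^ k = 1) : σ g *ᵥ ee 4 = ee 4 ∧ σ g *ᵥ ee 5 = ee 5 := by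
  have hp : ∀ n, b2 (σ (g ^ n)) = b2 (σ g) ^ n := fun n => by
    induction n with
    | zero => rw [pow_zero, map_one, b4_one.2, pow_zero]
    | succ n ih => rw [pow_succ', map_mul, (b4_mul h.two hg.1 _).2, ih, pow_succ']
  have n : IsNilpotent (b2 (σ g) - 1) := pow_of_nil.2 ⟨k, by rw [← hp, e, map_one, b4_one.2]⟩
  have d := ((h.blk hg.1).2.2.resolve_right fun e => h.two (by linear_combination e.1 - hg.2)).2
  obtain ⟨a, b⟩ := rot2 (h.blk hg.1).2.1 d
  have t := (isNilpotent_trace_of_isNilpotent n).eq_zero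
  rw [det_fin_two, a, b] at d
  simp only [trace_sub, trace_fin_two, one_apply_eq, a] at t
  have a0 : b2 (σ g) 0 0 = 1 :=
    sub_eq_zero.1 ((mul_eq_zero.1 (by linear_combination t : (2 : K) * _ = 0)).resolve_left h.two)
  have b0 : b2 (σ g) 1 0 = 0 := mul_self_eq_zero.1 (by rw [a0] at d; linear_combination d)
  rw [a0] at a
  rw [b0, neg_zero] at b
  have z := fun i j => (Cz.blk h.two hg.1 i j).1
  have : ∀ (j : Fin 2) (i : Fin 6), σ g i (Fin.natAdd 4 j) = ee (K := K) (Fin.natAdd 4 j) i :=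
    fun j i => by
    refine Fin.addCases (m := 4) (n := 2) (fun i => ?_) (fun i => ?_) i
    · rw [z, ee, Pi.single_eq_of_ne (by revert i j; decide)]
    · fin_cases i <;> fin_cases j
      exacts [a0, b, b0, a]
  exact ⟨funext fun i => by simpa using this 0 i, funext fun i => by simpa using this 1 i⟩

theorem quad_c0 [Finite G] (h : HW σ π) (φ : C0 h →* M3 K) (g k : C0 h)
    (hg : IsNilpotent (φ g - 1)) (hk : IsNilpotent (φ k - 1)) (c : φ g * φ k = φ k * φ g) :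
    φ g = 1 ∨ φ k = 1 ∨ φ k = φ g ∨ φ k * φ g = 1 := by
  obtain ⟨K0, h0, -⟩ := h.lf ∅
  obtain ⟨p, hp⟩ := CharP.exists K
  haveI : Fact p.Prime :=
    ⟨(CharP.char_is_prime_or_zero K p).resolve_right (CharP.char_ne_zero_of_finite K0 p)⟩
  let q := QuotientGroup.mk' φ.ker
  have qe : ∀ {a b}, q a = q b ↔ φ a = φ b := fun {a b} => by
    rw [QuotientGroup.mk'_apply, QuotientGroup.mk'_apply, QuotientGroup.eq, MonoidHom.mem_ker]
    refine ⟨fun e => ?_, fun e => by rw [map_mul, ← e, ← map_mul, inv_mul_cancel, map_one]⟩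
    rw [← mul_one (φ a), ← e, ← map_mul, mul_inv_cancel_left]
  have pg : ∀ {a}, IsNilpotent (φ a - 1) → IsPGroup p (Subgroup.zpowers (q a)) := fun {a} ha => by
    obtain ⟨n, e⟩ := pow_of_nil.1 ha
    have : q a ^ p ^ n = 1 := by rw [← map_pow, ← map_one q, qe, map_pow, e, map_one]
    obtain ⟨m, -, e⟩ := (Nat.dvd_prime_pow Fact.out).1 (orderOf_dvd_of_pow_eq_one this)
    exact IsPGroup.of_card (by rw [Nat.card_zpowers, e])
  have cq : Commute (q g) (q k) := by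
    rw [Commute, SemiconjBy, ← map_mul, ← map_mul, qe, map_mul, map_mul, c]
  have hT := (pg hg).to_sup_of_normal_right' (pg hk) (Subgroup.zpowers_le.2
    (Subgroup.centralizer_le_normalizer _ (fun y ⟨n, hn⟩ => hn ▸ (cq.symm.zpow_left n).eq)))
  obtain ⟨S, hS⟩ := hT.exists_le_sylow
  obtain ⟨P, rfl⟩ := Sylow.mapSurjective_surjective (QuotientGroup.mk'_surjective φ.ker) p S
  obtain ⟨g', a, a'⟩ := hS (Subgroup.mem_sup_left (Subgroup.mem_zpowers _))
  obtain ⟨k', b, b'⟩ := hS (Subgroup.mem_sup_right (Subgroup.mem_zpowers _))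
  rw [← qe.1 a', ← qe.1 b']
  by_cases e : g' = 1
  · exact .inl (by rw [e, map_one])
  haveI : Nontrivial P := ⟨⟨⟨g', a⟩, 1, fun t => e (congrArg Subtype.val t)⟩⟩
  haveI := P.isPGroup'.center_nontrivial
  obtain ⟨z, hz⟩ := exists_ne (1 : Subgroup.center P)
  have key : ∀ x : P, x.1 = 1 ∨ x.1 = z.1.1 ∨ x.1 = z.1.1⁻¹ := fun x => by
    obtain ⟨m, hm⟩ := P.isPGroup' x
    obtain ⟨n, hn⟩ := P.isPGroup' z.1
    have hm' : x.1.1 ^ p ^ m = 1 := congrArg (fun y : P => y.1.1) hm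
    have hn' : z.1.1.1 ^ p ^ n = 1 := congrArg (fun y : P => y.1.1) hn
    have f1 := fix45 h x.1.2 hm'
    have f2 := fix45 h z.1.1.2 hn'
    rcases h.quad z.1.1.1 x.1.1 (ee 4) (ee 5) (by simp) (by simp) (by simp)
      (pow_of_nil.2 ⟨n, by rw [← map_pow, hn', map_one]⟩)
      (pow_of_nil.2 ⟨m, by rw [← map_pow, hm', map_one]⟩)
      (congrArg (fun y : P => y.1.1) (Subgroup.mem_center_iff.1 z.2 x)).symm f2.1 f2.2 f1.1 f1.2
      with t | t | t | t
    · exact absurd (Subtype.ext (Subtype.ext (Subtype.ext t))) hz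
    · exact .inl (Subtype.ext t)
    · exact .inr (.inl (Subtype.ext t))
    · exact .inr (.inr (eq_inv_of_mul_eq_one_left (Subtype.ext t)))
  rw [← map_mul]
  rcases key ⟨g', a⟩ with s | s | s <;> rcases key ⟨k', b⟩ with t | t | t <;>
    simp only at s t <;> simp [s, t]

end So4

theorem HW.exists_c0 [IsAlgClosed K] [Finite G] (h : HW σ π) :
    ∃ (C : Subgroup G) (φ ψ : C →* M3 K), (∀ g, g ∈ C ↔ In0 σ g) ∧
      (∀ g, φ g = cp (b4 (σ g))) ∧ (∀ g, ψ g = cm (b4 (σ g))) ∧ Tm φ ∧ Tm ψ := by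
  have o : ∀ g : C0 h, (b4 (σ g))ᵀ * b4 (σ g) = 1 := fun g => (h.blk g.2.1).1
  have main : ∀ J : Fin 3 → M4 K, (∀ (c : Fin 3 → K) i, -(J i * ∑ k, c k • J k).trace / 4 = c i) →
      (∀ {M : M4 K}, Mᵀ * M = 1 → M.det = 1 → ∀ j, M * J j * Mᵀ = ∑ i, cj J M i j • J i) →
      (∀ {M : M4 K}, Mᵀ * M = 1 → M.det = 1 → (cj J M).det = 1) →
      ∃ φ : C0 h →* M3 K, (∀ g, φ g = cj J (b4 (σ g))) ∧ Tm φ := fun J co e d => by
    let φ : C0 h →* M3 K :=
      { toFun g := cj J (b4 (σ g))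
        map_one' := by simp only [OneMemClass.coe_one, map_one, b4_one.1, cj_one co]
        map_mul' a b := by
          rw [Subgroup.coe_mul, map_mul, (b4_mul h.two a.2.1 _).1,
            cj_mul co (e (o a) a.2.2) (e (o b) b.2.2)] }
    refine ⟨φ, fun _ => rfl, h.two, h.lf, fun g => ?_, fun g => d (o g) g.2.2, quad_c0 h φ⟩
    have : (φ g)ᵀ = φ g⁻¹ := (cj_t _).trans (by
      change _ = cj J (b4 (σ g.1⁻¹))
      rw [h.inv_eq]; rfl)
    rw [this, ← map_mul, inv_mul_cancel, map_one]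
  obtain ⟨φ, a, b⟩ := main Jp (coef_p h.two) (fun e d j => (conj_Jp h.two e d j).1)
    fun {M} e d => by
      have := tri (J := Jp) e
      simp only [(conj_Jp h.two e d _).1, Jp_tri, mul_neg, mul_one, neg_mul,
        mul_eq_one_comm.1 e] at this
      have t := tri_p (cp M)
      rw [this] at t
      exact (by simpa using t.symm : (cp M).det = 1)
  obtain ⟨ψ, c, d⟩ := main Jm (coef_m h.two) (fun e d j => (conj_Jp h.two e d j).2)
    fun {M} e d => by
      have := tri (J := Jm) e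
      simp only [(conj_Jp h.two e d _).2, Jm_tri, mul_one, mul_eq_one_comm.1 e] at this
      have t := tri_m (cm M)
      rw [this] at t
      exact (by simpa using t.symm : (cm M).det = 1)
  exact ⟨C0 h, φ, ψ, fun _ => Iff.rfl, a, c, b, d⟩

theorem HW.flip (h : HW σ π) : ∃ B : O6 K, (∀ g, D4.cw σ B g = aa 4 5 ↔ σ g = aa 4 5) ∧
    ∀ g, (In0 (D4.cw σ B) g ↔ In0 σ g) ∧ (In0 σ g → b2 (D4.cw σ B g) = b2 (σ g) ∧
      (cm (b4 (D4.cw σ B g)) = 1 ↔ cp (b4 (σ g)) = 1)) := by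
  let R : M6 K := diagonal fun i => if i = 0 then -1 else 1
  let R4 : M4 K := diagonal fun i => if i = 0 then -1 else 1
  have t : Rᵀ = R := diagonal_transpose _
  have t4 : R4ᵀ = R4 := diagonal_transpose _
  have s : R * R = 1 := by
    rw [diagonal_mul_diagonal, ← diagonal_one]; congr; ext i; split_ifs <;> simp
  have s4 : R4 * R4 = 1 := by
    rw [diagonal_mul_diagonal, ← diagonal_one]; congr; ext i; split_ifs <;> simp
  have c : R * aa 4 5 = aa 4 5 * R := by simp [R, aa, diagonal_mul_diagonal, mul_comm]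
  have k : ∀ {M N : M6 K}, R * M * R = N ↔ M = R * N * R := fun {M N} =>
    ⟨fun e => by rw [← e]; simp only [← mul_assoc, s, one_mul]; rw [mul_assoc, s, mul_one],
      fun e => by rw [e]; simp only [← mul_assoc, s, one_mul]; rw [mul_assoc, s, mul_one]⟩
  have a : R * aa 4 5 * R = aa 4 5 := by rw [c, mul_assoc, s, mul_one]
  have e4 : ∀ M : M6 K, b4 (R * M * R) = R4 * b4 M * R4 := fun M => by
    ext i j
    have : ∀ i : Fin 4, Fin.castAdd 2 i = (0 : Fin 6) ↔ i = 0 := by decide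
    simp only [b4, R, R4, submatrix_apply, mul_diagonal, diagonal_mul, this]
  have e2 : ∀ M : M6 K, b2 (R * M * R) = b2 M := fun M => by
    ext i j
    have : ∀ i : Fin 2, Fin.natAdd 4 i ≠ (0 : Fin 6) := by decide
    simp only [b2, R, submatrix_apply, mul_diagonal, diagonal_mul, if_neg (this _), one_mul, mul_one]
  have j : ∀ i, R4 * Jm i * R4 = -Jp i := fun i => by
    ext a b; fin_cases i <;> fin_cases a <;> fin_cases b <;> simp [R4, Jp, Jm]
  have f : ∀ M : M4 K, cm (R4 * M * R4) = cp M := fun M => by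
    ext a b
    simp only [cm, cp, of_apply, transpose_mul, t4]
    congr 2
    calc _ = (R4 * Jm a * R4 * M * (R4 * Jm b * R4) * Mᵀ).trace := by
          simp only [mul_assoc]
          rw [trace_mul_comm R4]
          simp only [mul_assoc]
      _ = _ := by simp [j]
  have o : Rᵀ * R = 1 := by rw [t, s]
  have w : ∀ g, D4.cw σ ⟨R, o⟩ g = R * σ g * R := fun g => congrArg (· * σ g * R) t
  refine ⟨⟨R, o⟩, fun g => by rw [w, k, a], fun g => ⟨?_, fun _ => ?_⟩⟩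
  · have d : R4.det * R4.det = 1 := by rw [← det_mul, s4, det_one]
    refine and_congr ?_ ?_
    · change Rᵀ * σ g * R * aa 4 5 = aa 4 5 * (Rᵀ * σ g * R) ↔ σ g * aa 4 5 = aa 4 5 * σ g
      rw [t, mul_assoc, c, ← mul_assoc, mul_assoc R, k]
      simp only [← mul_assoc, a]
      rw [mul_assoc, s, mul_one]
    · rw [w, e4, det_mul, det_mul, mul_right_comm, d, one_mul]
  · rw [w, e4, e2, f]
    exact ⟨rfl, Iff.rfl⟩

end Cfsg.Agent.D4
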