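import Cfsg.Agent.D4.TConn
import Cfsg.Agent.D4.Rk
import Cfsg.Agent.H10.P3U

/-!
Characteristic three: two opposite transvections do not generate `SL₂(5)`.
-/

set_option autoImplicit false

open Matrix
open scoped MatrixGroups

namespace Cfsg.Agent.D4

variable {K : Type*} [Field K] {Γ X : Type*} [Group Γ] [Group X] {ρ : Γ →* M4 K} {π : Γ →* X}
variable {u v w f g h φ ψ χ : V4 K}

theorem zero_of_not_multi (nm : ∀ v, ¬ Multi ρ v) (h : Fl ρ v φ) (h' : Fl ρ w ψ)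
    (e : φ ⬝ᵥ w = 0) : ψ ⬝ᵥ v = 0 := by
  by_contra e'
  exact nm w ⟨h'.2.1, _, ψ, h.1.comm h'.1 e, h'.1, smul_ne_zero e' h.2.2, fun c hc => e' (by
    rw [hc]; simp [h.1.1])⟩

/-- An alternating family of normalised roots gives an invariant form. -/
theorem Hyp.real_of_alt (h : Hyp ρ π) (hv : Fl ρ v φ)
    (hs : ∀ x χ x' χ', Nb ρ v φ x χ → Nb ρ v φ x' χ' → χ ⬝ᵥ x' = -(χ' ⬝ᵥ x)) : Real ρ := by
  let N : V4 K → V4 K → Prop := fun x χ => Nb ρ v φ x χ ∨ (x = v ∧ χ = φ)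
  have sk : ∀ x χ x' χ', N x χ → N x' χ' → χ ⬝ᵥ x' = -(χ' ⬝ᵥ x) := by
    rintro x χ x' χ' (n | ⟨rfl, rfl⟩) (n' | ⟨e1, e2⟩)
    · exact hs _ _ _ _ n n'
    · simp [e1, e2, n.1, n.2.1]
    · simp [n'.1, n'.2.1]
    · simp [e1, e2, hv.1.1]
  have sp := (h.nb_span hv).1
  obtain ⟨S, hS⟩ := exists_theta (RingHom.id K) (-1) (ι := {p : V4 K × V4 K // N p.1 p.2})
    (fun p => p.1.1) (fun p => p.1.2) (fun η e => sp η fun x χ n => e ⟨(x, χ), Or.inl n⟩)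
    fun p p' => by simpa using sk _ _ _ _ p.2 p'.2
  replace hS : ∀ x χ, N x χ → x ᵥ* S = χ := fun x χ n => (hS ⟨(x, χ), n⟩).symm
  have S1 : ∀ x χ, N x χ → S *ᵥ x = -χ := fun x χ n =>
    eq_neg_of_add_eq_zero_left (sp _ fun y η n' => by
      rw [add_dotProduct, dotProduct_comm (S *ᵥ x), dotProduct_mulVec, hS _ _ (Or.inl n'),
        sk _ _ _ _ n (Or.inl n'), add_neg_cancel])
  have S2 : S.det ≠ 0 := fun e => by
    obtain ⟨y, y0, hy⟩ := exists_mulVec_eq_zero_iff.2 e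
    exact y0 ((h.nb_span hv).2 y fun x χ n => by
      rw [← hS _ _ (Or.inl n), ← dotProduct_mulVec, hy, dotProduct_zero])
  let H : Subgroup Γ :=
    { carrier := {g | (ρ g)ᵀ * S * ρ g = S}
      one_mem' := by simp
      mul_mem' := fun {a b} (ha : _ = _) (hb : _ = _) => by
        change _ = _
        rw [map_mul, transpose_mul]
        conv_rhs => rw [← hb, ← ha]
        simp only [mul_assoc]
      inv_mem' := fun {a} (ha : _ = _) => by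
        change _ = _
        conv_lhs => rw [← ha]
        rw [← mul_assoc, ← mul_assoc, ← transpose_mul, mul_inv_rho, transpose_one, one_mul,
          mul_assoc, mul_inv_rho, mul_one] }
  have mH : ∀ (g : Γ) x χ (c : K), N x χ → χ ⬝ᵥ x = 0 → ρ g = 1 + vecMulVec x (c • χ) → g ∈ H :=
    fun g x χ c n n0 e => by
    change _ = _
    rw [e, transpose_add, transpose_one, transpose_vecMulVec, add_mul, one_mul, vecMulVec_mul,
      hS _ _ n, mul_add, mul_one, add_mul, vv_mul, n0, mul_vecMulVec, S1 _ _ n]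
    simp [smul_vecMulVec, vecMulVec_smul]
  exact h.real_of_isO ⟨S, S2, fun g => ⟨1, by
    rw [one_smul]
    exact h.nb_gen hv H (fun g c e => mH g _ _ c (Or.inr ⟨rfl, rfl⟩) hv.1.1 e)
      (fun g x χ c n n0 e => mH g _ _ c (Or.inl n) n0 e) g⟩⟩

theorem T.three {a : K} (h : T ρ v φ) (ha : a = 0 ∨ a = 1 ∨ a = -1) : T ρ v (a • φ) := by
  rcases ha with rfl | rfl | rfl
  exacts [by simpa using T.zero ρ v, by simpa using h, by simpa using h.neg]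

theorem roots9 (hv : T ρ v φ) (hw : T ρ w ψ) (h1 : φ ⬝ᵥ w = 1) {i : K} (h2 : ψ ⬝ᵥ v = i)
    (hi : i ^ 2 = -1) {a b : K} (ha : a = 0 ∨ a = 1 ∨ a = -1) (hb : b = 0 ∨ b = 1 ∨ b = -1) :
    ∃ κ : K, κ ^ 4 = 1 ∧ T ρ (w + (a + b * i) • v) (κ • (ψ - (i * (a + b * i)) • φ)) := by
  obtain ⟨κ, k1, k2⟩ : ∃ κ : K, κ ^ 4 = 1 ∧ T ρ (w + (b * i) • v) (κ • (ψ - (i * (b * i)) • φ)) := by
    by_cases b0 : b = 0
    · exact ⟨1, by simp, by simpa [b0] using hw⟩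
    have hb2 : b ^ 2 = 1 := by
      rcases hb with rfl | rfl | rfl
      exacts [absurd rfl b0, by ring, by ring]
    refine ⟨-i, by linear_combination (i ^ 2 - 1) * hi, ?_⟩
    have := (hw.three hb).neg.act hv
    rw [show v + ((-(b • ψ)) ⬝ᵥ v) • w = (-(b * i)) • (w + (b * i) • v) by
      simp only [neg_dotProduct, smul_dotProduct, h2, smul_eq_mul]
      match_scalars
      · linear_combination b ^ 2 * hi - hb2
      · ring, T.smul_iff, h1] at this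
    convert this using 1
    match_scalars
    · linear_combination i * hb2
    · linear_combination b * i * hi
  refine ⟨κ, k1, ?_⟩
  have := (hv.three ha).act k2
  simp only [smul_dotProduct, dotProduct_add, dotProduct_smul, sub_dotProduct, h1, h2, hv.1,
    smul_eq_mul] at this
  convert this using 1 <;> module

section
variable (h3 : (3 : K) = 0) (nm : ∀ v, ¬ Multi ρ v)
  (hl : ∀ v φ w ψ, T ρ v φ → T ρ w ψ → φ ⬝ᵥ w ≠ 0 → ψ ⬝ᵥ v ≠ 0 → ((φ ⬝ᵥ w) * (ψ ⬝ᵥ v)) ^ 4 = 1)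
include h3 nm hl

theorem alt3_norm (hv : T ρ v φ) (hw : T ρ w ψ) (h1 : φ ⬝ᵥ w = 1) (hi : (ψ ⬝ᵥ v) ^ 2 = -1)
    (hu : Fl ρ u χ) : (ψ ⬝ᵥ u) * (χ ⬝ᵥ v) + (φ ⬝ᵥ u) * (χ ⬝ᵥ w) * (ψ ⬝ᵥ v) = 0 := by
  have i0 : ψ ⬝ᵥ v ≠ 0 := fun e => by simp [e] at hi
  have fv := Fl.of_dot hv i0 (h1 ▸ one_ne_zero)
  by_cases e : χ ⬝ᵥ v = 0
  · simp [e, zero_of_not_multi nm hu fv e]
  have e' : φ ⬝ᵥ u ≠ 0 := fun e' => e (zero_of_not_multi nm fv hu e')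
  by_contra hc
  refine H10.P3.nine h3 hi (A := -(ψ ⬝ᵥ v) * (φ ⬝ᵥ u * χ ⬝ᵥ v))
    (B := ψ ⬝ᵥ u * χ ⬝ᵥ v - ψ ⬝ᵥ v * φ ⬝ᵥ u * χ ⬝ᵥ w) (C := ψ ⬝ᵥ u * χ ⬝ᵥ w) (fun a b ha hb => ?_)
    (by linear_combination hl _ _ _ _ hv hu.1 e' e +
      (φ ⬝ᵥ u * χ ⬝ᵥ v) ^ 4 * ((ψ ⬝ᵥ v) ^ 2 - 1) * hi)
  obtain ⟨κ, k1, k2⟩ := roots9 hv hw h1 rfl hi ha hb
  have k0 : κ ≠ 0 := by rintro rfl; simp at k1
  generalize a + b * ψ ⬝ᵥ v = z at k2
  have fy := Fl.of_dot (ψ := φ) (w := v) k2 (by simp [h1, hv.1]) (by simp [k0, hv.1, i0])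
  have n1 : χ ⬝ᵥ (w + z • v) ≠ 0 := fun n1 => hc (by
    have n2 := zero_of_not_multi nm hu fy n1
    simp only [smul_dotProduct, dotProduct_add, dotProduct_smul, sub_dotProduct, smul_eq_mul,
      mul_eq_zero, k0, false_or] at n1 n2
    linear_combination (χ ⬝ᵥ v) * n2 + (φ ⬝ᵥ u) * (ψ ⬝ᵥ v) * n1)
  have := hl _ _ _ _ hu.1 k2 n1 fun n2 => n1 (zero_of_not_multi nm fy hu n2)
  simp only [smul_dotProduct, dotProduct_add, dotProduct_smul, sub_dotProduct, smul_eq_mul] at this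
  rw [← this, ← mul_one (_ ^ 4), ← k1, ← mul_pow]
  congr 1
  ring

theorem alt3 (hv : T ρ v φ) (hw : T ρ w ψ) (e : ((φ ⬝ᵥ w) * (ψ ⬝ᵥ v)) ^ 2 = -1) (hu : Fl ρ u χ) :
    (φ ⬝ᵥ w) * (ψ ⬝ᵥ u) * (χ ⬝ᵥ v) + (φ ⬝ᵥ u) * (χ ⬝ᵥ w) * (ψ ⬝ᵥ v) = 0 := by
  have a : φ ⬝ᵥ w ≠ 0 := fun a => by simp [a] at e
  have := alt3_norm h3 nm hl hv (w := (φ ⬝ᵥ w)⁻¹ • w) (ψ := (φ ⬝ᵥ w) • ψ)
    (by rw [T.smul_iff, inv_smul_smul₀ a]; exact hw) (by simp [a]) (by simpa using e) hu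
  simp only [smul_dotProduct, dotProduct_smul, smul_eq_mul] at this
  rw [← this]
  field_simp

end

theorem pick3 (h3 : (3 : K) = 0) (α β : K)
    (h : ∀ b : K, (b = 0 ∨ b = 1 ∨ b = -1) → α - b ≠ 0 → (α - b) ^ 8 = 1) :
    ∃ b : K, (b = 0 ∨ b = 1 ∨ b = -1) ∧
      (((α - b) ^ 4 = 1 ∧ β - b ≠ 0) ∨ ((β - b) ^ 4 = 1 ∧ α - b ≠ 0)) := by
  have o : (1 : K) ≠ 0 := one_ne_zero
  obtain ⟨b, hb, e⟩ : ∃ b : K, (b = 0 ∨ b = 1 ∨ b = -1) ∧ (α - b) ^ 4 = 1 := by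
    by_contra hc
    push Not at hc
    have k : ∀ b : K, (b = 0 ∨ b = 1 ∨ b = -1) → α - b = 0 ∨ (α - b) ^ 4 = -1 := fun b hb =>
      or_iff_not_imp_left.2 fun e => (mul_self_eq_one_iff.1
        (by linear_combination h b hb e)).resolve_left (hc b hb)
    rcases k 0 (by simp) with e0 | e0
    · exact hc 1 (by simp) (by rw [show α = 0 by linear_combination e0]; ring)
    rcases k 1 (by simp) with e1 | e1
    · exact hc 0 (by simp) (by rw [show α = 1 by linear_combination e1]; ring)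
    rcases k (-1) (by simp) with e2 | e2
    · exact hc 0 (by simp) (by rw [show α = -1 by linear_combination e2]; ring)
    exact o (by linear_combination -e0 - e1 - e2 + (α ^ 4 + 4 * α ^ 2 + 2) * h3)
  by_cases e1 : β - b = 0
  swap
  · exact ⟨b, hb, Or.inl ⟨e, e1⟩⟩
  obtain rfl : β = b := sub_eq_zero.1 e1
  by_contra hc
  push Not at hc
  rcases hb with rfl | rfl | rfl
  · exact o (by linear_combination ((hc 1 (by simp)).2 (by ring)) - (hc (-1) (by simp)).2 (by ring)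
      + h3)
  · exact o (by linear_combination (hc (-1) (by simp)).2 (by linear_combination 5 * h3) -
      ((hc 0 (by simp)).2 (by ring)))
  · exact o (by linear_combination (hc 0 (by simp)).2 (by ring) -
      ((hc 1 (by simp)).2 (by linear_combination 5 * h3)))

theorem Hyp.real_of_exc (h : Hyp ρ π) (h3 : (3 : K) = 0) (nm : ∀ v, ¬ Multi ρ v)
    (hl : ∀ v φ w ψ, T ρ v φ → T ρ w ψ → φ ⬝ᵥ w ≠ 0 → ψ ⬝ᵥ v ≠ 0 →
      ((φ ⬝ᵥ w) * (ψ ⬝ᵥ v)) ^ 4 = 1) (hv : T ρ v φ) (hw : T ρ w ψ)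
    (e : ((φ ⬝ᵥ w) * (ψ ⬝ᵥ v)) ^ 2 = -1) : Real ρ := by
  have a : φ ⬝ᵥ w ≠ 0 := fun a => by simp [a] at e
  have fv := Fl.of_dot hv (ψ := ψ) (fun a => by simp [a] at e) a
  obtain ⟨w, ψ, i, hw, h1, h2, hi⟩ : ∃ (w ψ : V4 K) (i : K), T ρ w ψ ∧ φ ⬝ᵥ w = 1 ∧ ψ ⬝ᵥ v = i ∧
      i ^ 2 = -1 := ⟨(φ ⬝ᵥ w)⁻¹ • w, (φ ⬝ᵥ w) • ψ, _,
    by rw [T.smul_iff, inv_smul_smul₀ a]; exact hw, by simp [a], rfl, by simpa using e⟩
  have i0 : i ≠ 0 := fun e => by simp [e] at hi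
  have sb : ∀ b : K, (b = 0 ∨ b = 1 ∨ b = -1) → T ρ (w + b • v) (ψ - (i * b) • φ) := fun b hb => by
    simpa [h1, h2, smul_smul] using (hv.three hb).act hw
  have nb : ∀ x χ, Nb ρ v φ x χ → ∃ c : K, c ^ 4 = 1 ∧ Fl ρ x (c • χ) ∧ ψ ⬝ᵥ x = i * χ ⬝ᵥ w :=
    fun x χ ⟨a, b, c, c0, t⟩ => by
    have f : Fl ρ x (c • χ) := Fl.of_dot (ψ := φ) (w := v) t (by simp [a]) (by simp [b, c0])
    have k := hl _ _ _ _ hv t (by simp [a]) (by simp [b, c0])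
    have k2 := alt3_norm h3 nm hl hv hw h1 (h2 ▸ hi) f
    simp only [smul_dotProduct, a, b, h2, smul_eq_mul] at k k2
    exact ⟨c, by linear_combination k, f, mul_left_cancel₀ c0 (by linear_combination -k2)⟩
  have sq : ∀ c : K, c ^ 4 = 1 → c ^ 2 = 1 ∨ c ^ 2 = -1 := fun c e =>
    mul_self_eq_one_iff.1 (by linear_combination e)
  have ne : ∀ c : K, c ^ 4 = 1 → c ≠ 0 := by rintro c e rfl; simp at e
  have k1 : ∀ x χ x' χ' (c c' : K), Nb ρ v φ x χ → Nb ρ v φ x' χ' → T ρ x (c • χ) →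
      Fl ρ x' (c' • χ') → c ^ 2 = -1 → c' ≠ 0 → χ ⬝ᵥ x' + χ' ⬝ᵥ x = 0 :=
    fun x χ x' χ' c c' n n' t t' e c0 => by
    have := alt3 h3 nm hl hv t (by simpa [n.1, n.2.1] using e) t'
    simp only [smul_dotProduct, n.1, n.2.1, n'.1, n'.2.1, smul_eq_mul] at this
    exact mul_left_cancel₀ (mul_ne_zero (a := c) (by rintro rfl; simp at e) c0)
      (by linear_combination -this)
  have k2 : ∀ x χ x' χ' (c c' b : K), Nb ρ v φ x χ → Nb ρ v φ x' χ' → T ρ x (c • χ) →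
      Fl ρ x' (c' • χ') → c ^ 2 = 1 → c' ≠ 0 → ψ ⬝ᵥ x = i * χ ⬝ᵥ w → ψ ⬝ᵥ x' = i * χ' ⬝ᵥ w →
      (b = 0 ∨ b = 1 ∨ b = -1) → (χ ⬝ᵥ w - b) ^ 4 = 1 → χ' ⬝ᵥ w - b ≠ 0 →
      χ ⬝ᵥ x' + χ' ⬝ᵥ x = 0 := fun x χ x' χ' c c' b n n' t t' e c0 p p' hb q q' => by
    have := alt3 h3 nm hl (sb b hb) t (by
      simp only [smul_dotProduct, sub_dotProduct, dotProduct_add, dotProduct_smul, n.1, n.2.1, p,
        smul_eq_mul]
      linear_combination c ^ 2 * (χ ⬝ᵥ w - b) ^ 4 * hi - (χ ⬝ᵥ w - b) ^ 4 * e - q) t'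
    simp only [smul_dotProduct, sub_dotProduct, dotProduct_add, dotProduct_smul, n.1, n.2.1, p,
      n'.1, n'.2.1, p', smul_eq_mul] at this
    exact mul_left_cancel₀ (mul_ne_zero (mul_ne_zero (mul_ne_zero (a := c)
      (by rintro rfl; simp at e) c0) i0) (mul_ne_zero (ne _ q) q')) (by linear_combination this)
  refine h.real_of_alt fv ?_
  · intro x χ x' χ' n n'
    refine eq_neg_of_add_eq_zero_left ?_
    obtain ⟨c, c4, t, p⟩ := nb _ _ n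
    obtain ⟨c', c4', t', p'⟩ := nb _ _ n'
    rcases sq c c4 with e | e
    swap
    · exact k1 _ _ _ _ _ _ n n' t.1 t' e (ne _ c4')
    rcases sq c' c4' with e' | e'
    swap
    · exact (add_comm _ _).trans (k1 _ _ _ _ _ _ n' n t'.1 t e' (ne _ c4))
    obtain ⟨b, hb, q | q⟩ := pick3 h3 (χ ⬝ᵥ w) (χ' ⬝ᵥ w) fun b hb q => by
      have := hl _ _ _ _ (sb b hb) t.1
        (by simpa [n.1, p, ← mul_sub, i0] using q)
        (by simpa [n.2.1, ne _ c4, ← sub_eq_add_neg, mul_comm b c, ← mul_sub] using q)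
      simp only [smul_dotProduct, sub_dotProduct, dotProduct_add, dotProduct_smul, n.1, n.2.1, p,
        smul_eq_mul] at this
      linear_combination this - (χ ⬝ᵥ w - b) ^ 8 * c4 -
        c ^ 4 * (χ ⬝ᵥ w - b) ^ 8 * (i ^ 2 - 1) * hi
    · exact k2 _ _ _ _ _ _ _ n n' t.1 t' e (ne _ c4') p p' hb q.1 q.2
    · exact (add_comm _ _).trans (k2 _ _ _ _ _ _ _ n' n t'.1 t e' (ne _ c4) p' p hb q.1 q.2)

end Cfsg.Agent.D4
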