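import Cfsg.Agent.D4.WA1y
import Cfsg.Agent.D4.WFrm
import Cfsg.Agent.SGJ2.Red

/-!
A factor `SL₂(5)`: commuting conjugates.
-/

set_option autoImplicit false
set_option linter.unusedSectionVars false

open Matrix
open scoped MatrixGroups

namespace Cfsg.Agent.D4

open WA1 MC3

variable {K : Type*} [Field K] {G X : Type*} [Group G] [Group X] {σ : G →* M6 K} {π : G →* X}
variable [IsAlgClosed K] [Finite G]

theorem HW.a1_char (h : HW σ π) (a : A1 σ) : (3 : K) ≠ 0 ∧ (5 : K) ≠ 0 := by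
  obtain ⟨L, C, N, f, s⟩ := exists_su h a
  have key : ∀ p : ℕ, p.Prime → p ∣ 60 → (p : K) ≠ 0 := fun p hp d e => by
    have := Fact.mk hp
    have : CharP K p := (CharP.charP_iff_prime_eq_zero hp).2 e
    have h1 := Subgroup.card_dvd_of_surjective (s.fh.mono (s.LC h)).hom fun y =>
      (s.fs y).elim fun l hl => ⟨⟨l, hl.1⟩, hl.2⟩
    rw [nat_card_alternatingGroup, Nat.card_eq_fintype_card, Fintype.card_fin] at h1
    obtain ⟨l, hl⟩ := exists_prime_orderOf_dvd_card' p (d.trans h1)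
    have l1 : (l : G) ≠ 1 := fun e => hp.one_lt.ne' (by rw [← hl, show l = 1 from Subtype.ext e, orderOf_one])
    have lp : (l : G) ^ p = 1 := by rw [← hl, ← Subgroup.coe_pow, pow_orderOf_eq_one]; rfl
    have n : IsNilpotent (σ l - 1) := ⟨p, by
      rw [sub_pow_char_of_commute _ (Commute.one_right _), ← map_pow, lp, map_one, one_pow, sub_self]⟩
    have t := (isNilpotent_trace_of_isNilpotent n).eq_zero
    obtain ⟨c, q⟩ := s.Q h l.2
    have t' := congrArg trace q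
    rw [h.inv_eq] at t'
    simp only [trace_add, trace_sub, trace_smul, trace_transpose, trace_one, Fintype.card_fin,
      trace_aa (show (4 : Fin 6) ≠ 5 by decide), smul_eq_mul] at t t'
    have c1 : c = 1 := mul_left_cancel₀ (mul_ne_zero h.two (WB.four h.two)) (by
      push_cast at t t'; linear_combination 2 * t - t')
    refine l1 (h.nrt _ ?_)
    have i : σ (l : G)⁻¹ * σ l = 1 := by rw [← map_mul, inv_mul_cancel, map_one]
    rw [c1, one_smul, add_add_sub_cancel] at q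
    calc (σ l - 1) * (σ l - 1) = σ l * σ l - (1 + 1) * σ l + 1 := by noncomm_ring
      _ = 0 := by rw [← q, add_mul, i]; abel
  exact ⟨key 3 Nat.prime_three (by decide), key 5 Nat.prime_five (by decide)⟩

theorem HW.a1_perp (h : HW σ π) (a : A1 σ) {t g : G} (ht : σ t = aa 4 5)
    (e : In0 σ (g * t * g⁻¹)) : g * t * g⁻¹ = t := by
  obtain ⟨L, C, N, f, s⟩ := exists_su h a
  exact s.perp h ht e

namespace WA1

theorem exists_uv (h : HW σ π) (a : A1 σ) {t : G} (ht : σ t = aa 4 5) : ∃ (g : G) (u v : V6 K),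
    u ⬝ᵥ u = 1 ∧ v ⬝ᵥ v = 1 ∧ u ⬝ᵥ v = 0 ∧ σ (g * t * g⁻¹) = rf v * rf u ∧ σ t *ᵥ u = -u ∧ σ t *ᵥ v = v := by
  have := h.finiteX
  have := h.simple
  have tt := inv_of_aa h ht
  have tr : (σ t).trace = 2 := by rw [ht, trace_aa (by decide)]
  obtain ⟨x, n, c⟩ := H88.JJ.exists_comm_conj (h.ord_inv tt tr) (by
    by_contra k
    have := Finite.one_lt_card (α := X)
    have := isCyclic_of_prime_card (show Nat.card X = 2 by omega)
    exact h.nonab IsCyclic.isMulCommutative)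
  obtain ⟨g, rfl⟩ := h.surj x
  have c' : g * t * g⁻¹ * t = t * (g * t * g⁻¹) := mul_inv_eq_iff_eq_mul.1 (h.conj_lift tr tr (by
    rw [map_mul, map_mul, map_inv, c, mul_inv_cancel_right]))
  have n' : g * t * g⁻¹ ≠ t := fun e => n (by rw [← map_inv, ← map_mul, ← map_mul, e])
  obtain ⟨B, hB⟩ := h.exists_diag ![t, g * t * g⁻¹] (Fin.forall_fin_two.2 ⟨tt, conj_sq tt g⟩)
    (Fin.forall_fin_two.2 ⟨Fin.forall_fin_two.2 ⟨rfl, c'.symm⟩, Fin.forall_fin_two.2 ⟨c', rfl⟩⟩)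
  obtain ⟨i, j, ij, e1⟩ := (h.cw B).aa_of_diag (a := t) (hB 0) (by rwa [WB.cw_trace])
  obtain ⟨k, l, kl, e2⟩ := (h.cw B).aa_of_diag (a := g * t * g⁻¹) (hB 1) (by rwa [WB.cw_trace, tr_conj])
  have d : ∀ i j k l : Fin 6, i ≠ j → k ≠ l → (∀ x, x = k ∨ x = l ↔ x = i ∨ x = j) ∨
      (∀ m, ¬ ((m = k ∨ m = l) ∧ (m = i ∨ m = j))) ∨ ∃ p r, r ≠ p ∧ (p = i ∨ p = j) ∧ ¬ (r = i ∨ r = j) ∧
        ∀ x, x = k ∨ x = l ↔ x = r ∨ x = p := by decide +kernel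
  rcases d i j k l ij kl with e | e | ⟨p, r, rp, hp, hr, e⟩
  · exact absurd ((h.cw B).inj (by rw [e1, e2, aa_congr e])) n'
  · exact absurd (h.a1_perp a ht (in0_of_perp h ht c' ((perp_aa e2 e1 e).cw B)).1) n'
  refine ⟨g, B.1 *ᵥ ee p, B.1 *ᵥ ee r, by rw [WB.dot_orth B.2]; simp, by rw [WB.dot_orth B.2]; simp,
    by rw [WB.dot_orth B.2]; simp [rp.symm], ?_, ?_, ?_⟩
  · rw [← WB.uncw B (σ _), ← cw_apply, e2, aa_congr e, aa_eq_rf rp, ← rf_conj B.2, ← rf_conj B.2]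
    simp only [mul_assoc]
    rw [← mul_assoc B.1ᵀ, B.2, one_mul]
  · rw [← WB.cw_vec, e1, aa_ee, if_pos hp, mulVec_smul, neg_one_smul]
  · rw [← WB.cw_vec, e1, aa_ee, if_neg hr, one_smul]

/-- elements of `A₅` -/
def xs : Fin 4 → A5 := ![1, ⟨Equiv.swap 0 1 * Equiv.swap 2 3, Equiv.Perm.mem_alternatingGroup.2 (by decide)⟩,
  ⟨Equiv.swap 0 2 * Equiv.swap 1 3, Equiv.Perm.mem_alternatingGroup.2 (by decide)⟩,
  ⟨Equiv.swap 0 3 * Equiv.swap 1 2, Equiv.Perm.mem_alternatingGroup.2 (by decide)⟩]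

/-- an element of order three -/
def y3 : A5 := ⟨Equiv.swap 1 2 * Equiv.swap 2 3, Equiv.Perm.mem_alternatingGroup.2 (by decide)⟩

theorem stage1 (h : HW σ π) (a : A1 σ) : ∃ B : O6 K, A1 (cw σ B) ∧
    (∃ t g, cw σ B t = aa 4 5 ∧ cw σ B (g * t * g⁻¹) = aa 0 5) ∧
    Equiv.swap 0 1 * Equiv.swap 2 3 ∈ Yg (cw σ B) ∧ Equiv.swap 0 2 * Equiv.swap 1 3 ∈ Yg (cw σ B) ∧
      Equiv.swap 1 2 * Equiv.swap 2 3 ∈ Yg (cw σ B) := by
  obtain ⟨t, ht⟩ := a.1
  obtain ⟨g, u, v, uu, vv, uv, e, tu, tv⟩ := exists_uv h a ht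
  obtain ⟨L, C, N, f, s⟩ := exists_su h a
  have fL := s.fh.mono (s.LC h)
  have lu : ∀ l ∈ L, σ l *ᵥ u = u := fun l hl => by
    have := congrArg (· *ᵥ u) (s.fix h hl)
    simp only [← mulVec_mulVec, sub_mulVec, one_mulVec, ← ht, tu, sub_neg_eq_add, ← two_smul K u,
      mulVec_smul] at this
    exact smul_right_injective _ h.two this
  have lt : ∀ l ∈ L, σ t *ᵥ σ l *ᵥ v = σ l *ᵥ v := fun l hl => by
    rw [mulVec_mulVec, ht, ← show σ l * aa 4 5 = _ from s.cz h (s.LC h hl), ← mulVec_mulVec, ← ht, tv]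
  have ul : ∀ l ∈ L, u ⬝ᵥ σ l *ᵥ v = 0 := fun l hl => by rw [← lu l hl, WB.dot_orth (h.orth l), uv]
  have dt : ∀ x y, (σ x *ᵥ v) ⬝ᵥ σ y *ᵥ v = v ⬝ᵥ σ (x⁻¹ * y) *ᵥ v := fun x y => by
    rw [← WB.dot_orth (h.orth x) v, mulVec_mulVec, ← map_mul, mul_inv_cancel_left]
  have R : ∀ l ∈ L, σ (g * t * g⁻¹) *ᵥ σ l *ᵥ v = -σ l⁻¹ *ᵥ v := fun l hl => by
    obtain ⟨c, q⟩ := s.Q h hl
    have q1 := congrArg (· *ᵥ v) q
    simp only [add_mulVec, sub_mulVec, smul_mulVec, one_mulVec, ← ht, tv, sub_self, add_zero] at q1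
    have q2 := congrArg (v ⬝ᵥ ·) q1
    have q3 := dt l 1
    simp only [map_one, one_mulVec, mul_one] at q3
    simp only [dotProduct_add, dotProduct_smul, vv, ← q3, dotProduct_comm _ v, smul_eq_mul] at q2
    rw [e, ← mulVec_mulVec, rf_mulVec u, ul l hl, mul_zero, zero_div, zero_smul, sub_zero, rf_mulVec, vv, div_one,
      two_mul, q2, neg_mulVec, eq_neg_iff_add_eq_zero, sub_add_eq_add_sub, q1, sub_eq_zero, ← one_add_one_eq_two.symm,
      ← two_smul K v, smul_smul]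
  have sq : ∀ l ∈ L, f l ≠ 1 → f l * f l = 1 → σ l⁻¹ *ᵥ v = -σ l *ᵥ v := fun l hl e1 e2 => by
    have : σ l⁻¹ *ᵥ σ (l * l) *ᵥ v = σ l *ᵥ v := by rw [mulVec_mulVec, ← map_mul, inv_mul_cancel_left]
    rw [neg_mulVec, ← this, s.sqL h hl e1 e2, ← ht, neg_mulVec, tv, mulVec_neg, neg_neg]
  have same : ∀ x ∈ L, ∀ y ∈ L, f x = f y → ∃ c : K, σ x *ᵥ v = c • σ y *ᵥ v := fun x hx y hy e => by
    have m := mul_mem hx (inv_mem hy)
    rw [← inv_mul_cancel_right x y, map_mul, ← mulVec_mulVec]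
    rcases s.ker h (s.LN m) (by rw [fL.div hx hy, e, mul_inv_cancel]) (s.L2 _ m) with e | e <;> rw [e]
    · exact ⟨1, by simp⟩
    · exact ⟨-1, by rw [neg_mulVec, ← ht, lt y hy, neg_one_smul]⟩
  obtain ⟨I, hI, fI⟩ := s.fs (xs 1)
  obtain ⟨J, hJ, fJ⟩ := s.fs (xs 2)
  obtain ⟨q, hq, fq⟩ := s.fs y3
  let c : Fin 4 → G := ![1, I, J, I * J]
  have cL : ∀ j, c j ∈ L := fun j => by
    fin_cases j
    exacts [one_mem _, hI, hJ, mul_mem hI hJ]
  have fc : ∀ j, f (c j) = xs j := fun j => by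
    fin_cases j
    exacts [fL.one, fI, fJ, (fL.mul _ hI _ hJ).trans (by rw [fI, fJ]; decide)]
  have cc : ∀ i j, (σ (c i) *ᵥ v) ⬝ᵥ σ (c j) *ᵥ v = if i = j then 1 else 0 := fun i j => by
    rw [dt]
    split_ifs with n
    · rw [n, inv_mul_cancel, map_one, one_mulVec, vv]
    · have m := mul_mem (inv_mem (cL i)) (cL j)
      have e1 : f ((c i)⁻¹ * c j) = (xs i)⁻¹ * xs j := by rw [fL.mul _ (inv_mem (cL i)) _ (cL j), fL.inv (cL i), fc, fc]
      have d : ∀ i j, i ≠ j → (xs i)⁻¹ * xs j ≠ 1 ∧ (xs i)⁻¹ * xs j * ((xs i)⁻¹ * xs j) = 1 := by decide +kernel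
      have e2 := dt ((c i)⁻¹ * c j) 1
      rw [map_one, one_mulVec, mul_one, sq _ m (e1 ▸ (d i j n).1) (e1 ▸ (d i j n).2), neg_mulVec, dotProduct_neg,
        dotProduct_comm] at e2
      exact mul_left_cancel₀ h.two (by linear_combination e2)
  obtain ⟨B, hB⟩ := exists_O6 h.two {0, 1, 2, 3, 5} ![σ (c 0) *ᵥ v, σ (c 1) *ᵥ v, σ (c 2) *ᵥ v, σ (c 3) *ᵥ v, 0, u] (by
    have cu := fun j => ul _ (cL j)
    have cu' := fun j => (dotProduct_comm _ _).trans (cu j)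
    intro i hi j hj
    simp only [Finset.mem_insert, Finset.mem_singleton] at hi hj
    rcases hi with rfl | rfl | rfl | rfl | rfl <;> rcases hj with rfl | rfl | rfl | rfl | rfl <;>
      simp [cc, cu, cu', uu])
  have Bc : ∀ j : Fin 4, B.1 *ᵥ ee (j.castAdd 2) = σ (c j) *ᵥ v := fun j => by
    fin_cases j <;> exact hB _ (by decide)
  have B5 : B.1 *ᵥ ee 5 = u := hB 5 (by decide)
  have Bi : ∀ {x y : V6 K}, B.1 *ᵥ x = B.1 *ᵥ y → x = y := fun e => by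
    simpa [B.2] using congrArg (B.1ᵀ *ᵥ ·) e
  have j5 : ∀ j : Fin 6, j ≠ 4 → j = 5 ∨ ∃ k : Fin 4, j = k.castAdd 2 := by decide
  have H := h.cw B
  have mon : ∀ (x : G) (w : S6) (w' : Fin 4 → Fin 4), w 5 = 5 → (∀ k, w (k.castAdd 2) = (w' k).castAdd 2) →
      σ x *ᵥ u = u → (∀ k, ∃ a : K, σ x *ᵥ σ (c k) *ᵥ v = a • σ (c (w' k)) *ᵥ v) → w ∈ Yg (cw σ B) :=
    fun x w w' w5 wk e1 e2 => ⟨x, isMono5 (H.orth x) w fun j hj => by
      rcases j5 j hj with rfl | ⟨k, rfl⟩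
      · exact ⟨1, Bi (by rw [WB.cw_vec, w5, one_smul, B5, e1])⟩
      · exact (e2 k).imp fun a e => Bi (by rw [WB.cw_vec, wk, mulVec_smul, Bc, Bc, e])⟩
  have monL : ∀ x ∈ L, ∀ w' : Fin 4 → Fin 4, (∀ k, f x * xs k = xs (w' k)) →
      ∀ k, ∃ a : K, σ x *ᵥ σ (c k) *ᵥ v = a • σ (c (w' k)) *ᵥ v := fun x hx w' e k => by
    rw [mulVec_mulVec, ← map_mul]
    exact same _ (mul_mem hx (cL k)) _ (cL _) (by rw [fL.mul _ hx _ (cL k), fc, fc, e])
  have t'u : σ (g * t * g⁻¹) *ᵥ u = -u := by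
    rw [e, ← mulVec_mulVec, WB.rf_self (by simp [uu]), mulVec_neg, rf_mulVec, dotProduct_comm, uv]; simp
  have ct : cw σ B t = aa 4 5 := aa5 (H.orth t) (H.det t) (by decide) fun j hj => Bi (by
    rw [WB.cw_vec, aa_ee, mulVec_smul]
    rcases j5 j hj with rfl | ⟨k, rfl⟩
    · rw [B5, tu]; simp
    · rw [Bc, lt _ (cL k), if_neg (by revert k; decide), one_smul])
  have ct' : cw σ B (g * t * g⁻¹) = aa 0 5 := aa5 (H.orth _) (H.det _) (by decide) fun j hj => Bi (by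
    rw [WB.cw_vec, aa_ee, mulVec_smul]
    rcases j5 j hj with rfl | ⟨k, rfl⟩
    · rw [B5, t'u]; simp
    · rw [Bc, R _ (cL k)]
      by_cases k0 : k = 0
      · subst k0; simp [c, neg_mulVec]
      · have d : ∀ k, k ≠ 0 → xs k ≠ 1 ∧ xs k * xs k = 1 := by decide +kernel
        rw [neg_mulVec, sq _ (cL k) (fc k ▸ (d k k0).1) (fc k ▸ (d k k0).2), neg_mulVec, neg_neg,
          if_neg (by revert k; decide), one_smul])
  have Q' : ∀ l ∈ L, ∃ a : K, b4 (cw σ B l) + (b4 (cw σ B l))ᵀ = (2 * a) • 1 := fun l hl => by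
    obtain ⟨a, q⟩ := s.Q h hl
    have q1 := congrArg (fun M => b4 (B.1ᵀ * M * B.1)) q
    simp only [← ht, mul_add, add_mul, mul_sub, sub_mul, mul_smul_comm, smul_mul_assoc, mul_one, B.2,
      ← cw_apply] at q1
    rw [ct, H.inv_eq] at q1
    refine ⟨a, q1.trans ?_⟩
    change a • (b4 (1 : M6 K) + b4 (aa 4 5)) + (b4 (1 : M6 K) - b4 (aa 4 5)) = _
    rw [b4_one, b4_aa, sub_self, add_zero, ← two_smul K, smul_smul, mul_comm]
  have cI : b4 (cw σ B I) = Jp 0 := by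
    have sI : ∀ y ∈ L, σ I *ᵥ σ (I * y) *ᵥ v = -σ y *ᵥ v := fun y hy => by
      rw [mulVec_mulVec, ← map_mul, ← mul_assoc, map_mul, s.sqL h hI (by rw [fI]; decide) (by rw [fI]; decide),
        ← mulVec_mulVec, neg_mulVec, neg_mulVec, ← ht, lt y hy]
    have k0 : cw σ B I *ᵥ ee 0 = ee 1 := Bi (by rw [WB.cw_vec, hB 0 (by decide), hB 1 (by decide)]; simp [c])
    have k1 : cw σ B I *ᵥ ee 1 = -ee 0 := Bi (by
      rw [WB.cw_vec, mulVec_neg, hB 0 (by decide), hB 1 (by decide)]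
      simpa [c, neg_mulVec] using sI 1 (one_mem _))
    have k2 : cw σ B I *ᵥ ee 2 = ee 3 := Bi (by rw [WB.cw_vec, hB 2 (by decide), hB 3 (by decide)]; simp [c])
    have k3 : cw σ B I *ᵥ ee 3 = -ee 2 := Bi (by
      rw [WB.cw_vec, mulVec_neg, hB 2 (by decide), hB 3 (by decide)]
      simpa [c, neg_mulVec] using sI J hJ)
    rw [mulVec_single_one] at k0 k1 k2 k3
    ext i j
    fin_cases j
    exacts [(congrFun k0 _).trans (by fin_cases i <;> simp [Jp]), (congrFun k1 _).trans (by fin_cases i <;> simp [Jp]),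
      (congrFun k2 _).trans (by fin_cases i <;> simp [Jp]), (congrFun k3 _).trans (by fin_cases i <;> simp [Jp])]
  refine ⟨B, ⟨⟨t, ct⟩, L, s.ns, fun l hl => ?_⟩, ⟨t, g, ct, ct'⟩,
    mon I _ ![1, 0, 3, 2] (by decide) (by decide) (lu I hI) (monL I hI _ (by rw [fI]; decide)),
    mon J _ ![2, 3, 0, 1] (by decide) (by decide) (lu J hJ) (monL J hJ _ (by rw [fJ]; decide)),
    mon (q * (g * t * g⁻¹) * q * (g * t * g⁻¹)) _ ![0, 2, 3, 1] (by decide) (by decide) ?_ fun k => ?_⟩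
  · have c := (mem_cz h ht).1 (s.cz h (s.LC h hl))
    have p : Perp σ l t := (perp_iff ht).2 (s.fix h hl)
    obtain ⟨i0, b⟩ := in0_of_perp H ct c (by
      have := congrArg (fun M => B.1ᵀ * M * B.1) p
      simpa only [Perp, mul_add, add_mul, cw_apply, mul_one, B.2] using this)
    obtain ⟨a1, q1⟩ := Q' l hl
    obtain ⟨a2, q2⟩ := Q' _ (mul_mem hl hI)
    rw [(bmul H i0.1 I).1, cI] at q2
    exact ⟨i0, b, (cm_eq_one h.two (H.blk i0.1).1 i0.2).1.2 ⟨_, _, quat_of h.two q1 q2⟩⟩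
  · simp only [map_mul σ _ (g * t * g⁻¹), map_mul σ _ q, ← mulVec_mulVec, t'u, mulVec_neg, lu q hq, neg_neg]
  · have m := mul_mem hq (inv_mem (cL k))
    obtain ⟨a, e⟩ := same _ (mul_mem hq (inv_mem m)) _ (cL (![0, 2, 3, 1] k)) (by
      rw [fL.div hq m, fL.div hq (cL k), fc, fc, fq]; clear m; revert k; decide +kernel)
    refine ⟨a, ?_⟩
    rw [map_mul σ _ (g * t * g⁻¹), map_mul σ _ q, map_mul σ _ (g * t * g⁻¹), ← mulVec_mulVec, ← mulVec_mulVec,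
      ← mulVec_mulVec, R _ (cL k), neg_mulVec, mulVec_neg, mulVec_mulVec v (σ q), ← map_mul, mulVec_neg, R _ m,
      neg_mulVec, neg_neg, mulVec_mulVec, ← map_mul, e]

theorem zero_of {M : M6 K} (h2 : (2 : K) ≠ 0) {ε δ : Fin 6 → K} (e : M * diagonal ε = diagonal δ * M) {i j : Fin 6}
    (n : ε j = 1 ∧ δ i = -1 ∨ ε j = -1 ∧ δ i = 1) : M i j = 0 := by
  have := congrFun (congrFun e i) j
  rw [mul_diagonal, diagonal_mul] at this
  refine mul_left_cancel₀ h2 ?_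
  rcases n with ⟨a, b⟩ | ⟨a, b⟩ <;> rw [a, b] at this
  · linear_combination this
  · linear_combination -this

theorem stage2 (h : HW σ π) (a : A1 σ) (F : Frm σ) {t g : G} (ht : σ t = aa 4 5) (hg : σ (g * t * g⁻¹) = aa 0 5) :
    Equiv.swap 1 2 * Equiv.swap 3 4 ∈ Yg σ := by
  obtain ⟨L, C, N, f, s⟩ := exists_su h a
  have key : ∀ i j : Fin 6, i ≠ j → (∀ m, ¬ ((m = i ∨ m = j) ∧ (m = 0 ∨ m = 5))) → ∃ x, σ (g * x * g⁻¹) = aa i j ∧
      x ∈ C ∧ b2 (σ x) = 1 ∧ x * x = 1 ∧ (σ x).trace = 2 := fun i j ij d => by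
    obtain ⟨y, hy⟩ := F i j ij
    have c : y * (g * t * g⁻¹) = g * t * g⁻¹ * y := h.inj (by
      rw [map_mul, map_mul _ _ y, hy, hg, aa, aa, diagonal_mul_diagonal, diagonal_mul_diagonal]
      simp only [mul_comm])
    have p := (perp_aa hy hg d).conj g⁻¹
    rw [show g⁻¹ * (g * t * g⁻¹) * g⁻¹⁻¹ = t by group] at p
    obtain ⟨i0, b⟩ := in0_of_perp h ht (x := g⁻¹ * y * g⁻¹⁻¹) (by
      calc _ = g⁻¹ * (y * (g * t * g⁻¹)) * g := by group
        _ = _ := by rw [c]; group) p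
    exact ⟨_, by rw [← hy]; congr 1; group, (s.hC _).2 i0, b, conj_sq (inv_of_aa h hy) _,
      by rw [tr_conj, hy, trace_aa ij]⟩
  obtain ⟨x, x1, xC, xb, xx, xt⟩ := key 1 2 (by decide) (by decide)
  obtain ⟨y, y1, yC, yb, yy, -⟩ := key 1 3 (by decide) (by decide)
  obtain ⟨k, hk, fk, kx, kk⟩ := s.lift h xC xx xb xt
  have kC := s.LC h hk
  have xy : x * y = y * x := (MulAut.conj g).injective (h.inj (by
    simp only [map_mul (MulAut.conj g), MulAut.conj_apply]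
    rw [map_mul, map_mul _ _ (g * x * g⁻¹), x1, y1, aa, aa, diagonal_mul_diagonal, diagonal_mul_diagonal]
    simp only [mul_comm]))
  have m : k * (y * k⁻¹ * y⁻¹) ∈ N := mul_mem (s.LN hk) (s.nN _ yC _ (inv_mem (s.LN hk)))
  have cg : ∀ p q : G, σ (g * (p * q) * g⁻¹) = σ (g * p * g⁻¹) * σ (g * q * g⁻¹) := fun p q => by
    rw [← map_mul, conj_mul]
  have e1 : σ (g * k * g⁻¹) * aa 1 2 = aa 1 2 * σ (g * k * g⁻¹) := by rw [← x1, ← cg, ← cg, kx]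
  have e2 : σ (g * k * g⁻¹) * aa 0 5 = aa 0 5 * σ (g * k * g⁻¹) := by
    rw [← hg, ← cg, ← cg, (mem_cz h ht).1 (s.cz h kC)]
  have e3 : σ (g * k * g⁻¹) * (1 - aa 0 5) = 1 - aa 0 5 :=
    (perp_iff hg).1 (((perp_iff ht).2 (s.fix h hk)).conj g)
  have e4 : ∀ i j : Fin 6, j = 0 ∨ j = 5 → i ≠ j → σ (g * k * g⁻¹) i j = 0 := fun i j hj n => by
    have := congrFun (congrFun e3 i) j
    rw [one_sub_aa, mul_diagonal, diagonal_apply_ne _ n, if_pos hj] at this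
    exact (mul_eq_zero.1 this).resolve_right h.two
  have fin : ∀ (w : S6) (p q : Fin 6), σ (g * k * g⁻¹) * aa 1 3 = aa p q * σ (g * k * g⁻¹) →
      (∀ i j, i ≠ w j → ((j = 0 ∨ j = 5) ∧ i ≠ j) ∨ ¬ ((j = 1 ∨ j = 2) ↔ (i = 1 ∨ i = 2)) ∨
        ¬ ((j = 0 ∨ j = 5) ↔ (i = 0 ∨ i = 5)) ∨ ¬ ((j = 1 ∨ j = 3) ↔ (i = p ∨ i = q))) →
      IsMono (σ (g * k * g⁻¹)) w := fun w p q e d => isMono_of_zero (h.orth _) w fun i j n => by
    rcases d i j n with d | d | d | d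
    · exact e4 i j d.1 d.2
    · exact zero_of h.two e1 (by by_cases c : j = 1 ∨ j = 2 <;> simp_all)
    · exact zero_of h.two e2 (by by_cases c : j = 0 ∨ j = 5 <;> simp_all)
    · exact zero_of h.two e (by by_cases c : j = 1 ∨ j = 3 <;> simp_all)
  rcases s.ker h m (by
    rw [s.fh.mul _ kC _ (s.NC h (s.nN _ yC _ (inv_mem (s.LN hk)))), s.fh.conj yC (inv_mem kC), s.fh.inv kC, fk,
      ← s.fh.inv xC, ← s.fh.conj yC (inv_mem xC), ← s.fh.mul _ xC _ (mul_mem (mul_mem yC (inv_mem xC)) (inv_mem yC)),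
      ← mul_assoc, ← mul_assoc, xy, mul_inv_cancel_right, mul_inv_cancel, s.fh.one]) (by
    rw [(bmul h (s.cz h kC) _).2, s.L2 k hk, one_mul, (bmul h (s.cz h (mul_mem yC (inv_mem kC))) _).2,
      (bmul h (s.cz h yC) _).2, yb, s.L2 _ (inv_mem hk), b2_inv h (s.cz h yC) yb, one_mul, one_mul]) with e | e
  · obtain ⟨ε, e5, e6⟩ := fin 1 1 3 (by
      rw [← y1, ← cg, ← cg, show k * y = k * (y * k⁻¹ * y⁻¹) * (y * k) by group, e, one_mul]) (by decide +kernel)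
    have := cg k k
    rw [map_mul, map_mul, kk, ← ht, mul_neg, neg_mul, ← map_mul, ← map_mul, hg, e6, WB.mono_one_eq,
      diagonal_mul_diagonal] at this
    have := congrFun (congrFun this 1) 1
    simp [aa, e5] at this
    exact (h.two (by linear_combination -this)).elim
  · refine ⟨_, fin _ 2 4 ?_ (by decide +kernel)⟩
    rw [← y1, ← cg, show k * y = k * (y * k⁻¹ * y⁻¹) * (y * k) by group, cg, cg y, map_mul, map_mul, e, ← ht, mul_neg,
      neg_mul, ← map_mul, ← map_mul, hg, y1, ← mul_assoc, aa, aa, aa, diagonal_neg, diagonal_mul_diagonal]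
    congr 2
    funext i
    fin_cases i <;> simp

end WA1

theorem HW.a1_frame (h : HW σ π) (a : A1 σ) : ∃ B : O6 K, A1 (D4.cw σ B) ∧ Frm (D4.cw σ B) ∧
    (∃ t g, D4.cw σ B t = aa 4 5 ∧ D4.cw σ B (g * t * g⁻¹) = aa 0 5) ∧ YA5 ≤ Yg (D4.cw σ B) := by
  obtain ⟨B, a', ⟨t, g, ht, hg⟩, y1, y2, y3⟩ := stage1 h a
  have key : ∀ w ∈ Yg (D4.cw σ B), ∃ x, D4.cw σ B x = aa (w 0) (w 5) := fun w ⟨x, m⟩ => ⟨x * (g * t * g⁻¹) * x⁻¹, by
    rw [map_mul, map_mul, hg, m.conj_aa, mul_assoc, ← map_mul, mul_inv_cancel, map_one, mul_one]⟩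
  have f5 : ∀ i, i ≠ 5 → ∃ x, D4.cw σ B x = aa i 5 := fun i hi => by
    fin_cases i
    exacts [⟨_, hg⟩, key _ y1, key _ y2, key _ (mul_mem y1 y2), ⟨_, ht⟩, absurd rfl hi]
  have F : Frm (D4.cw σ B) := fun i j n => by
    by_cases hj : j = 5
    · exact hj ▸ f5 i (hj ▸ n)
    by_cases hi : i = 5
    · exact (f5 j hj).imp fun x e => e.trans (aa_congr fun x => by rw [hi, or_comm])
    obtain ⟨x, e⟩ := f5 i hi
    obtain ⟨y, e'⟩ := f5 j hj
    refine ⟨x * y, ?_⟩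
    rw [map_mul, e, e', aa, aa, aa, diagonal_mul_diagonal]
    refine congrArg _ (funext fun k => ?_)
    by_cases k5 : k = 5 <;> by_cases ki : k = i <;> by_cases kj : k = j <;> simp_all
  have y4 := stage2 (h.cw B) a' F ht hg
  refine ⟨B, a', F, ⟨t, g, ht, hg⟩, fun w hw => ?_⟩
  have d : ∀ w : S6, Equiv.Perm.sign w = 1 → w 5 = 5 → ∃ (i : Fin 5) (j : Fin 3) (k l : Fin 2),
      w = (Equiv.swap 0 1 * Equiv.swap 2 3 * (Equiv.swap 1 2 * Equiv.swap 3 4)) ^ i.1 *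
        (Equiv.swap 1 2 * Equiv.swap 2 3) ^ j.1 * (Equiv.swap 0 1 * Equiv.swap 2 3) ^ k.1 *
          (Equiv.swap 0 2 * Equiv.swap 1 3) ^ l.1 := by decide +kernel
  obtain ⟨i, j, k, l, rfl⟩ := d w (Equiv.Perm.mem_alternatingGroup.1 hw.1) hw.2
  exact mul_mem (mul_mem (mul_mem (pow_mem (mul_mem y1 y4) _) (pow_mem y3 _)) (pow_mem y1 _)) (pow_mem y2 _)

end Cfsg.Agent.D4
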