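import Cfsg.Agent.D4.SO4
import Cfsg.Agent.MC3.PH

/-!
A factor `SL₂(5)`: basic lemmas.
-/

set_option autoImplicit false
set_option linter.unusedSectionVars false

open Matrix
open scoped MatrixGroups

namespace Cfsg.Agent.D4.WA1

open MC3

variable {K : Type*} [Field K] {G X : Type*} [Group G] [Group X] {σ : G →* M6 K} {π : G →* X}

/-- the alternating group of degree five -/
abbrev A5 := alternatingGroup (Fin 5)

theorem b4_aa : b4 (aa 4 5 : M6 K) = 1 := by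
  ext i j; fin_cases i <;> fin_cases j <;> simp [b4, aa]

theorem b2_aa : b2 (aa 4 5 : M6 K) = -1 := by
  ext i j; fin_cases i <;> fin_cases j <;> simp [b2, aa]

theorem b4_neg (M : M6 K) : b4 (-M) = -b4 M := rfl

theorem b2_neg (M : M6 K) : b2 (-M) = -b2 M := rfl

theorem b4_one : b4 (1 : M6 K) = 1 := submatrix_one _ (Fin.castAdd_injective _ _)

theorem b2_one : b2 (1 : M6 K) = 1 := submatrix_one _ (Fin.natAdd_injective _ _)

theorem trace_blk (M : M6 K) : M.trace = (b4 M).trace + (b2 M).trace :=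
  Fin.sum_univ_add (a := 4) (b := 2) fun i => M i i

theorem one_sub_aa (i j : Fin 6) : (1 - aa i j : M6 K) = diagonal fun k => if k = i ∨ k = j then 2 else 0 := by
  rw [aa, ← diagonal_one, diagonal_sub]
  refine congrArg _ (funext fun k => ?_)
  split_ifs <;> norm_num

theorem b2_of_fix (h2 : (2 : K) ≠ 0) {M : M6 K} (e : M * (1 - aa 4 5) = 1 - aa 4 5) : b2 M = 1 := by
  ext i j
  have := congrFun (congrFun e (Fin.natAdd 4 i)) (Fin.natAdd 4 j)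
  rw [one_sub_aa, mul_diagonal] at this
  refine mul_right_cancel₀ h2 ?_
  fin_cases i <;> fin_cases j <;> simpa [b2, diagonal_apply] using this

theorem fix_of_b2 (h2 : (2 : K) ≠ 0) {M : M6 K} (c : M * aa 4 5 = aa 4 5 * M) (e : b2 M = 1) :
    M * (1 - aa 4 5) = 1 - aa 4 5 := by
  have c' : (1 - aa 4 5 : M6 K) * aa 4 5 = aa 4 5 * (1 - aa 4 5) := by rw [sub_mul, mul_sub, one_mul, mul_one]
  refine blk_ext h2 (by rw [mul_assoc, c', ← mul_assoc, c, mul_assoc]) c' ?_ ?_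
  · rw [(b4_mul h2 c _).1, show b4 (1 - aa 4 5 : M6 K) = b4 1 - b4 (aa 4 5) from rfl, b4_one, b4_aa, sub_self,
      mul_zero]
  · rw [(b4_mul h2 c _).2, e, one_mul]

theorem two_sq {M : Matrix (Fin 2) (Fin 2) K} (o : Mᵀ * M = 1) (d : M.det = -1) : M * M = 1 ∧ M.trace = 0 := by
  have e : Mᵀ = -adjugate M := by
    rw [← mul_one Mᵀ, ← neg_neg (1 : Matrix _ _ K), ← neg_one_smul K (1 : Matrix _ _ K), ← d, ← mul_adjugate, mul_neg,
      ← mul_assoc, o, one_mul]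
  have e1 := congrFun (congrFun e 0) 0
  have e2 := congrFun (congrFun e 0) 1
  simp [adjugate_fin_two] at e1 e2
  refine ⟨?_, by rw [trace_fin_two, e1, neg_add_cancel]⟩
  rw [← o]
  congr 1
  ext i j; fin_cases i <;> fin_cases j <;> simp [e2]

theorem two_rot (h2 : (2 : K) ≠ 0) {M : Matrix (Fin 2) (Fin 2) K} (o : Mᵀ * M = 1) (d : M.det = 1)
    (s : M * M = 1) : M = 1 ∨ M = -1 := by
  have e : Mᵀ = adjugate M := by
    rw [← mul_one Mᵀ, ← one_smul K (1 : Matrix _ _ K), ← d, ← mul_adjugate, ← mul_assoc, o, one_mul]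
  have e' : Mᵀ = M := by rw [← mul_one Mᵀ, ← s, ← mul_assoc, o, one_mul]
  have e1 := congrFun (congrFun e 0) 0
  have e2 := congrFun (congrFun e 0) 1
  have e3 := congrFun (congrFun e' 0) 1
  simp [adjugate_fin_two] at e1 e2 e3
  have z : M 0 1 = 0 := mul_left_cancel₀ h2 (by linear_combination e2 - e3)
  rw [det_fin_two, z, ← e1] at d
  refine (mul_self_eq_one_iff.1 (by simpa using d)).imp (fun a => ?_) fun a => ?_ <;>
    (ext i j; fin_cases i <;> fin_cases j <;> simp [a, z, e3, ← e1])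

theorem pm_comm (a b : K) (c d : Fin 3 → K) : (a • 1 + ∑ i, c i • Jp i) * (b • 1 + ∑ i, d i • Jm i) =
    (b • 1 + ∑ i, d i • Jm i) * (a • (1 : M4 K) + ∑ i, c i • Jp i) := by
  ext i j
  fin_cases i <;> fin_cases j <;> simp [Jp, Jm, Fin.sum_univ_succ, mul_apply, one_apply] <;> ring

theorem p_add (a : K) (c : Fin 3 → K) : (a • 1 + ∑ i, c i • Jp i) + (a • (1 : M4 K) + ∑ i, c i • Jp i)ᵀ =
    (2 * a) • 1 := by
  ext i j
  fin_cases i <;> fin_cases j <;> simp [Jp, Fin.sum_univ_succ] <;> ring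

theorem m_add (a : K) (c : Fin 3 → K) : (a • 1 + ∑ i, c i • Jm i) + (a • (1 : M4 K) + ∑ i, c i • Jm i)ᵀ =
    (2 * a) • 1 := by
  ext i j
  fin_cases i <;> fin_cases j <;> simp [Jm, Fin.sum_univ_succ] <;> ring

theorem scal (h2 : (2 : K) ≠ 0) {M : M4 K} (o : Mᵀ * M = 1) (s : M * M = 1) {a : K}
    (e : M + Mᵀ = (2 * a) • 1) : M = a • 1 := by
  rw [show Mᵀ = M by rw [← mul_one Mᵀ, ← s, ← mul_assoc, o, one_mul], ← two_smul K, mul_smul] at e
  exact smul_right_injective _ h2 e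

theorem cp_ne (h2 : (2 : K) ≠ 0) {M : M4 K} (o : Mᵀ * M = 1) (d : M.det = 1) (s : M * M = 1)
    (t : M.trace = 0) : cp M ≠ 1 := fun e => by
  obtain ⟨a, c, e⟩ := (cm_eq_one h2 o d).2.1 e
  have := scal h2 o s (e ▸ m_add a c)
  rw [this, trace_smul, trace_one, smul_eq_mul, mul_eq_zero] at t
  rcases t with rfl | t
  · rw [this] at s
    simp at s
  · exact WB.four h2 (by simpa using t)

variable [IsAlgClosed K] [Finite G]

theorem blk0 (h : HW σ π) {g : G} (hg : In0 σ g) : (b2 (σ g)).det = 1 :=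
  ((h.blk hg.1).2.2.resolve_right fun e => h.two (by linear_combination e.1 - hg.2)).2

theorem in0_of (h : HW σ π) {g : G} (hg : g ∈ Cz σ (aa 4 5)) (e : (b2 (σ g)).det = 1) : In0 σ g :=
  ⟨hg, ((h.blk hg).2.2.resolve_right fun e' => h.two (by linear_combination e'.2 - e)).1⟩

theorem bmul (h : HW σ π) {g : G} (hg : g ∈ Cz σ (aa 4 5)) (k : G) :
    b4 (σ (g * k)) = b4 (σ g) * b4 (σ k) ∧ b2 (σ (g * k)) = b2 (σ g) * b2 (σ k) := by
  rw [map_mul]; exact b4_mul h.two hg _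

theorem b2_inv (h : HW σ π) {g : G} (hg : g ∈ Cz σ (aa 4 5)) (e : b2 (σ g) = 1) : b2 (σ g⁻¹) = 1 := by
  have := (bmul h hg g⁻¹).2
  rwa [mul_inv_cancel, map_one, b2_one, e, one_mul, eq_comm] at this

theorem pm_of (h : HW σ π) {g : G} (hg : In0 σ g) (a : cp (b4 (σ g)) = 1) (b : cm (b4 (σ g)) = 1)
    (e : b2 (σ g) = 1) : g = 1 ∨ σ g = -aa 4 5 := by
  refine (cpm_ker h.two (h.blk hg.1).1 hg.2 a b).imp (fun f => h.inj ?_) fun f => ?_
  · exact blk_ext h.two hg.1 (by simp) (by rw [f, map_one, b4_one]) (by rw [e, map_one, b2_one])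
  · exact blk_ext h.two hg.1 (by simp) (by rw [f, b4_neg, b4_aa]) (by rw [e, b2_neg, b2_aa, neg_neg])

theorem ns (h : HW σ π) {C L : Subgroup G} (hC : L ≤ C) (φ : C →* M3 K) (n : ¬ Group.IsSolvable L)
    (hk : ∀ g : C, g.1 ∈ L → φ g = 1 → g.1 = 1 ∨ σ g = -aa 4 5) (hc : L ≤ Cz σ (aa 4 5)) :
    ¬ Group.IsSolvable ((L.subgroupOf C).map (QuotientGroup.mk' φ.ker)) := fun _ => by
  let f := (QuotientGroup.mk' φ.ker).subgroupMap (L.subgroupOf C)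
  have : Group.IsSolvable f.ker := Group.isSolvable_of_comm fun a b => by
    refine Subtype.ext (Subtype.ext (Subtype.ext (h.inj ?_)))
    have ha : φ a.1.1 = 1 := (QuotientGroup.eq_one_iff (N := φ.ker) _).1 (congrArg Subtype.val a.2)
    simp only [Subgroup.coe_mul, map_mul]
    rcases hk _ a.1.2 ha with e | e <;> rw [e]
    · simp
    · rw [neg_mul, mul_neg, show σ b.1.1.1 * aa 4 5 = _ from hc b.1.2]
  have := Group.isSolvable_of_ker_le_range f.ker.subtype f (by simp)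
  exact n (Group.isSolvable_of_surjective (f := (Subgroup.subgroupOfEquivOfLe hC).toMonoidHom)
    (Subgroup.subgroupOfEquivOfLe hC).surjective)

/-- the set-up -/
structure Su (σ : G →* M6 K) (L C N : Subgroup G) (f : G → A5) : Prop where
  hC : ∀ g, g ∈ C ↔ In0 σ g
  hN : ∀ g, g ∈ N ↔ In0 σ g ∧ cm (b4 (σ g)) = 1
  nN : ∀ c ∈ C, ∀ n ∈ N, c * n * c⁻¹ ∈ N
  fh : PH C f
  fk : ∀ g ∈ C, f g = 1 ↔ cp (b4 (σ g)) = 1
  fs : ∀ y, ∃ l ∈ L, f l = y
  LN : L ≤ N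
  L2 : ∀ l ∈ L, b2 (σ l) = 1
  ns : ¬ Group.IsSolvable L
  om : ∀ L' : Subgroup G, ¬ Group.IsSolvable L' → (∀ l ∈ L', l ∈ C ∧ b2 (σ l) = 1 ∧ f l = 1) →
    ∀ g ∈ C, ∃ l ∈ L', g * l⁻¹ ∈ N

theorem exists_su (h : HW σ π) (a : A1 σ) : ∃ L C N f, Su σ L C N f := by
  obtain ⟨-, L, n, hL⟩ := a
  obtain ⟨C, φ, ψ, hC, hφ, hψ, tφ, tψ⟩ := h.exists_c0
  have LC : L ≤ C := fun l hl => (hC l).2 (hL l hl).1
  have n' := ns h LC φ n (fun g hg e => pm_of h (hL _ hg).1 (hφ g ▸ e) (hL _ hg).2.2 (hL _ hg).2.1)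
    fun l hl => (hL l hl).1.1
  obtain ⟨e⟩ := tφ.solv.resolve_left fun _ => n' inferInstance
  obtain ⟨f, fh, ef⟩ := exists_PH (e.toMonoidHom.comp (QuotientGroup.mk' φ.ker))
  have fk : ∀ g ∈ C, f g = 1 ↔ cp (b4 (σ g)) = 1 := fun g hg => by
    rw [show f g = _ from ef ⟨g, hg⟩, ← hφ ⟨g, hg⟩]
    exact e.map_eq_one_iff.trans (QuotientGroup.eq_one_iff _)
  have hN : ∀ g, g ∈ ψ.ker.map C.subtype ↔ In0 σ g ∧ cm (b4 (σ g)) = 1 := fun g =>
    ⟨fun ⟨x, hx, e⟩ => e ▸ ⟨(hC _).1 x.2, (hψ x).symm.trans hx⟩,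
      fun hg => ⟨⟨g, (hC g).2 hg.1⟩, (hψ _).trans hg.2, rfl⟩⟩
  refine ⟨L, C, ψ.ker.map C.subtype, f, hC, hN, ?_, fh, fk, fun y => ?_, fun l hl => (hN l).2 ⟨(hL l hl).1,
    (hL l hl).2.2⟩, fun l hl => (hL l hl).2.1, n, fun L' n' hL' g hg => ?_⟩
  · rintro c hc _ ⟨x, hx, rfl⟩
    exact ⟨_, ψ.normal_ker.conj_mem x hx ⟨c, hc⟩, rfl⟩
  · obtain ⟨q, rfl⟩ := e.surjective y
    obtain ⟨g, rfl⟩ := QuotientGroup.mk'_surjective _ q
    obtain ⟨l, hl, el⟩ := tφ.onto n' g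
    refine ⟨l, hl, (ef l).trans (congrArg e (QuotientGroup.eq.2 ?_))⟩
    change φ (l⁻¹ * g) = 1
    rw [map_mul, ← el, ← map_mul, inv_mul_cancel, map_one]
  · obtain ⟨l, hl, el⟩ := tψ.onto (ns h (fun l hl => (hL' l hl).1) ψ n' (fun x hx e => pm_of h ((hC _).1 x.2)
      ((fk _ x.2).1 (hL' _ hx).2.2) (hψ x ▸ e) (hL' _ hx).2.1) fun l hl => ((hC _).1 (hL' l hl).1).1) ⟨g, hg⟩
    refine ⟨l, hl, ⟨g, hg⟩ * l⁻¹, ?_, rfl⟩
    change ψ (_ * l⁻¹) = 1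
    rw [map_mul, ← el, ← map_mul, mul_inv_cancel, map_one]

namespace Su

variable {L C N : Subgroup G} {f : G → A5} (s : Su σ L C N f) (h : HW σ π)
include s h

theorem NC : N ≤ C := fun g hg => (s.hC g).2 ((s.hN g).1 hg).1

theorem LC : L ≤ C := s.LN.trans (s.NC h)

theorem cz {g : G} (hg : g ∈ C) : g ∈ Cz σ (aa 4 5) := ((s.hC g).1 hg).1

theorem ker {g : G} (hg : g ∈ N) (e : f g = 1) (b : b2 (σ g) = 1) : g = 1 ∨ σ g = -aa 4 5 :=
  pm_of h ((s.hN g).1 hg).1 ((s.fk g (s.NC h hg)).1 e) ((s.hN g).1 hg).2 b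

theorem quat {g : G} (hg : g ∈ N) : ∃ (a : K) (c : Fin 3 → K), b4 (σ g) = a • 1 + ∑ i, c i • Jp i :=
  (cm_eq_one h.two (h.blk (s.cz h (s.NC h hg))).1 ((s.hN g).1 hg).1.2).1.1 ((s.hN g).1 hg).2

theorem sqL {k : G} (hk : k ∈ L) (e1 : f k ≠ 1) (e2 : f k * f k = 1) : σ (k * k) = -aa 4 5 := by
  have kC := s.LC h hk
  refine (s.ker h (s.LN (mul_mem hk hk)) (by rw [s.fh.mul _ kC _ kC, e2]) (s.L2 _ (mul_mem hk hk))).resolve_left
    fun e => e1 ?_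
  obtain ⟨a, c, q⟩ := s.quat h (s.LN hk)
  have o := (h.blk (s.cz h kC)).1
  have := scal h.two o (by rw [← (bmul h (s.cz h kC) k).1, e, map_one, b4_one]) (q ▸ p_add a c)
  exact (s.fk k kC).2 ((cm_eq_one h.two o ((s.hC k).1 kC).2).2.2 ⟨a, 0, by simpa using this⟩)

theorem f_ne {x : G} (hx : x ∈ C) (xx : b4 (σ x) * b4 (σ x) = 1) (t : (b4 (σ x)).trace = 0) : f x ≠ 1 :=
  fun e => cp_ne h.two (h.blk (s.cz h hx)).1 ((s.hC x).1 hx).2 xx t ((s.fk x hx).1 e)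

theorem lift {x : G} (hx : x ∈ C) (xx : x * x = 1) (b : b2 (σ x) = 1) (t : (σ x).trace = 2) :
    ∃ k ∈ L, f k = f x ∧ k * x = x * k ∧ σ (k * k) = -aa 4 5 := by
  obtain ⟨k, hk, e⟩ := s.fs (f x)
  have kC := s.LC h hk
  have yC := mul_mem hx (inv_mem kC)
  refine ⟨k, hk, e, ?_, s.sqL h hk ?_ (by rw [e, ← s.fh.mul _ hx _ hx, xx, s.fh.one])⟩
  · obtain ⟨a, c, q⟩ := s.quat h (s.LN hk)
    obtain ⟨a', c', q'⟩ := (cm_eq_one h.two (h.blk (s.cz h yC)).1 ((s.hC _).1 yC).2).2.1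
      ((s.fk _ yC).1 (by rw [s.fh.div hx kC, e, mul_inv_cancel]))
    have : σ (k * (x * k⁻¹)) = σ (x * k⁻¹ * k) := by
      refine blk_ext h.two (s.cz h (mul_mem kC yC)) (s.cz h (mul_mem yC kC)) ?_ ?_
      · rw [(bmul h (s.cz h kC) _).1, (bmul h (s.cz h yC) _).1, q, q', pm_comm]
      · rw [(bmul h (s.cz h kC) _).2, (bmul h (s.cz h yC) _).2, s.L2 k hk, one_mul, mul_one]
    have := h.inj this
    rwa [inv_mul_cancel_right, ← mul_assoc, mul_inv_eq_iff_eq_mul] at this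
  · rw [e]
    refine s.f_ne h hx (by rw [← (bmul h (s.cz h hx) x).1, xx, map_one, b4_one]) ?_
    rw [trace_blk, b, trace_one] at t
    simpa using t

theorem no4 {g : G} (hg : g ∈ C) (e : f (g * g * (g * g)) = 1) : f (g * g) = 1 := by
  rw [s.fh.mul _ (mul_mem hg hg) _ (mul_mem hg hg), s.fh.mul _ hg _ hg] at e
  rw [s.fh.mul _ hg _ hg]
  have : ∀ x : Equiv.Perm (Fin 5), Equiv.Perm.sign x = 1 → x * x * (x * x) = 1 → x * x = 1 := by decide +kernel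
  exact Subtype.ext (this _ (Equiv.Perm.mem_alternatingGroup.1 (f g).2) (congrArg Subtype.val e))

theorem f_neg {g : G} (e : b4 (σ g) = 1 ∨ b4 (σ g) = -1) (hg : g ∈ C) : f g = 1 := by
  refine (s.fk g hg).2 ((cm_eq_one h.two (h.blk (s.cz h hg)).1 ((s.hC g).1 hg).2).2.2 ?_)
  rcases e with e | e
  · exact ⟨1, 0, by simp [e]⟩
  · exact ⟨-1, 0, by simp [e]⟩

end Su

end Cfsg.Agent.D4.WA1
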