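import Cfsg.Agent.D4.WA1x

/-!
A factor `SL₂(5)`: perpendicular conjugates, monomial matrices.
-/

set_option autoImplicit false
set_option linter.unusedSectionVars false

open Matrix
open scoped MatrixGroups

namespace Cfsg.Agent.D4.WA1

open MC3

variable {K : Type*} [Field K] {G X : Type*} [Group G] [Group X] {σ : G →* M6 K} {π : G →* X}

theorem isMono_of_zero {M : M6 K} (o : Mᵀ * M = 1) (w : S6) (z : ∀ i j, i ≠ w j → M i j = 0) : IsMono M w := by
  have e : M = mono w fun j => M (w j) j := by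
    ext i j
    simp only [mono, of_apply]
    split_ifs with c
    · rw [c]
    · exact z i j c
  refine ⟨_, fun j => ?_, e⟩
  have := congrFun (congrFun o j) j
  rwa [mul_apply, Finset.sum_eq_single (w j) (fun i _ c => by rw [z i j c, mul_zero]) (by simp), one_apply_eq]
    at this

theorem isMono5 {M : M6 K} (o : Mᵀ * M = 1) (w : S6)
    (c : ∀ j, j ≠ 4 → ∃ c : K, M *ᵥ ee j = c • ee (w j)) : IsMono M w := by
  refine isMono_of_zero o w fun i j n => ?_
  by_cases e : j = 4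
  · subst e
    obtain ⟨k, rfl⟩ := w.surjective i
    have k4 : k ≠ 4 := fun e => n (by rw [e])
    obtain ⟨a, ha⟩ := c k k4
    have h1 := WB.dot_orth o (ee k) (ee k)
    have h2 := WB.dot_orth o (ee k) (ee 4)
    rw [ha] at h1 h2
    have a0 : a ≠ 0 := fun e => by simp [e] at h1
    simpa [a0, k4, k4.symm] using h2
  · obtain ⟨a, ha⟩ := c j e
    simpa [n] using congrFun ha i

theorem aa_ee (i j k : Fin 6) : (aa i j : M6 K) *ᵥ ee k = (if k = i ∨ k = j then -1 else 1 : K) • ee k := by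
  rw [aa, ← WB.mono_one_eq, WB.mono_ee]; rfl

theorem aa5 {M : M6 K} (o : Mᵀ * M = 1) (d : M.det = 1) {i k : Fin 6} (n : i ≠ k)
    (c : ∀ j, j ≠ 4 → M *ᵥ ee j = aa i k *ᵥ ee j) : M = aa i k := by
  obtain ⟨ε, -, e⟩ := isMono5 (M := aa i k * M) (by
    rw [transpose_mul, mul_assoc, ← mul_assoc _ (aa i k), aa, diagonal_transpose, ← aa, aa_mul_self, one_mul, o]) 1
    fun j hj => ⟨1, by rw [← mulVec_mulVec, c j hj, mulVec_mulVec, aa_mul_self, one_mulVec, one_smul]; rfl⟩
  have h1 : ∀ j, j ≠ 4 → ε j = 1 := fun j hj => by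
    have := WB.mono_ee 1 ε j
    rw [← e, ← mulVec_mulVec, c j hj, mulVec_mulVec, aa_mul_self] at this
    simpa using (congrFun this j).symm
  have h2 := congrArg det e
  rw [det_mul, d, aa_eq_rf n, det_mul, det_rf (by simp), det_rf (by simp), det_mono,
    Finset.prod_eq_single 4 (fun j _ hj => h1 j hj) (by simp)] at h2
  have h3 : ε = 1 := funext fun j => by
    by_cases hj : j = 4
    · rw [hj]; simpa using h2.symm
    · exact h1 j hj
  rw [h3, mono_one] at e
  rw [← one_mul M, ← aa_mul_self i k, mul_assoc, e, mul_one]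

theorem aa_congr {i j k l : Fin 6} (e : ∀ x, x = i ∨ x = j ↔ x = k ∨ x = l) : (aa i j : M6 K) = aa k l := by
  simp only [aa, e]

/-- the `(-1)`-eigenspaces are perpendicular -/
def Perp (σ : G →* M6 K) (x y : G) : Prop := σ x + σ y = 1 + σ (x * y)

theorem Perp.conj {x y : G} (p : Perp σ x y) (k : G) : Perp σ (k * x * k⁻¹) (k * y * k⁻¹) := by
  have := congrArg (fun M => σ k * M * σ k⁻¹) p
  simp only [mul_add, add_mul, mul_one, ← map_mul, mul_inv_cancel, map_one] at this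
  rw [Perp, this, conj_mul]

theorem Perp.symm {x y : G} (p : Perp σ x y) (c : x * y = y * x) : Perp σ y x := by
  rw [Perp, ← c, add_comm]; exact p

theorem perp_iff {x t : G} {N : M6 K} (ht : σ t = N) : Perp σ x t ↔ σ x * (1 - N) = 1 - N := by
  rw [Perp, map_mul, ht, mul_sub, mul_one, sub_eq_sub_iff_add_eq_add]

theorem perp_aa {x y : G} {i j k l : Fin 6} (hx : σ x = aa i j) (hy : σ y = aa k l)
    (d : ∀ m, ¬ ((m = i ∨ m = j) ∧ (m = k ∨ m = l))) : Perp σ x y := by
  rw [perp_iff hy, hx, one_sub_aa, aa, diagonal_mul_diagonal]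
  refine congrArg _ (funext fun m => ?_)
  have := d m
  split_ifs <;> simp_all

theorem Perp.cw {x y : G} (B : O6 K) (p : Perp (cw σ B) x y) : Perp σ x y := by
  have := congrArg (fun M => B.1 * M * B.1ᵀ) p
  simpa only [Perp, mul_add, add_mul, cw_apply, WB.uncw, mul_one, mul_eq_one_comm.1 B.2] using this

theorem quat_of (h2 : (2 : K) ≠ 0) {M : M4 K} {a b : K} (e1 : M + Mᵀ = (2 * a) • 1)
    (e2 : M * Jp 0 + (M * Jp 0)ᵀ = (2 * b) • 1) : M = a • 1 + ∑ i, ![M 1 0, M 2 0, M 3 0] i • Jp i := by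
  have f := fun i j => congrFun (congrFun e1 i) j
  have g := fun i j => congrFun (congrFun e2 i) j
  have f0 := f 0 0; have f1 := f 1 1; have f2 := f 2 2; have f3 := f 3 3
  have f01 := f 0 1; have f02 := f 0 2; have f03 := f 0 3; have f12 := f 1 2; have f13 := f 1 3; have f23 := f 2 3
  have g0 := g 0 0; have g2 := g 2 2; have g02 := g 0 2; have g12 := g 1 2
  simp [Jp, mul_apply, Fin.sum_univ_succ] at f0 f1 f2 f3 f01 f02 f03 f12 f13 f23 g0 g2 g02 g12
  have k : M 2 3 = M 0 1 := mul_left_cancel₀ h2 (by linear_combination g2 - g0)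
  have d0 : M 0 0 = a := mul_left_cancel₀ h2 (by linear_combination f0)
  have d1 : M 1 1 = a := mul_left_cancel₀ h2 (by linear_combination f1)
  have d2 : M 2 2 = a := mul_left_cancel₀ h2 (by linear_combination f2)
  have d3 : M 3 3 = a := mul_left_cancel₀ h2 (by linear_combination f3)
  ext i j
  fin_cases i <;> fin_cases j <;> simp [Jp, Fin.sum_univ_succ] <;> grind

variable [IsAlgClosed K] [Finite G]

theorem tr_inv (h : HW σ π) {z : G} (zz : z * z = 1) :
    σ z = 1 ∨ σ z = -1 ∨ (σ z).trace = 2 ∨ (σ z).trace = -2 := by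
  by_cases e : π z = 1
  · exact ((h.ker z).1 e).imp_right .inl
  obtain ⟨g, e1, -, e2⟩ := h.exists_inv (t := π z)
    (orderOf_eq_prime (by rw [pow_two, ← map_mul, zz, map_one]) e)
  rcases h.eq_of e1.symm with f | f
  · exact .inr (.inr (.inl (f ▸ e2)))
  · exact .inr (.inr (.inr (by rw [f, trace_neg, e2])))

theorem tr_conj (k g : G) : (σ (k * g * k⁻¹)).trace = (σ g).trace := by
  rw [map_mul, trace_mul_comm, ← map_mul, ← mul_assoc, inv_mul_cancel, one_mul]

theorem inv_of_aa (h : HW σ π) {t : G} {i j : Fin 6} (ht : σ t = aa i j) : t * t = 1 :=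
  h.inj (by rw [map_mul, ht, aa_mul_self, map_one])

theorem conj_sq {t : G} (tt : t * t = 1) (g : G) : g * t * g⁻¹ * (g * t * g⁻¹) = 1 := by
  rw [conj_mul, tt, mul_one, mul_inv_cancel]

theorem mem_cz (h : HW σ π) {t x : G} {N : M6 K} (ht : σ t = N) : x ∈ Cz σ N ↔ x * t = t * x := by
  change σ x * N = N * σ x ↔ _
  rw [← ht, ← map_mul, ← map_mul, h.inj.eq_iff]

theorem in0_of_perp (h : HW σ π) {t x : G} (ht : σ t = aa 4 5) (c : x * t = t * x) (p : Perp σ x t) :
    In0 σ x ∧ b2 (σ x) = 1 :=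
  have e := b2_of_fix h.two ((perp_iff ht).1 p)
  ⟨in0_of h ((mem_cz h ht).2 c) (by rw [e, det_one]), e⟩

theorem b2_eq (h : HW σ π) {t x : G} (ht : σ t = aa 4 5) (hx : In0 σ x) (xx : x * x = 1) (tr : (σ x).trace = 2)
    (n : x ≠ t) : b2 (σ x) = 1 := by
  refine (two_rot h.two (h.blk hx.1).2.1 (blk0 h hx)
    (by rw [← (bmul h hx.1 x).2, xx, map_one, b2_one])).resolve_right fun e => ?_
  have c := (mem_cz h ht).1 hx.1
  have tt := inv_of_aa h ht
  obtain ⟨e4, e2⟩ := bmul h hx.1 t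
  rw [ht, b4_aa, mul_one] at e4
  rw [ht, b2_aa, e, neg_mul_neg, one_mul] at e2
  have t6 := trace_blk (σ (x * t))
  rw [trace_blk, e, trace_neg, trace_one, Fintype.card_fin] at tr
  rw [e4, e2, trace_one, Fintype.card_fin] at t6
  rcases tr_inv h (z := x * t) (by rw [mul_assoc, ← mul_assoc t, ← c, mul_assoc, tt, mul_one, xx]) with f | f | f | f
  · exact n (by rw [eq_inv_of_mul_eq_one_left (h.inj (f.trans (map_one σ).symm)), inv_eq_of_mul_eq_one_right tt])
  · rw [f, b2_neg, b2_one] at e2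
    exact h.two (by have := congrFun (congrFun e2 0) 0; simp at this; linear_combination -this)
  · exact WB.four h.two (by push_cast at tr t6; linear_combination f - t6 - tr)
  · exact mul_ne_zero h.two (WB.four h.two) (by push_cast at tr t6; linear_combination f - t6 - tr)

namespace Su

variable {L C N : Subgroup G} {f : G → A5} (s : Su σ L C N f) (h : HW σ π)
include s h

theorem Q {l : G} (hl : l ∈ L) : ∃ a : K, σ l + σ l⁻¹ = a • (1 + aa 4 5) + (1 - aa 4 5) := by
  obtain ⟨a, c, q⟩ := s.quat h (s.LN hl)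
  have c1 : σ l * aa 4 5 = _ := s.cz h (s.LC h hl)
  have c2 : σ l⁻¹ * aa 4 5 = _ := s.cz h (s.LC h (inv_mem hl))
  refine ⟨a, blk_ext h.two (by rw [add_mul, mul_add, c1, c2]) (by simp [add_mul, mul_add, mul_sub, sub_mul]) ?_ ?_⟩
  · change b4 (σ l) + b4 (σ l⁻¹) = a • (b4 1 + b4 (aa 4 5)) + (b4 1 - b4 (aa 4 5))
    rw [h.inv_eq, show b4 (σ l)ᵀ = (b4 (σ l))ᵀ from rfl, q, p_add, b4_one, b4_aa, sub_self, add_zero, ← two_smul K,
      smul_smul, mul_comm]
  · change b2 (σ l) + b2 (σ l⁻¹) = a • (b2 1 + b2 (aa 4 5)) + (b2 1 - b2 (aa 4 5))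
    rw [s.L2 l hl, s.L2 _ (inv_mem hl), b2_one, b2_aa]
    simp

theorem fix {l : G} (hl : l ∈ L) : σ l * (1 - aa 4 5) = 1 - aa 4 5 :=
  fix_of_b2 h.two (s.cz h (s.LC h hl)) (s.L2 l hl)

theorem perp {t g : G} (ht : σ t = aa 4 5) (e : In0 σ (g * t * g⁻¹)) : g * t * g⁻¹ = t := by
  by_contra n
  have tt := inv_of_aa h ht
  have tr : (σ t).trace = 2 := by rw [ht, trace_aa (by decide)]
  have c := (mem_cz h ht).1 e.1
  have b := b2_eq h ht e (conj_sq tt g) ((tr_conj g t).trans tr) n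
  have p := ((perp_iff ht).2 (fix_of_b2 h.two e.1 b)).symm c |>.conj g⁻¹
  rw [show g⁻¹ * (g * t * g⁻¹) * g⁻¹⁻¹ = t by group] at p
  have c' : g⁻¹ * t * g⁻¹⁻¹ * t = t * (g⁻¹ * t * g⁻¹⁻¹) := by
    calc _ = g⁻¹ * (t * (g * t * g⁻¹)) * g := by group
      _ = _ := by rw [← c]; group
  obtain ⟨i0, b'⟩ := in0_of_perp h ht c' p
  obtain ⟨k, hk, -, e1, e2⟩ := s.lift h ((s.hC _).2 i0) (conj_sq tt _) b' ((tr_conj _ t).trans tr)
  have kz : g * k * g⁻¹ ∈ Cz σ (aa 4 5) := (mem_cz h ht).2 (by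
    calc _ = g * (k * (g⁻¹ * t * g⁻¹⁻¹)) * g⁻¹ := by group
      _ = _ := by rw [e1]; group)
  have e3 : σ (g * k * g⁻¹ * (g * k * g⁻¹)) = -σ (g * t * g⁻¹) := by
    rw [conj_mul, map_mul, map_mul, e2, map_mul, map_mul, ht, mul_neg, neg_mul]
  have kC : g * k * g⁻¹ ∈ C := (s.hC _).2 (in0_of h kz (((h.blk kz).2.2.resolve_right fun d => by
    have := (two_sq (h.blk kz).2.1 d.2).1
    rw [← (bmul h kz _).2, e3, b2_neg, b] at this
    exact h.two (by have := congrFun (congrFun this 0) 0; simp at this; linear_combination -this)).2))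
  refine s.f_ne h (mul_mem kC kC) ?_ ?_ (s.no4 h kC ?_)
  · rw [e3, b4_neg, neg_mul_neg, ← (bmul h e.1 _).1, conj_sq tt, map_one, b4_one]
  · have := trace_blk (σ (g * t * g⁻¹))
    rw [tr_conj, tr, b, trace_one, Fintype.card_fin] at this
    rw [e3, b4_neg, trace_neg]
    push_cast at this
    linear_combination this
  · have : g * k * g⁻¹ * (g * k * g⁻¹) * (g * k * g⁻¹ * (g * k * g⁻¹)) = 1 :=
      h.inj (by rw [map_mul, e3, neg_mul_neg, ← map_mul, conj_sq tt])
    rw [this, s.fh.one]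

end Su

end Cfsg.Agent.D4.WA1
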