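import Cfsg.Agent.D4.WII
import Cfsg.Agent.D4.WFrm
import Cfsg.Agent.SGJ2.Red
import Cfsg.Agent.S2119

/-!
A component `A₅` acting on a four-dimensional subspace: the centraliser of the involution.
-/

set_option autoImplicit false

open Matrix
open scoped MatrixGroups

namespace Cfsg.Agent.D4.W2

variable {K : Type*} [Field K] {G X : Type*} [Group G] [Group X] {σ : G →* M6 K} {π : G →* X}

theorem ent (h2 : (2 : K) ≠ 0) {M : M6 K} {i j k l : Fin 6} (e : M * aa i j = aa k l * M)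
    (x y : Fin 6) (n : ¬ ((y = i ∨ y = j) ↔ (x = k ∨ x = l))) : M x y = 0 := by
  have := congrFun (congrFun e x) y
  simp only [aa, mul_diagonal, diagonal_mul] at this
  refine mul_left_cancel₀ h2 ?_
  split_ifs at this with a b b
  · exact (n (iff_of_true a b)).elim
  · linear_combination -this
  · linear_combination this
  · exact (n (iff_of_false a b)).elim

theorem aa_mul {i j k l m n : Fin 6}
    (e : ∀ x, ((x = i ∨ x = j) ↔ (x = k ∨ x = l)) ↔ ¬ (x = m ∨ x = n)) :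
    (aa i j : M6 K) * aa k l = aa m n := by
  rw [aa, aa, aa, diagonal_mul_diagonal]
  refine congrArg _ (funext fun s => ?_)
  have := e s
  by_cases c : s = i ∨ s = j <;> by_cases c' : s = k ∨ s = l <;> simp_all

theorem aa_mul' {i j k l m n : Fin 6}
    (e : ∀ x, ((x = i ∨ x = j) ↔ (x = k ∨ x = l)) ↔ (x = m ∨ x = n)) :
    (aa i j : M6 K) * aa k l = -aa m n := by
  rw [aa, aa, aa, diagonal_mul_diagonal, diagonal_neg]
  refine congrArg _ (funext fun s => ?_)
  have := e s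
  by_cases c : s = i ∨ s = j <;> by_cases c' : s = k ∨ s = l <;> simp_all

theorem aa_comm (i j k l : Fin 6) : (aa i j : M6 K) * aa k l = aa k l * aa i j := by
  simp only [aa, diagonal_mul_diagonal, mul_comm]

theorem trace_mul_aa (M : M6 K) {i j : Fin 6} (e : i ≠ j) :
    (M * aa i j).trace = M.trace - 2 * (M i i + M j j) := by
  simp only [trace, diag_apply, aa, mul_diagonal]
  have : ∀ k, M k k * (if k = i ∨ k = j then -1 else 1) =
      M k k - 2 * ((if k = i then M k k else 0) + if k = j then M k k else 0) := fun k => by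
    by_cases a : k = i <;> by_cases b : k = j <;> simp_all <;> ring
  simp [this, ← Finset.mul_sum, Finset.sum_add_distrib]

theorem tr_ne (h2 : (2 : K) ≠ 0) : (1 : M6 K).trace ≠ 2 ∧ (-1 : M6 K).trace ≠ 2 ∧ (-2 : K) ≠ 2 := by
  simp only [trace_neg, trace_one, Fintype.card_fin]
  exact ⟨fun e => WB.four h2 (by push_cast at e; linear_combination e),
    fun e => mul_ne_zero h2 (WB.four h2) (by push_cast at e; linear_combination -e),
    fun e => WB.four h2 (by linear_combination -e)⟩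

theorem cent (h : HW σ π) {L : Subgroup G} (a : A2 σ L) (e : ¬ ∀ g ∈ L, σ g *ᵥ ee 3 = ee 3) {k : G}
    (hk : k ∈ Cz σ (aa 4 5)) (c : ∀ l ∈ L, k * l = l * k) : b4 (σ k) = 1 ∨ b4 (σ k) = -1 := by
  obtain ⟨x, hx, ex⟩ := a.f1
  obtain ⟨y, hy, ey⟩ := a.f2
  obtain ⟨d, hd, ed⟩ := a.d
  have c' : ∀ l ∈ L, σ k * σ l = σ l * σ k := fun l hl => by rw [← map_mul, c l hl, map_mul]
  have z1 := ent h.two (ex ▸ c' x hx)
  have z2 := ent h.two (ey ▸ c' y hy)
  have z3 := ent h.two hk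
  have z : ∀ i j : Fin 6, i ≠ j → (i < 4 ∨ j < 4) → σ k i j = 0 := fun i j u v => by
    by_contra w
    have := not_not.1 (mt (z1 i j) w)
    have := not_not.1 (mt (z2 i j) w)
    have := not_not.1 (mt (z3 i j) w)
    omega
  have d1 := congrFun (congrFun (ed ▸ c' d hd) 1) 0
  have d2 := congrFun (congrFun (ed ▸ c' d hd) 2) 1
  have o0 := congrFun (congrFun (h.orth k) 0) 0
  have o3 := congrFun (congrFun (h.orth k) 3) 3
  simp [mono, c3, mul_apply, Fin.sum_univ_six, Equiv.swap_apply_def, z] at d1 d2 o0 o3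
  by_cases u : σ k 3 3 = σ k 0 0
  · rcases mul_self_eq_one_iff.1 o0 with v | v
    · left; ext i j; fin_cases i <;> fin_cases j <;> simp [b4, z, d1, d2, u, v]
    · right; ext i j; fin_cases i <;> fin_cases j <;> simp [b4, z, d1, d2, u, v]
  have w : ∀ l ∈ L, ∀ i, i ≠ 3 → σ l i 3 = 0 := fun l hl i hi => by
    have := congrFun (congrFun (c' l hl) i) 3
    have u' := sub_ne_zero.2 u
    by_cases h4 : i = 4 ∨ i = 5
    · exact ent h.two (a.le l hl).1.1 _ _ (by simp [h4])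
    fin_cases i
    all_goals simp [mul_apply, Fin.sum_univ_six, z, d1, d2] at this hi h4 ⊢
    all_goals exact (mul_eq_zero.1 (by linear_combination -this)).resolve_left u'
  let f : L →* K := ⟨⟨fun l => σ l 3 3, by simp⟩, fun l m => by
    simp [mul_apply, Fin.sum_univ_six, w m.1 m.2]⟩
  obtain ⟨i⟩ := a.iso
  have := i.isSimpleGroup
  have : f.ker = ⊤ := (f.normal_ker.eq_bot_or_eq_top).resolve_left fun v => by
    have : (⟨x, hx⟩ : L) ∈ f.ker := by simp [f, ex, aa]
    rw [v, Subgroup.mem_bot, Subtype.ext_iff] at this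
    exact (tr_ne h.two).1 (by rw [← map_one σ, ← show x = 1 from this, ex, trace_aa (by decide)])
  refine (e fun g hg => funext fun i => ?_).elim
  have : σ g 3 3 = 1 := (this ▸ trivial : (⟨g, hg⟩ : L) ∈ f.ker)
  by_cases v : i = 3
  · simpa [v] using this
  · simp [v, w g hg i v]

/-- The elements of the centraliser which are scalar on the block. -/
def Zz (σ : G →* M6 K) (L : Subgroup G) (z : G) : Prop :=
  In0 σ z ∧ (b4 (σ z) = 1 ∨ b4 (σ z) = -1) ∧ ∀ l ∈ L, z * l = l * z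

theorem blk_aa : b4 (aa 4 5 : M6 K) = 1 ∧ b2 (aa 4 5 : M6 K) = -1 := by
  constructor <;> ext i j <;> fin_cases i <;> fin_cases j <;> simp [b4, b2, aa]

theorem rot_sq (h : HW σ π) {z : G} (hz : In0 σ z) (e : z * z = 1) :
    b2 (σ z) = 1 ∨ b2 (σ z) = -1 := by
  have d := (h.blk hz.1).2.2.elim And.right fun u => absurd (hz.2.symm.trans u.1)
    fun e => h.two (by linear_combination e)
  obtain ⟨r1, r2⟩ := So4.rot2 (h.blk hz.1).2.1 d
  have q := (b4_mul h.two hz.1 (σ z)).2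
  rw [← map_mul, e, map_one, So4.b4_one.2] at q
  generalize b2 (σ z) = R at *
  have q0 := congrFun (congrFun q 0) 0
  simp [mul_apply, Fin.sum_univ_two, det_fin_two, r1, r2] at q0 d
  have s : R 1 0 = 0 := pow_eq_zero_iff two_ne_zero |>.1
    (mul_left_cancel₀ h.two (by linear_combination d + q0))
  rcases mul_self_eq_one_iff.1 (show R 0 0 * R 0 0 = 1 by simpa [s] using d) with v | v
  · left; ext i j; fin_cases i <;> fin_cases j <;> simp [r1, r2, s, v]
  · right; ext i j; fin_cases i <;> fin_cases j <;> simp [r1, r2, s, v]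

variable {L : Subgroup G}

theorem Zz.sq (h : HW σ π) {z : G} (hz : Zz σ L z) (e : z * z = 1) :
    σ z = 1 ∨ σ z = -1 ∨ σ z = aa 4 5 ∨ σ z = -aa 4 5 := by
  have k := fun N a b c => blk_ext (N := N) h.two hz.1.1 a b c
  rcases hz.2.1 with u | u <;> rcases rot_sq h hz.1 e with v | v
  · exact Or.inl (k _ (by simp) (u.trans So4.b4_one.1.symm) (v.trans So4.b4_one.2.symm))
  · exact Or.inr (Or.inr (Or.inl (k _ rfl (u.trans blk_aa.1.symm) (v.trans blk_aa.2.symm))))
  · exact Or.inr (Or.inr (Or.inr (k _ (by simp) (u.trans WI.blk_neg.1.symm)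
      (v.trans WI.blk_neg.2.symm))))
  · exact Or.inr (Or.inl (k _ (by simp) (u.trans (congrArg Neg.neg So4.b4_one.1.symm))
      (v.trans (congrArg Neg.neg So4.b4_one.2.symm))))

theorem Zz.comm (h : HW σ π) {z w : G} (hz : Zz σ L z) (hw : Zz σ L w) : z * w = w * z := by
  refine h.inj (blk_ext h.two (mul_mem hz.1.1 hw.1.1) (mul_mem hw.1.1 hz.1.1) ?_ ?_) <;>
    rw [map_mul, map_mul]
  · rw [(b4_mul h.two hz.1.1 _).1, (b4_mul h.two hw.1.1 _).1]
    rcases hz.2.1 with u | u <;> simp [u]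
  · rw [(b4_mul h.two hz.1.1 _).2, (b4_mul h.two hw.1.1 _).2, h.rot_comm hz.1 hw.1]

theorem det_neg (h : HW σ π) {u : G} (hu : u ∈ Cz σ (aa 4 5)) (n : ¬ In0 σ u) :
    (b4 (σ u)).det = -1 ∧ (b2 (σ u)).det = -1 :=
  (h.blk hu).2.2.resolve_left fun e => n ⟨hu, e.1⟩

theorem refl2 {R : Matrix (Fin 2) (Fin 2) K} (o : Rᵀ * R = 1) (d : R.det = -1) :
    R 1 1 = -R 0 0 ∧ R 0 1 = R 1 0 ∧ R 0 0 * R 0 0 + R 1 0 * R 1 0 = 1 := by
  have o0 := congrFun (congrFun o 0) 0; have o1 := congrFun (congrFun o 0) 1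
  have o2 := congrFun (congrFun o 1) 1
  simp [mul_apply, Fin.sum_univ_two, det_fin_two] at o0 o1 o2 d
  grind

theorem par (h : HW σ π) {g k : G} (hg : g ∈ Cz σ (aa 4 5)) (hk : k ∈ Cz σ (aa 4 5)) :
    In0 σ (g * k) ↔ (In0 σ g ↔ In0 σ k) := by
  have n1 : (-1 : K) ≠ 1 := fun e => h.two (by linear_combination -e)
  simp only [In0, hg, hk, mul_mem hg hk, true_and, map_mul, (b4_mul h.two hg _).1, det_mul]
  rcases (h.blk hg).2.2 with u | u <;> rcases (h.blk hk).2.2 with v | v <;> simp [u.1, v.1, n1]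

theorem dec (h : HW σ π) (a : A2 σ L) (e : ¬ ∀ g ∈ L, σ g *ᵥ ee 3 = ee 3) {k : G} (hk : In0 σ k) :
    ∃ z l, Zz σ L z ∧ l ∈ L ∧ k = z * l := by
  obtain ⟨g, hg, c⟩ := a.cen k hk
  have : k * g ∈ So4.C0 h := mul_mem hk (a.le g hg).1
  exact ⟨k * g, g⁻¹, ⟨this, cent h a e this.1 c, c⟩, inv_mem hg, by simp⟩

theorem l_cent (a : A2 σ L) {l : G} (hl : l ∈ L) (c : ∀ m ∈ L, l * m = m * l) : l = 1 := by
  obtain ⟨f⟩ := a.iso
  have : ∀ x : alternatingGroup (Fin 5), (∀ y, x * y = y * x) → x = 1 := by decide +kernel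
  exact congrArg Subtype.val ((map_eq_one_iff _ f.injective).1 (this (f ⟨l, hl⟩) fun y => by
    obtain ⟨m, rfl⟩ := f.surjective y
    rw [← map_mul, ← map_mul]
    exact congrArg f (Subtype.ext (c m m.2))))

theorem pow_split (a : A2 σ L) {z l : G} (hz : Zz σ L z) (hl : l ∈ L) {n : ℕ}
    (e : (z * l) ^ n = 1) : z ^ n = 1 ∧ l ^ n = 1 := by
  rw [Commute.mul_pow (hz.2.2 l hl)] at e
  have : l ^ n = 1 := l_cent a (pow_mem hl n) fun m hm => by
    rw [eq_inv_of_mul_eq_one_right e]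
    exact ((Commute.pow_left (hz.2.2 m hm) n).inv_left).eq
  exact ⟨by simpa [this] using e, this⟩

theorem exists_out [Finite G] (h : HW σ π) (a : A2 σ L) (e : ¬ ∀ g ∈ L, σ g *ᵥ ee 3 = ee 3) :
    ∃ u ∈ Cz σ (aa 4 5), ¬ In0 σ u := by
  by_contra! c
  obtain ⟨t, ht⟩ := a.t
  obtain ⟨x, hx, ex⟩ := a.f1
  obtain ⟨y, hy, ey⟩ := a.f2
  have := h.finiteX
  have := h.simple
  have tt : t * t = 1 := h.inj (by rw [map_mul, ht, aa_mul_self, map_one])
  have tr : (σ t).trace = 2 := ht ▸ trace_aa (by decide)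
  have cj : ∀ g k : G, (σ (g * k * g⁻¹)).trace = (σ k).trace := fun g k => by
    rw [map_mul, trace_mul_comm, ← map_mul, ← mul_assoc, inv_mul_cancel, one_mul]
  obtain ⟨g, g1, g2⟩ := H88.JJ.exists_comm_conj (h.ord_inv tt tr) (by
    by_contra k
    have := Finite.one_lt_card (α := X)
    have := isCyclic_of_prime_card (show Nat.card X = 2 by omega)
    exact h.nonab IsCyclic.isMulCommutative)
  obtain ⟨g, rfl⟩ := h.surj g
  have s1 := h.conj_lift (k := g * t * g⁻¹) tr tr (by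
    rw [map_mul, map_mul, map_inv, g2, mul_inv_cancel_right])
  obtain ⟨z, l, hz, hl, e1⟩ := dec h a e (c (g * t * g⁻¹) (by
    rw [← ht, WI.cz_eq h, Subgroup.mem_centralizer_singleton_iff]
    exact mul_inv_eq_iff_eq_mul.1 s1))
  obtain ⟨zz, ll⟩ := pow_split a hz hl (n := 2) (by rw [← e1, conj_pow, pow_two, tt]; simp)
  rw [pow_two] at zz ll
  have tz := (cj g t).trans tr
  have N := tr_ne h.two
  by_cases l1 : l = 1
  · rw [e1, l1, mul_one] at tz
    rcases hz.sq h zz with u | u | u | u <;> rw [u] at tz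
    · exact N.1 tz
    · exact N.2.1 tz
    · exact g1 (by rw [← map_inv, ← map_mul, ← map_mul, e1, l1, mul_one, h.inj (u.trans ht.symm)])
    · exact N.2.2 (by rwa [trace_neg, trace_aa (by decide)] at tz)
  obtain ⟨m, hm, rfl⟩ : ∃ m ∈ L, l = m * x * m⁻¹ := by
    obtain ⟨f⟩ := a.iso
    have : ∀ x y : alternatingGroup (Fin 5), (x * x = 1 ∧ y * y = 1 ∧ x ≠ 1 ∧ y ≠ 1) →
      ∃ m, y = m * x * m⁻¹ := by decide +kernel
    obtain ⟨m, hm⟩ := this (f ⟨x, hx⟩) (f ⟨l, hl⟩) (by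
      simp only [← map_mul, ne_eq, map_eq_one_iff _ f.injective, Subtype.ext_iff]
      exact ⟨h.inj (by simp [ex, aa_mul_self]), ll,
        fun u => N.1 (by rw [← map_one σ, ← show x = 1 from u, ex, trace_aa (by decide)]), l1⟩)
    obtain ⟨m, rfl⟩ := f.surjective m
    rw [← map_inv, ← map_mul, ← map_mul] at hm
    exact ⟨m, m.2, congrArg Subtype.val (f.injective hm)⟩
  have e2 : t = (g⁻¹ * m) * (z * x) * (g⁻¹ * m)⁻¹ := by
    rw [mul_assoc g⁻¹, ← mul_assoc m, ← hz.2.2 m hm, _root_.mul_inv_rev, mul_assoc g⁻¹, ← mul_assoc,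
      ← mul_assoc, mul_assoc g⁻¹, mul_assoc z, mul_assoc g⁻¹, mul_assoc z, ← e1]
    group
  have yy : y * y = 1 := h.inj (by rw [map_mul, ey, aa_mul_self, map_one])
  have xy : y * x = x * y := h.inj (by rw [map_mul, map_mul, ex, ey, aa_comm])
  have hk := c ((g⁻¹ * m) * y * (g⁻¹ * m)⁻¹) (by
    rw [← ht, WI.cz_eq h, Subgroup.mem_centralizer_singleton_iff, e2, conj_mul, conj_mul,
      ← mul_assoc y, ← hz.2.2 y hy, mul_assoc z, xy, mul_assoc z])
  have t1 := trace_mul_aa (σ ((g⁻¹ * m) * y * (g⁻¹ * m)⁻¹)) (show (4 : Fin 6) ≠ 5 by decide)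
  have t2 : (σ (z * x)).trace = 2 := by rw [← cj (g⁻¹ * m), ← e2, tr]
  have t3 : (σ (y * (z * x))).trace = 2 := by
    rw [map_mul] at t2
    rw [map_mul, map_mul, ey]
    rcases hz.sq h zz with u | u | u | u <;> rw [u, ex] at t2 ⊢
    · rw [one_mul, aa_mul (m := 1) (n := 2) (by decide), trace_aa (by decide)]
    · exact (N.2.2 (by rwa [neg_one_mul, trace_neg, trace_aa (by decide)] at t2)).elim
    · exact (N.2.2 (by
        rwa [aa_mul' (m := 2) (n := 3) (by decide), trace_neg, trace_aa (by decide)] at t2)).elim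
    · rw [neg_mul, aa_mul' (m := 2) (n := 3) (by decide), neg_neg,
        aa_mul (m := 0) (n := 3) (by decide), trace_aa (by decide)]
  rw [← ht, ← map_mul, cj, ey, trace_aa (by decide)] at t1
  nth_rewrite 1 [e2] at t1
  rw [conj_mul, cj, t3] at t1
  rcases rot_sq h hk (by rw [conj_mul, yy]; simp) with u | u
  all_goals
    have u0 := congrFun (congrFun u 0) 0
    have u1 := congrFun (congrFun u 1) 1
    generalize σ ((g⁻¹ * m) * y * (g⁻¹ * m)⁻¹) = M at t1 u0 u1
    simp [b2] at u0 u1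
    rw [u0, u1] at t1
  · exact WB.four h.two (by linear_combination t1)
  · exact WB.four h.two (by linear_combination -t1)

end Cfsg.Agent.D4.W2
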