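import Cfsg.Agent.D4.WA2c

/-!
A component `A₅` acting on a four-dimensional subspace: finite computations.
-/

set_option autoImplicit false

open Matrix

namespace Cfsg.Agent.D4.W2

variable {K : Type*} [Field K] {G X : Type*} [Group G] [Group X] {σ : G →* M6 K} {π : G →* X}

set_option synthInstance.maxSize 1000 in
theorem s5_four : ∀ a : Equiv.Perm (Fin 5), (a * a = 1 ∧ a ≠ 1) → ∀ b, (b * b = 1 ∧ b ≠ 1 ∧
    a ≠ b ∧ a * b = b * a) →
    (∀ l, l * a = a * l → l * b = b * l → l = 1 ∨ l = a ∨ l = b ∨ l = a * b) ∧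
    (Equiv.Perm.sign a = 1 → Equiv.Perm.sign b = 1 → ∃ i j, i ≠ j ∧
      .swap i j * a * .swap i j = a ∧ .swap i j * b * .swap i j = a * b) := by
  decide +kernel

theorem last (h2 : (2 : K) ≠ 0) {M B : M6 K} (o : Mᵀ * M = 1) (d : M.det = 1)
    (e1 : M * aa 4 5 = aa 2 3 * M) (e2 : M * aa 2 3 = aa 4 5 * M) (e3 : M * aa 0 2 = B * M)
    (b0 : B 0 0 = 0) (b1 : B 1 1 = 0) : 2 * (M * M) 0 0 = 1 - (b2 (M * M)).det := by
  have z1 := ent h2 e1
  have z2 := ent h2 e2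
  have f := fun i j => congrFun (congrFun e3 i) j
  have f0 := f 0 0; have f1 := f 1 0; have f2 := f 0 1; have f3 := f 1 1
  have g := fun i j => congrFun (congrFun o i) j
  have g0 := g 0 0; have g1 := g 0 1; have g2 := g 1 1
  simp only [aa, mul_diagonal] at f0 f1 f2 f3
  simp [mul_apply, Fin.sum_univ_six, z1, z2, b0, b1] at f0 f1 f2 f3 g0 g1 g2
  have hM : M = !![M 0 0, M 0 1, 0, 0, 0, 0; M 1 0, M 1 1, 0, 0, 0, 0; 0, 0, 0, 0, M 2 4, M 2 5;
      0, 0, 0, 0, M 3 4, M 3 5; 0, 0, M 4 2, M 4 3, 0, 0; 0, 0, M 5 2, M 5 3, 0, 0] := by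
    ext i j
    fin_cases i <;> fin_cases j <;> simp [z1, z2]
  have d' : (M 0 0 * M 1 1 - M 0 1 * M 1 0) * ((M 4 2 * M 5 3 - M 4 3 * M 5 2) *
      (M 2 4 * M 3 5 - M 2 5 * M 3 4)) = 1 := by
    rw [← d]
    conv_rhs => rw [hM]
    simp [det_succ_row_zero, Fin.sum_univ_succ, Fin.succAbove]
    ring
  have : (b2 (M * M)).det = (M 4 2 * M 5 3 - M 4 3 * M 5 2) * (M 2 4 * M 3 5 - M 2 5 * M 3 4) := by
    simp [det_fin_two, b2, mul_apply, Fin.sum_univ_six, z1, z2]
    ring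
  rw [this]
  simp [mul_apply, Fin.sum_univ_six, z1, z2]
  grind

theorem mem_map (h : HW σ π) {H : Subgroup G} {n : G} (hn : σ n = -1) (e : n ∈ H) {g : G} :
    π g ∈ H.map π ↔ g ∈ H := by
  refine ⟨fun ⟨k, hk, u⟩ => ?_, fun u => ⟨g, u, rfl⟩⟩
  rcases h.eq_of u.symm with v | v
  · exact h.inj v ▸ hk
  · exact h.inj (show σ (n * k) = σ g by simp [hn, v]) ▸ mul_mem e hk

theorem not_rank [IsAlgClosed K] [Finite G] (h : HW σ π) {t x y : G} (ht : σ t = aa 4 5) (ex : σ x = aa 0 1)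
    (ey : σ y = aa 0 2) : ¬ PRankLE 2 2 X := fun r => by
  have := h.finiteX
  have n1 : (-1 : K) ≠ 1 := fun e => h.two (by linear_combination -e)
  have m : ∀ i : Fin 5, IsMono (σ (![1, x, y, x * y, t] i)) 1 := fun i => by
    fin_cases i <;> simp [ht, ex, ey, isMono_one, isMono_aa]
    simpa using (isMono_aa 0 1).mul (isMono_aa 0 2)
  have := (Nat.card_le_card_of_injective (fun i : Fin 5 =>
    (⟨π (![1, x, y, x * y, t] i), _, ⟨1, one_mem _, m i⟩, rfl⟩ : (MG σ ⊥).map π)) fun i j e => by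
      rcases h.eq_of (congrArg Subtype.val e) with v | v
      · have v0 := congrFun (congrFun v 0) 0
        have v1 := congrFun (congrFun v 1) 1
        have v4 := congrFun (congrFun v 4) 4
        revert v0 v1 v4
        fin_cases i <;> fin_cases j <;> simp [ht, ex, ey, aa, n1, n1.symm]
      · have v3 := congrFun (congrFun v 3) 3
        revert v3
        fin_cases i <;> fin_cases j <;> simp [ht, ex, ey, aa, n1.symm]).trans
    (r _ ⟨⟨fun a b => Subtype.ext (WF.comm_A h a.2 b.2)⟩⟩ (by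
      rintro _ ⟨g, ⟨w, hw, ε, e1, e2⟩, rfl⟩
      obtain rfl := Subgroup.mem_bot.1 hw
      rw [← map_pow, h.ker, pow_two, map_mul, e2, mono_mul, one_mul, ← mono_one]
      exact Or.inl (congrArg _ (funext e1))))
  simp at this

end Cfsg.Agent.D4.W2
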