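import Cfsg.Agent.D4.SO3
import Cfsg.Agent.D4.SO4
import Cfsg.Agent.D4.WFrm

/-!
Two rotations of order three about perpendicular axes.
-/

set_option autoImplicit false
set_option maxRecDepth 100000

open Matrix
open scoped MatrixGroups

namespace Cfsg.Agent.D4

variable {K : Type*} [Field K] {G X : Type*} [Group G] [Group X] {σ : G →* M6 K} {π : G →* X}

namespace WJ

theorem in0 (h : HW σ π) {g : G} (e4 : σ g *ᵥ ee 4 = ee 4) (e5 : σ g *ᵥ ee 5 = ee 5) :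
    In0 σ g ∧ b2 (σ g) = 1 := by
  have r : ∀ v, σ g *ᵥ v = v → σ g * rf v = rf v * σ g := fun v hv => by
    calc _ = σ g * rf v * ((σ g)ᵀ * σ g) := by rw [h.orth, mul_one]
      _ = _ := by rw [← mul_assoc, rf_conj (h.orth g), hv]
  have c : σ g * aa 4 5 = aa 4 5 * σ g := by
    rw [aa_eq_rf (by decide), ← mul_assoc, r _ e4, mul_assoc, r _ e5, mul_assoc]
  have b : b2 (σ g) = 1 := by
    ext i j
    fin_cases i <;> fin_cases j
    exacts [show σ g 4 4 = 1 by simpa using congrFun e4 4, show σ g 4 5 = 0 by simpa using congrFun e5 4,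
      show σ g 5 4 = 0 by simpa using congrFun e4 5, show σ g 5 5 = 1 by simpa using congrFun e5 5]
  exact ⟨⟨c, by simpa [b, h.det] using (So4.det_blk h.two c).symm⟩, b⟩

theorem faith (h : HW σ π) {g : G} (e0 : σ g *ᵥ ee 0 = ee 0) (e4 : σ g *ᵥ ee 4 = ee 4)
    (e5 : σ g *ᵥ ee 5 = ee 5) (p : cp (b4 (σ g)) = 1) : g = 1 := by
  obtain ⟨i, b⟩ := in0 h e4 e5
  obtain ⟨a, c, e⟩ := (cm_eq_one h.two (h.blk i.1).1 i.2).2.1 p
  have k : ∀ i : Fin 4, b4 (σ g) i 0 = ee (K := K) 0 (Fin.castAdd 2 i) := fun i =>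
    show σ g (Fin.castAdd 2 i) 0 = _ by simpa using congrFun e0 (Fin.castAdd 2 i)
  have t0 := k 0
  have t1 := k 1
  have t2 := k 2
  have t3 := k 3
  rw [e] at t0 t1 t2 t3
  simp [Jm, Fin.sum_univ_three, ee, Fin.ext_iff] at t0 t1 t2 t3
  refine h.inj ((blk_ext h.two i.1 (by simp) ?_ (b.trans So4.b4_one.2.symm)).trans (map_one σ).symm)
  rw [e, So4.b4_one.1]
  simp [Fin.sum_univ_three, t0, t1, t2, t3]

/-- The elements fixing three vectors. -/
def Fx3 (σ : G →* M6 K) (x y w : V6 K) : Subgroup G where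
  carrier := {g | ∀ v ∈ [x, y, w], σ g *ᵥ v = v}
  one_mem' v _ := by rw [map_one, one_mulVec]
  mul_mem' ha hb v hv := by rw [map_mul, ← mulVec_mulVec, hb v hv, ha v hv]
  inv_mem' {a} ha v hv := by
    conv_lhs => rw [← ha v hv, mulVec_mulVec, ← map_mul, inv_mul_cancel, map_one, one_mulVec]

theorem three [IsAlgClosed K] [Finite G] (h : HW σ π) (h3 : (3 : K) ≠ 0) {x y w : V6 K} (xx : x ⬝ᵥ x = 1)
    (yy : y ⬝ᵥ y = 1) (ww : w ⬝ᵥ w = 1) (xy : x ⬝ᵥ y = 0) (xw : x ⬝ᵥ w = 0) (yw : y ⬝ᵥ w = 0) {a b g : G}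
    (ha : a ∈ Fx3 σ x y w) (hb : b ∈ Fx3 σ x y w) (hg : g ∈ Fx3 σ x y w) (a3 : a ^ 3 = 1) (b3 : b ^ 3 = 1)
    (e : a * b ≠ b * a) : (g ^ 3 = 1 ∨ g ^ 4 = 1 ∨ g ^ 5 = 1) ∧ ((5 : K) = 0 → g ^ 5 = 1 → g = 1) := by
  obtain ⟨B, hB⟩ := exists_O6 h.two {0, 4, 5} ![x, 0, 0, 0, y, w] (by
    simp [xx, yy, ww, xy, xw, yw, dotProduct_comm y x, dotProduct_comm w x, dotProduct_comm w y])
  have h' := h.cw B
  have fx : ∀ g ∈ Fx3 σ x y w, ∀ i ∈ ({0, 4, 5} : Finset (Fin 6)), cw σ B g *ᵥ ee i = ee i := fun g hg i hi => by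
    have m : B.1 *ᵥ ee i ∈ [x, y, w] := by
      rw [hB i hi]
      simp only [Finset.mem_insert, Finset.mem_singleton] at hi
      rcases hi with rfl | rfl | rfl <;> simp
    have := congrArg (B.1ᵀ *ᵥ ·) ((WB.cw_vec B g (ee i)).trans (hg _ m))
    rwa [mulVec_mulVec, mulVec_mulVec _ _ B.1, B.2, one_mulVec, one_mulVec] at this
  obtain ⟨C, φ, -, hC, hφ, -, t, -⟩ := h'.exists_c0
  have le : Fx3 σ x y w ≤ C := fun g hg => (hC g).2 (in0 h' (fx g hg 4 (by decide)) (fx g hg 5 (by decide))).1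
  have i : ∀ g (hg : g ∈ Fx3 σ x y w), φ ⟨g, le hg⟩ = 1 → g = 1 := fun g hg p =>
    faith h' (fx g hg 0 (by decide)) (fx g hg 4 (by decide)) (fx g hg 5 (by decide)) ((hφ ⟨g, le hg⟩).symm.trans p)
  have pw : ∀ {g} (hg : g ∈ Fx3 σ x y w) (n : ℕ), φ ⟨g, le hg⟩ ^ n = 1 ↔ g ^ n = 1 := fun {g} hg n => by
    rw [← map_pow]
    exact ⟨i _ (pow_mem hg n), fun e => (congrArg φ (Subtype.ext e)).trans (map_one φ)⟩
  obtain ⟨k1, k2⟩ := t.three h3 ((pw ha 3).2 a3) ((pw hb 3).2 b3) (fun c => e (mul_inv_eq_one.1 (i _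
    (mul_mem (mul_mem ha hb) (inv_mem (mul_mem hb ha))) (by
      rw [← map_mul, ← map_mul] at c
      change φ (⟨a, le ha⟩ * ⟨b, le hb⟩ * (⟨b, le hb⟩ * ⟨a, le ha⟩)⁻¹) = 1
      rw [map_mul, c, ← map_mul, mul_inv_cancel, map_one])))) ⟨g, le hg⟩
  refine ⟨k1.imp (pw hg 3).1 (Or.imp (pw hg 4).1 (pw hg 5).1), fun h5 g5 => ?_⟩
  have := Fact.mk Nat.prime_five
  have : CharP K 5 := (CharP.charP_iff_prime_eq_zero Nat.prime_five).2 (by exact_mod_cast h5)
  exact i g hg (k2 (SO.nil_of_pow ((pw hg 5).2 g5)))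

/-- Integer matrices. -/
abbrev Z6 := Matrix (Fin 6) (Fin 6) ℤ

/-- `σ g` is the integer matrix `X` divided by `2 ^ n`. -/
def R (σ : G →* M6 K) (g : G) (n : ℕ) (X : Z6) : Prop := (2 : K) ^ n • σ g = (Int.castRingHom K).mapMatrix X

variable {g k : G} {n m : ℕ} {A B : Z6}

theorem R.mul (a : R σ g n A) (b : R σ k m B) : R σ (g * k) (n + m) (A * B) := by
  rw [R, map_mul, map_mul, ← a, ← b, smul_mul_smul_comm, pow_add]

theorem R.pow (a : R σ g n A) (j : ℕ) : R σ (g ^ j) (n * j) (A ^ j) := by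
  rw [R, map_pow, map_pow, ← a, smul_pow, pow_mul]

theorem R.off (a : R σ g n A) (e : g = 1) {i j : Fin 6} (ij : i ≠ j) {c : ℤ} (hc : A i j = c) : (c : K) = 0 := by
  have := congrFun (congrFun a i) j
  rw [e, map_one] at this
  simpa [ij, hc] using this.symm

theorem R.eq (h : HW σ π) (a : R σ g n A) (b : R σ k n B) (e : A = B) : g = k :=
  h.inj (smul_right_injective _ (pow_ne_zero n h.two) (a.trans (e ▸ b.symm)))

theorem R.one (n : ℕ) : R σ 1 n ((2 : ℤ) ^ n • 1) := by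
  rw [R, map_one, map_zsmul, map_one, ← Int.cast_smul_eq_zsmul K]
  simp

/-- Integer vectors. -/
def cv (c : K) (v : Fin 6 → ℤ) : V6 K := c • fun i => (v i : K)

theorem cv_dot (c d : K) (v w : Fin 6 → ℤ) {e : ℤ} (he : v ⬝ᵥ w = e) : cv c v ⬝ᵥ cv d w = c * d * e := by
  simp [cv, dotProduct, ← he, Finset.mul_sum, mul_mul_mul_comm]

theorem R.fix (h : HW σ π) (a : R σ g n A) (c : K) {v : Fin 6 → ℤ} (e : A *ᵥ v = (2 : ℤ) ^ n • v) :
    σ g *ᵥ cv c v = cv c v := by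
  rw [cv, mulVec_smul]
  refine congrArg _ (smul_right_injective _ (pow_ne_zero n h.two) (funext fun i => ?_))
  have := (Int.castRingHom K).map_mulVec A v i
  rw [e] at this
  dsimp only
  rw [← smul_mulVec, a]
  exact this.symm.trans (by simp)

/-- Permutation matrices. -/
def Pm (w : S6) : Z6 := of fun i j => if i = w j then 1 else 0

theorem exists_pm [IsAlgClosed K] [Finite G] (h : HW σ π) (F : Frm σ) (hY : YA5 ≤ Yg σ) {w : S6}
    (s : Equiv.Perm.sign w = 1) (f : w 5 = 5) : ∃ g, R σ g 0 (Pm w) := by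
  obtain ⟨g, e⟩ := h.mono_mem F (hY ⟨Equiv.Perm.mem_alternatingGroup.2 s, f⟩) (M := mono w 1) ⟨1, by simp, rfl⟩
    (by simp [det_mono, s])
  refine ⟨g, ?_⟩
  rw [R, e]
  ext i j
  simp [mono, Pm]

def A4 : Z6 := !![1, -1, -1, 1, 0, 0; -1, 1, -1, 1, 0, 0; -1, -1, 1, 1, 0, 0; -1, -1, -1, -1, 0, 0;
  0, 0, 0, 0, 2, 0; 0, 0, 0, 0, 0, 2]

def A5 : Z6 := !![1, -1, -1, 0, 1, 0; -1, 1, -1, 0, 1, 0; -1, -1, 1, 0, 1, 0; 0, 0, 0, 2, 0, 0;
  -1, -1, -1, 0, -1, 0; 0, 0, 0, 0, 0, 2]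

def AB : Z6 := !![3, -1, -1, 2, -1, 0; -1, 3, -1, 2, -1, 0; -1, -1, 3, 2, -1, 0; 1, 1, 1, -2, -3, 0;
  -2, -2, -2, 0, -2, 0; 0, 0, 0, 0, 0, 4]

def Cm : Z6 := !![28, -36, -36, -24, -12, 0; -36, 28, -36, -24, -12, 0; -36, -36, 28, -24, -12, 0;
  -12, -12, -12, -8, 60, 0; -24, -24, -24, 48, -8, 0; 0, 0, 0, 0, 0, 64]

theorem f1 : Pm (.swap 0 1 * .swap 3 4) * A4 * Pm (.swap 0 1 * .swap 3 4) = A5 ∧ A4 * A5 = AB ∧
    AB * (A4 ^ 2 * A5 ^ 2) = Cm ∧ A4 ^ 3 = (2 : ℤ) ^ 3 • 1 ∧ A5 ^ 3 = (2 : ℤ) ^ 3 • 1 ∧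
    Pm c3 ^ 3 = (2 : ℤ) ^ 0 • 1 ∧ Pm c3 * A4 = A4 * Pm c3 := by decide +kernel

theorem r4 (h2 : (2 : K) ≠ 0) (e : σ g = rf ![1, 1, 1, 1, 0, 0] * rf (ee 3)) : R σ g 1 A4 := by
  have d : (2 : K) / (![1, 1, 1, 1, 0, 0] ⬝ᵥ ![1, 1, 1, 1, 0, 0]) = 2⁻¹ := by
    rw [show (![1, 1, 1, 1, 0, 0] ⬝ᵥ ![1, 1, 1, 1, 0, 0] : K) = 2 * 2 by
      simp [dotProduct, Fin.sum_univ_six]; norm_num]
    field_simp
  rw [R, e, WB.rf_ee, rf, d]
  ext i j
  fin_cases i <;> fin_cases j <;> simp [A4, h2, mul_sub] <;> norm_num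

end WJ

open WJ

variable [IsAlgClosed K] [Finite G]

theorem HW.no_hada (h : HW σ π) (F : Frm σ) (hY : YA5 ≤ Yg σ) (g : G) :
    σ g ≠ rf ![1, 1, 1, 1, 0, 0] * rf (ee 3) := by
  intro e
  have a := r4 h.two e
  obtain ⟨q1, q2, q3, q4, q5, q6, q7⟩ := f1
  have a3 : g ^ 3 = 1 := (a.pow 3).eq h (R.one 3) q4
  by_cases h3 : (3 : K) = 0
  · have := Fact.mk Nat.prime_three
    have : CharP K 3 := (CharP.charP_iff_prime_eq_zero Nat.prime_three).2 (by exact_mod_cast h3)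
    obtain ⟨d, hd⟩ := exists_pm h F hY (w := c3) (by decide) (by decide)
    have d3 : d ^ 3 = 1 := (hd.pow 3).eq h (R.one 0) q6
    have nil : ∀ {x : G}, x ^ 3 = 1 → IsNilpotent (σ x - 1) := fun hx =>
      So4.pow_of_nil.2 ⟨1, by rw [pow_one, ← map_pow, hx, map_one]⟩
    rcases h.quad d g (cv 1 ![0, 0, 0, 0, 1, 0]) (cv 1 ![0, 0, 0, 0, 0, 1])
      ((cv_dot _ _ _ _ (e := 1) (by decide)).trans (by simp)) ((cv_dot _ _ _ _ (e := 1) (by decide)).trans (by simp))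
      ((cv_dot _ _ _ _ (e := 0) (by decide)).trans (by simp)) (nil d3) (nil a3) ((hd.mul a).eq h (a.mul hd) q7)
      (hd.fix h _ (by decide +kernel)) (hd.fix h _ (by decide +kernel)) (a.fix h _ (by decide +kernel))
      (a.fix h _ (by decide +kernel)) with t | t | t | t
    · simpa using hd.off t (i := 1) (j := 0) (c := 1) (by decide) (by decide +kernel)
    · simpa using a.off t (i := 1) (j := 0) (c := -1) (by decide) (by decide +kernel)
    · exact h.two (mod_cast ((a.pow 2).mul hd).off (by rw [← t, ← pow_succ, a3]) (i := 3) (j := 0) (c := 2)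
        (by decide) (by decide +kernel))
    · simpa using (a.mul hd).off t (i := 3) (j := 0) (c := -1) (by decide) (by decide +kernel)
  obtain ⟨p, hp⟩ := exists_pm h F hY (w := .swap 0 1 * .swap 3 4) (by decide) (by decide)
  have b := (hp.mul a).mul hp
  rw [q1] at b
  generalize p * g * p = k at b
  have ab := a.mul b
  rw [q2] at ab
  have c := ab.mul ((a.pow 2).mul (b.pow 2))
  rw [q3] at c
  obtain ⟨r, hr⟩ := IsAlgClosed.exists_eq_mul_self (2⁻¹ : K)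
  obtain ⟨s, hs⟩ := IsAlgClosed.exists_eq_mul_self ((2 * 3)⁻¹ : K)
  have h2 := h.two
  have fx : ∀ {x : G} {Y : Z6}, R σ x 1 Y → (∀ v ∈ [![1, 1, -2, 0, 0, 0], ![1, -1, 0, 0, 0, 0], ![0, 0, 0, 0, 0, 1]],
      Y *ᵥ v = (2 : ℤ) ^ 1 • v) → x ∈ Fx3 σ (cv s ![1, 1, -2, 0, 0, 0]) (cv r ![1, -1, 0, 0, 0, 0])
      (cv 1 ![0, 0, 0, 0, 0, 1]) := fun hx hv v m => by
    simp only [List.mem_cons, List.not_mem_nil, or_false, forall_eq_or_imp, forall_eq] at hv m
    rcases m with rfl | rfl | rfl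
    exacts [hx.fix h _ hv.1, hx.fix h _ hv.2.1, hx.fix h _ hv.2.2]
  have ha := fx a (by decide +kernel)
  have hb := fx b (by decide +kernel)
  have ne : g * k ≠ k * g := fun c => h3 (by
    have := congrFun (congrFun (ab.symm.trans (c ▸ b.mul a)) 0) 3
    rw [RingHom.mapMatrix_apply, RingHom.mapMatrix_apply, map_apply, map_apply,
      (by decide +kernel : AB 0 3 = 2), (by decide +kernel : (A5 * A4) 0 3 = -1)] at this
    simp only [eq_intCast] at this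
    push_cast at this
    linear_combination this)
  have t := fun x hx => three h h3 ((cv_dot _ _ _ _ (e := 6) (by decide)).trans (by rw [← hs]; field_simp; norm_num))
    ((cv_dot _ _ _ _ (e := 2) (by decide)).trans (by rw [← hr]; field_simp; norm_num))
    ((cv_dot _ _ _ _ (e := 1) (by decide)).trans (by simp)) ((cv_dot _ _ _ _ (e := 0) (by decide)).trans (by simp))
    ((cv_dot _ _ _ _ (e := 0) (by decide)).trans (by simp)) ((cv_dot _ _ _ _ (e := 0) (by decide)).trans (by simp))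
    ha hb (g := x) hx a3 ((b.pow 3).eq h (R.one 3) q5) ne
  obtain ⟨u | u | u, u5⟩ := t _ (mul_mem ha hb)
  · have := (ab.pow 3).off u (i := 0) (j := 1) (c := -9) (by decide) (by decide +kernel)
    exact h3 (pow_eq_zero_iff two_ne_zero |>.1 (by push_cast at this; linear_combination -this))
  · have := (ab.pow 4).off u (i := 0) (j := 1) (c := -49) (by decide) (by decide +kernel)
    have h7 : (7 : K) = 0 := pow_eq_zero_iff two_ne_zero |>.1 (by push_cast at this; linear_combination -this)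
    obtain ⟨u | u | u, -⟩ := t _ (mul_mem (mul_mem ha hb) (mul_mem (pow_mem ha 2) (pow_mem hb 2)))
    · have := (c.pow 3).off u (i := 0) (j := 3) (c := -132480) (by decide) (by decide +kernel)
      exact h2 (by push_cast at this; linear_combination this + 18926 * h7)
    · have := (c.pow 4).off u (i := 0) (j := 3) (c := 4237824) (by decide) (by decide +kernel)
      exact h3 (by push_cast at this; linear_combination this - 605403 * h7)
    · have := (c.pow 5).off u (i := 0) (j := 3) (c := -586831872) (by decide) (by decide +kernel)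
      exact h3 (by push_cast at this; linear_combination this + 83833125 * h7)
  · have := (ab.pow 5).off u (i := 0) (j := 1) (c := -25) (by decide) (by decide +kernel)
    have h5 : (5 : K) = 0 := pow_eq_zero_iff two_ne_zero |>.1 (by push_cast at this; linear_combination -this)
    simpa using ab.off (u5 h5 u) (i := 0) (j := 1) (c := -1) (by decide) (by decide +kernel)

end Cfsg.Agent.D4
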