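import Cfsg.Agent.D4.WF4
import Cfsg.Agent.D4.WJ

/-!
The centraliser of the central sign change is monomial.
-/

set_option autoImplicit false

open Matrix
open scoped MatrixGroups

namespace Cfsg.Agent.D4

open WF WB

variable {K : Type*} [Field K] {G X : Type*} [Group G] [Group X] {σ : G →* M6 K} {π : G →* X}

theorem WF.rf_comm {v w : V6 K} (e : v ⬝ᵥ w = 0) : rf v * rf w = rf w * rf v := by
  have e' : w ⬝ᵥ v = 0 := by rwa [dotProduct_comm]
  simp only [rf, sub_mul, mul_sub, one_mul, mul_one, smul_mul_assoc, mul_smul_comm,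
    vecMulVec_mul_vecMulVec, e, e', zero_smul, vecMulVec_zero, smul_zero, sub_zero]
  abel

theorem WF.rf_fix {v x : V6 K} (e : v ⬝ᵥ x = 0) : rf v *ᵥ x = x := by
  rw [rf_mulVec, e]; simp

theorem WF.conj_rf (h : HW σ π) (g : G) (v w : V6 K) :
    σ g * (rf v * rf w) * σ g⁻¹ = rf (σ g *ᵥ v) * rf (σ g *ᵥ w) := by
  rw [← rf_conj (h.orth g), ← rf_conj (h.orth g), h.inv_eq]
  simp only [mul_assoc]
  rw [← mul_assoc (σ g)ᵀ, h.orth, one_mul]

theorem WF.conj_aa_rf (h : HW σ π) (g : G) {t : G} {i j : Fin 6} (n : i ≠ j) (ht : σ t = aa i j) :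
    σ (g * t * g⁻¹) = rf (σ g *ᵥ ee i) * rf (σ g *ᵥ ee j) := by
  rw [map_mul, map_mul, ht, aa_eq_rf n, conj_rf h]

theorem WF.ee_dot (i : Fin 6) : (ee i : V6 K) ⬝ᵥ ee i ≠ 0 := by simp

theorem WF.rf_perp {x y : K} (e : x * x + y * y = 1) :
    rf ![0, 0, 0, 0, -y, x] = rf ![0, 0, 0, 0, x, y] * aa 4 5 := by
  have a : (![0, 0, 0, 0, -y, x] : V6 K) ⬝ᵥ ![0, 0, 0, 0, -y, x] = 1 := by
    simp [dotProduct, Fin.sum_univ_six]; linear_combination e
  have b : (![0, 0, 0, 0, x, y] : V6 K) ⬝ᵥ ![0, 0, 0, 0, x, y] = 1 := by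
    simp [dotProduct, Fin.sum_univ_six]; linear_combination e
  rw [rf, rf, a, b, aa]
  ext i j
  rw [mul_diagonal]
  fin_cases i <;> fin_cases j <;> simp [vecMulVec_apply] <;>
    first | exact Or.inl (mul_comm _ _) | linear_combination (-2 : K) * e

/-- The vector `(1, 1, 1, 1, 0, 0)`. -/
abbrev WF.HH : V6 K := ![1, 1, 1, 1, 0, 0]

theorem WF.HH_dot : (HH : V6 K) ⬝ᵥ HH = 4 := by
  simp [dotProduct, Fin.sum_univ_six]; norm_num

theorem WF.rf_orth {v : V6 K} (hv : v ⬝ᵥ v ≠ 0) : (rf v)ᵀ * rf v = 1 := by rw [rf_transpose, rf_mul_self hv]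

theorem WF.rf_rf {v : V6 K} (hv : v ⬝ᵥ v ≠ 0) (w : V6 K) : rf (rf v *ᵥ w) = rf v * rf w * rf v := by
  rw [← rf_conj (rf_orth hv), rf_transpose]

theorem WF.cube (h2 : (2 : K) ≠ 0) : (rf (HH : V6 K) * rf (ee 3)) ^ 3 = 1 := by
  have h4 := four h2
  have hH : (HH : V6 K) ⬝ᵥ HH ≠ 0 := by rwa [HH_dot]
  have : rf (ee 3 : V6 K) *ᵥ HH = (-2 : K) • rf HH *ᵥ ee 3 := by
    rw [rf_mulVec, rf_mulVec, HH_dot]
    ext i
    have : (2 / 4 : K) = 2⁻¹ := by field_simp; norm_num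
    fin_cases i <;> simp [this, h2, vecHead, vecTail] <;> (try field_simp) <;> ring
  have b : rf (ee 3 : V6 K) * rf HH * rf (ee 3) = rf HH * rf (ee 3) * rf HH := by
    rw [← rf_rf (ee_dot 3), ← rf_rf hH, this, rf_smul (neg_ne_zero.2 h2)]
  calc (rf (HH : V6 K) * rf (ee 3)) ^ 3 = rf HH * rf (ee 3) * rf HH * (rf (ee 3) * rf HH * rf (ee 3)) := by
        simp only [pow_succ, pow_zero, one_mul, mul_assoc]
    _ = rf HH * (rf (ee 3) * (rf HH * rf HH) * rf (ee 3)) * rf HH := by rw [b]; simp only [mul_assoc]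
    _ = 1 := by rw [rf_mul_self hH, mul_one, rf_mul_self (ee_dot 3), mul_one, rf_mul_self hH]

theorem WF.ent {i k : Fin 6} (n : i ≠ k) {a b : K} (ha : 2 * a ^ 2 = 1) (hb : 2 * b ^ 2 = 1) (l : Fin 6) :
    (l = i ∨ l = k → 2 * (a • ee i + b • ee k : V6 K) l ^ 2 = 1) ∧
      (¬ (l = i ∨ l = k) → (a • ee i + b • ee k : V6 K) l = 0) := by
  refine ⟨?_, fun e => ?_⟩
  · rintro (rfl | rfl)
    · simpa [n] using ha
    · simpa [n.symm] using hb
  · rw [not_or] at e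
    simp [e.1, e.2]

theorem WF.idx : ∀ i k i' k' m : Fin 4, i ≠ k → i' ≠ k' → m ≠ i → m ≠ k →
    ((m.castAdd 2 : Fin 6) = i'.castAdd 2 ∨ (m.castAdd 2 : Fin 6) = k'.castAdd 2) →
    (∀ l : Fin 4, ((l.castAdd 2 : Fin 6) = i.castAdd 2 ∨ (l.castAdd 2 : Fin 6) = k.castAdd 2) ↔
      ¬ ((l.castAdd 2 : Fin 6) = i'.castAdd 2 ∨ (l.castAdd 2 : Fin 6) = k'.castAdd 2)) ∨
    ∃ l : Fin 6, (l = i.castAdd 2 ∨ l = k.castAdd 2) ∧ (l = i'.castAdd 2 ∨ l = k'.castAdd 2) ∧ ∀ l', l' ≠ l →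
      ¬ (l' = i.castAdd 2 ∨ l' = k.castAdd 2) ∨ ¬ (l' = i'.castAdd 2 ∨ l' = k'.castAdd 2) := by decide +kernel

theorem WF.idx2 : ∀ i k q : Fin 4, i ≠ k → q ≠ 0 → ∃ w : S6, w 4 = 4 ∧ w 5 = 5 ∧ w (i.castAdd 2) = 0 ∧
    w (k.castAdd 2) = q.castAdd 2 ∧ Equiv.Perm.sign w = 1 := by decide +kernel

theorem WF.idx3 : ∀ i : Fin 6, i ≠ 5 → ∃ w : S6, w 4 = i ∧ w 5 = 5 ∧ Equiv.Perm.sign w = 1 := by decide +kernel

theorem WF.idx4 : ∃ τ : S6, τ 2 = 4 ∧ τ 3 = 5 ∧ (τ * c3 * τ⁻¹) 5 = 5 ∧ Equiv.Perm.sign (τ * c3 * τ⁻¹) = 1 ∧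
    ∀ i, i ≠ 2 → i ≠ 3 → ∃ j : Fin 4, τ i = j.castAdd 2 := by decide +kernel

theorem WF.mem_YA5 {w : S6} (a : w 5 = 5) (b : Equiv.Perm.sign w = 1) : w ∈ YA5 :=
  ⟨Equiv.Perm.mem_alternatingGroup.2 b, a⟩

variable [IsAlgClosed K] [Finite G]

theorem WF.exists_mono (h : HW σ π) (F : Frm σ) (hA : YA5 ≤ Yg σ) {w : S6} (a : w 5 = 5)
    (b : Equiv.Perm.sign w = 1) : ∃ g, σ g = mono w 1 ∧ IsMono (σ g) w := by
  have m : IsMono (mono w 1 : M6 K) w := ⟨1, by simp, rfl⟩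
  obtain ⟨g, hg⟩ := h.mono_mem F (hA (mem_YA5 a b)) m (by rw [det_mono, b]; simp)
  exact ⟨g, hg, hg ▸ m⟩

/-- Elements fixing the first four basis vectors. -/
theorem WF.zl (h : HW σ π) (F : Frm σ) (hA : YA5 ≤ Yg σ) (n : Equiv.swap 4 5 ∉ Yg σ) {z : G}
    (e : ∀ j : Fin 4, σ z *ᵥ ee (j.castAdd 2) = ee (j.castAdd 2)) : σ z = 1 ∨ σ z = aa 4 5 := by
  obtain ⟨τ, t2, t3, a, b, c⟩ := idx4
  have := h.rot4 F τ (hA (mem_YA5 a b)) (g := z) fun i p q => by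
    obtain ⟨j, hj⟩ := c i p q
    rw [hj, e]
  rw [t2, t3] at this
  obtain ⟨ε, e1, e2⟩ := this.resolve_right fun m => n ⟨z, m⟩
  have p : ∀ j : Fin 4, ε (j.castAdd 2) = 1 := fun j => by
    have := congrFun (e j) (j.castAdd 2)
    rw [e2, mono_ee] at this
    simpa using this
  have p0 : ε 0 = 1 := p 0
  have p1 : ε 1 = 1 := p 1
  have p2 : ε 2 = 1 := p 2
  have p3 : ε 3 = 1 := p 3
  have d := h.det z
  rw [e2, mono_one_eq] at d ⊢
  rw [det_diagonal, Fin.prod_univ_six, p0, p1, p2, p3] at d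
  have p5 : ε 5 = ε 4 := by linear_combination ε 4 * d - ε 5 * e1 4
  rcases mul_self_eq_one_iff.1 (e1 4) with p4 | p4
  · left
    rw [← diagonal_one]
    refine congrArg _ (funext fun k => ?_)
    fin_cases k <;> simp [*]
  · right
    refine congrArg diagonal (funext fun k => ?_)
    fin_cases k <;> simp [*]

theorem WF.colD (h : HW σ π) {g : G} (hg : g ∈ Cz σ (aa 4 5)) (j : Fin 2) :
    ∃ x y : K, x * x + y * y = 1 ∧ σ g *ᵥ ee (j.natAdd 4) = ![0, 0, 0, 0, x, y] := by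
  have z := fun i => (Cz.blk h.two hg i j).1
  have e : σ g *ᵥ ee (j.natAdd 4) = ![0, 0, 0, 0, σ g 4 (j.natAdd 4), σ g 5 (j.natAdd 4)] := by
    rw [mulVec_single_one]
    ext i
    fin_cases i
    exacts [z 0, z 1, z 2, z 3, rfl, rfl]
  refine ⟨_, _, ?_, e⟩
  have := dot_orth (h.orth g) (ee (j.natAdd 4)) (ee (j.natAdd 4))
  rw [e] at this
  simpa [dotProduct, Fin.sum_univ_six, Pi.single_apply] using this.trans (by simp : _ = (1 : K))

theorem WF.mono_D (h : HW σ π) (F : Frm σ) (hA : YA5 ≤ Yg σ) (n : Equiv.swap 4 5 ∉ Yg σ) {g : G}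
    (hg : g ∈ Cz σ (aa 4 5)) {i : Fin 4} {a : K} (ha : a * a = 1) (e : σ g *ᵥ ee 0 = a • ee (i.castAdd 2))
    (j : Fin 2) : ∃ (m : Fin 6) (c : K), σ g *ᵥ ee (j.natAdd 4) = c • ee m := by
  obtain ⟨x, y, xy, hu⟩ := colD h hg j
  have n1 : (0 : Fin 6) ≠ j.natAdd 4 := (cast_ne j 0).symm
  have n2 : (4 : Fin 6) ≠ i.castAdd 2 := cast_ne 0 i
  obtain ⟨t, ht⟩ := F _ _ n1
  obtain ⟨s, hs⟩ := F _ _ n2
  have a0 : a ≠ 0 := by rintro rfl; simp at ha
  have p : σ (s * (g * t * g⁻¹)) = rf (ee 4) * rf ![0, 0, 0, 0, x, y] := by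
    rw [map_mul, conj_aa_rf h g n1 ht, hs, aa_eq_rf n2, e, hu, rf_smul a0, mul_assoc, ← mul_assoc (rf (ee (i.castAdd 2))),
      rf_mul_self (ee_dot _), one_mul]
  have uu : (![0, 0, 0, 0, x, y] : V6 K) ⬝ᵥ ![0, 0, 0, 0, x, y] ≠ 0 := by
    simp [dotProduct, Fin.sum_univ_six, xy]
  have q : ∃ m, rf (![0, 0, 0, 0, x, y] : V6 K) = rf (ee m) := by
    rcases zl h F hA n (z := s * (g * t * g⁻¹)) (fun l => by
      rw [p, ← mulVec_mulVec, rf_fix (x := ee _) (by fin_cases l <;> simp),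
        rf_fix (x := ee _) (by fin_cases l <;> simp)]) with q | q <;>
      rw [p] at q <;> replace q := congrArg (rf (ee 4) * ·) q
    · exact ⟨4, by simpa only [← mul_assoc, rf_mul_self (ee_dot (K := K) 4), one_mul, mul_one] using q⟩
    · exact ⟨5, by simpa only [aa_eq_rf (by decide : (4 : Fin 6) ≠ 5), ← mul_assoc,
        rf_mul_self (ee_dot (K := K) 4), one_mul] using q⟩
  obtain ⟨m, q⟩ := q
  have r := rf_self uu
  rw [q, rf_mulVec, ← hu] at r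
  refine ⟨m, ee m ⬝ᵥ σ g *ᵥ ee (j.natAdd 4), smul_right_injective _ h.two ?_⟩
  simp only [single_one_dotProduct, Pi.single_eq_same, div_one] at r
  simp only [smul_smul, single_one_dotProduct]
  rw [two_smul, ← sub_eq_zero, ← sub_neg_eq_add, ← r]
  abel

theorem WF.exists_y (h : HW σ π) (F : Frm σ) (hY : Yg σ = YS5 ∨ Yg σ = YA6) {x y : K} (xy : x * x + y * y = 1) :
    ∃ k, σ k *ᵥ HH = rf (ee 3) *ᵥ HH ∧ σ k *ᵥ ee 3 = (-1 : K) • ee 3 ∧
      σ k * (rf ![0, 0, 0, 0, x, y] * rf (ee 4)) * σ k⁻¹ = rf ![0, 0, 0, 0, x, y] * rf (ee 4) := by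
  rcases hY with hY | hY
  · obtain ⟨k, hk⟩ := h.mono_mem F (w := Equiv.swap 0 1) (hY ▸ (by decide : Equiv.swap (0 : Fin 6) 1 5 = 5))
      (M := mono (Equiv.swap 0 1) ![1, 1, 1, -1, 1, 1]) ⟨_, fun j => by fin_cases j <;> simp, rfl⟩
      (by simp [det_mono, Fin.prod_univ_six])
    refine ⟨k, ?_, by rw [hk, mono_ee]; rfl, ?_⟩
    · rw [hk, rf_mulVec]
      ext i
      fin_cases i <;> simp [mono, mulVec, dotProduct, Fin.sum_univ_six, Equiv.swap_apply_def] <;> norm_num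
    · rw [conj_rf h, hk, mono_ee]
      congr 2
      · ext i
        fin_cases i <;> simp [mono, mulVec, dotProduct, Fin.sum_univ_six, Equiv.swap_apply_def]
      · exact one_smul _ _
  · obtain ⟨k, hk⟩ := h.mono_mem F (w := Equiv.swap 0 1 * Equiv.swap 4 5)
      (hY ▸ Equiv.Perm.mem_alternatingGroup.2 (by decide))
      (M := mono (Equiv.swap 0 1 * Equiv.swap 4 5) ![1, 1, 1, -1, 1, -1]) ⟨_, fun j => by fin_cases j <;> simp, rfl⟩
      (by simp [det_mono, Fin.prod_univ_six])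
    refine ⟨k, ?_, by rw [hk, mono_ee]; rfl, ?_⟩
    · rw [hk, rf_mulVec]
      ext i
      fin_cases i <;> simp [mono, mulVec, dotProduct, Fin.sum_univ_six, Equiv.swap_apply_def] <;> norm_num
    · have a : σ k *ᵥ ![0, 0, 0, 0, x, y] = ![0, 0, 0, 0, -y, x] := by
        rw [hk]
        ext i
        fin_cases i <;> simp [mono, mulVec, dotProduct, Fin.sum_univ_six, Equiv.swap_apply_def]
      have b : σ k *ᵥ ee 4 = ee 5 := by rw [hk, mono_ee]; exact one_smul _ _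
      rw [conj_rf h, a, b, rf_perp xy, aa_eq_rf (by decide), mul_assoc, mul_assoc, rf_mul_self (ee_dot _), mul_one]

theorem WF.no_half (h : HW σ π) (F : Frm σ) (hY : Yg σ = YS5 ∨ Yg σ = YA6) (hA : YA5 ≤ Yg σ)
    (n : Equiv.swap 4 5 ∉ Yg σ) {g : G} (hg : g ∈ Cz σ (aa 4 5))
    (e : ∀ l : Fin 4, 4 * (σ g *ᵥ ee 0) (l.castAdd 2) ^ 2 = 1) : False := by
  have z := fun j => (Cz.blk h.two hg 0 j).2
  have z4 : (σ g *ᵥ ee 0) 4 = 0 := by rw [mulVec_single_one]; exact z 0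
  have z5 : (σ g *ᵥ ee 0) 5 = 0 := by rw [mulVec_single_one]; exact z 1
  obtain ⟨v, hv⟩ : ∃ v, v = σ g *ᵥ ee 0 := ⟨_, rfl⟩
  rw [← hv] at e z4 z5
  have e0 : 4 * v 0 ^ 2 = 1 := e 0
  have e1 : 4 * v 1 ^ 2 = 1 := e 1
  have e2 : 4 * v 2 ^ 2 = 1 := e 2
  have e3 : 4 * v 3 ^ 2 = 1 := e 3
  have e4 : 16 * v 0 * v 1 * v 2 * v 3 * (16 * v 0 * v 1 * v 2 * v 3) = 1 := by
    linear_combination 64 * v 1 ^ 2 * v 2 ^ 2 * v 3 ^ 2 * e0 + 16 * v 2 ^ 2 * v 3 ^ 2 * e1 + 4 * v 3 ^ 2 * e2 + e3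
  have m : IsMono (diagonal ![2 * v 0, 2 * v 1, 2 * v 2, 2 * v 3, 16 * v 0 * v 1 * v 2 * v 3, 1] : M6 K) 1 :=
    ⟨_, fun j => by
      fin_cases j
      exacts [by simp; linear_combination e0, by simp; linear_combination e1, by simp; linear_combination e2,
        by simp; linear_combination e3, e4, mul_one _], (mono_one_eq _).symm⟩
  obtain ⟨t, ht⟩ := diag_mem h F m (by
    rw [det_diagonal, Fin.prod_univ_six]; simp; linear_combination e4)
  have g1 : t * g ∈ Cz σ (aa 4 5) := mul_mem (by change σ t * _ = _ * σ t; rw [ht, m.conj_aa]; rfl) hg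
  have v1 : σ (t * g) *ᵥ ee 0 = (2 : K)⁻¹ • HH := by
    have := h.two
    rw [map_mul, ← mulVec_mulVec, ← hv, ht]
    ext i
    rw [mulVec_diagonal]
    fin_cases i <;> simp [z4, z5] <;> field_simp <;>
      first | linear_combination e0 | linear_combination e1 | linear_combination e2 | linear_combination e3
  generalize t * g = g at g1 v1
  obtain ⟨x, y, xy, hu⟩ := colD h g1 0
  obtain ⟨a, ha⟩ := F 0 4 (by decide)
  obtain ⟨b, hb⟩ := F 3 4 (by decide)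
  obtain ⟨k, k1, k2, k3⟩ := exists_y h F hY xy
  obtain ⟨u, hu'⟩ : ∃ u : V6 K, u = ![0, 0, 0, 0, x, y] := ⟨_, rfl⟩
  have uH : u ⬝ᵥ HH = 0 := by simp [hu', dotProduct, Fin.sum_univ_six]
  have ue : ∀ l : Fin 4, u ⬝ᵥ ee (l.castAdd 2) = 0 := fun l => by fin_cases l <;> simp [hu']
  have hH : (HH : V6 K) ⬝ᵥ HH ≠ 0 := by rw [HH_dot]; exact four h.two
  rw [← hu'] at hu k3
  have cm : Commute (rf (HH : V6 K) * rf (ee 3)) (rf u * rf (ee 4)) :=
    (Commute.mul_right (rf_comm uH).symm (rf_comm (by simp))).mul_left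
      (Commute.mul_right (rf_comm (ue 3)).symm (rf_comm (by simp)))
  have p : σ (g * a * g⁻¹ * b) = rf HH * rf (ee 3) * (rf u * rf (ee 4)) := by
    rw [map_mul, conj_aa_rf h g (by decide) ha, hb, aa_eq_rf (by decide), v1, rf_smul (inv_ne_zero h.two),
      show σ g *ᵥ ee 4 = u from hu, mul_assoc, mul_assoc, ← mul_assoc (rf u), rf_comm (show u ⬝ᵥ ee 3 = 0 from ue 3)]
    simp only [mul_assoc]
  generalize g * a * g⁻¹ * b = c at p
  have q : σ k * (rf HH * rf (ee 3)) * σ k⁻¹ * (rf HH * rf (ee 3)) = 1 := by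
    rw [conj_rf h, k1, k2, rf_smul (by simp), rf_rf (ee_dot 3), mul_assoc _ (rf (ee 3)) (rf (ee 3)), rf_mul_self (ee_dot 3),
      mul_one, mul_assoc, ← mul_assoc (rf HH), rf_mul_self hH, one_mul, rf_mul_self (ee_dot 3)]
  have c3 := cube h.two
  have fx : ∀ l : Fin 4, (rf u * rf (ee 4)) *ᵥ ee (l.castAdd 2) = ee (l.castAdd 2) := fun l => by
    rw [← mulVec_mulVec, rf_fix (x := ee _) (by fin_cases l <;> simp), rf_fix (ue l)]
  refine h.no_hada F hA (c ^ 4) ?_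
  change _ = rf HH * rf (ee 3)
  generalize rf (HH : V6 K) * rf (ee 3) = A at *
  generalize rf u * rf (ee 4) = R at *
  have r : σ (k * c * k⁻¹ * c) = R * R := by
    have kk : σ k⁻¹ * σ k = 1 := by rw [← map_mul, inv_mul_cancel, map_one]
    calc σ (k * c * k⁻¹ * c) = σ k * A * (σ k⁻¹ * σ k) * R * σ k⁻¹ * (A * R) := by
          rw [kk, map_mul, map_mul, map_mul, p]; simp only [mul_assoc, one_mul]
      _ = σ k * A * σ k⁻¹ * ((σ k * R * σ k⁻¹) * A) * R := by simp only [mul_assoc]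
      _ = R * R := by rw [k3, ← cm.eq, ← mul_assoc, q, one_mul]
  have r4 : R ^ 4 = 1 := by
    rw [show 4 = 2 * 2 from rfl, pow_mul, pow_two, pow_two]
    rcases zl h F hA n (z := k * c * k⁻¹ * c) (fun l => by rw [r, ← mulVec_mulVec, fx, fx]) with s | s <;>
      rw [← r, s]
    exacts [mul_one _, aa_mul_self ..]
  rw [map_pow, p, cm.mul_pow, r4, mul_one, pow_succ, c3, one_mul]

theorem WF.cz4 (h : HW σ π) (cs : CS X) (F : Frm σ) (hY : Yg σ = YS5 ∨ Yg σ = YA6) (hA : YA5 ≤ Yg σ)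
    (n : Equiv.swap 4 5 ∉ Yg σ) {g : G} (hg : g ∈ Cz σ (aa 4 5)) : ∃ w, IsMono (σ g) w := by
  obtain ⟨t, ht⟩ := F 4 5 (by decide)
  have t2 : (σ t).trace = 2 := by rw [ht, trace_aa (by decide)]
  have s : Group.IsSolvable (Cz σ (aa 4 5)) := by
    rw [← ht, ← h.solv_map, ← h.cent_eq t2]
    exact cs _ (h.ord_inv (h.inj (by rw [map_mul, ht, aa_mul_self, map_one])) t2)
  rcases h.f4 F 1 (hA (mem_YA5 (by decide) (by decide))) s hg with r | r | r <;>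
    simp only [Equiv.Perm.one_apply] at r
  · obtain ⟨i, a, a1, a2⟩ := r 0
    refine isMono_of_col (h.orth g) fun j => Fin.addCases (m := 4) (n := 2) (fun j => ?_)
      (mono_D h F hA n hg a1 a2) j
    obtain ⟨i, a, -, e⟩ := r j
    exact ⟨_, _, e⟩
  · exact (no_half h F hY hA n hg fun l => by rw [mulVec_single_one]; exact r l 0).elim
  exfalso
  obtain ⟨i, k, a, b, ik, ha, hb, e⟩ := r 0
  obtain ⟨m, mi, mk⟩ : ∃ m, m ≠ i ∧ m ≠ k := by clear e ik; revert i k; decide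
  have E := ent (castA_inj.not.2 ik) ha hb
  rw [← e] at E
  obtain ⟨q, hq⟩ : ∃ q : Fin 4, (σ g *ᵥ ee (q.castAdd 2)) (m.castAdd 2) ≠ 0 := by
    by_contra! c
    have o : σ g * (σ g)ᵀ = 1 := mul_eq_one_comm.1 (h.orth g)
    have := congrFun (congrFun o (m.castAdd 2)) (m.castAdd 2)
    rw [mul_apply, one_apply_eq, Finset.sum_eq_zero fun l _ => ?_] at this
    · exact zero_ne_one this
    have : ∀ l, σ g (m.castAdd 2) l = 0 := fun l =>
      Fin.addCases (m := 4) (n := 2) (fun l => by simpa using c l) (fun l => (Cz.blk h.two hg m l).1) l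
    rw [this, zero_mul]
  have q0 : q ≠ 0 := by
    rintro rfl
    exact hq ((E _).2 (by simp [castA_inj, mi, mk]))
  obtain ⟨i', k', a', b', ik', ha', hb', e'⟩ := r q
  have E' := ent (castA_inj.not.2 ik') ha' hb'
  rw [← e'] at E'
  have nz : ∀ x : K, 2 * x ^ 2 = 1 → x ≠ 0 := by rintro x e rfl; simp at e
  rcases idx i k i' k' m ik ik' mi mk (by_contra fun c => hq ((E' _).2 c)) with p | ⟨l, p1, p2, p⟩
  · obtain ⟨w, w4, w5, wi, wk, ws⟩ := idx2 i k q ik q0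
    obtain ⟨d, hd, md⟩ := exists_mono h F hA w5 ws
    refine no_half h F hY hA n (g := g * d * g) (mul_mem (mul_mem hg ?_) hg) fun l => ?_
    · change σ d * _ = _ * σ d
      rw [md.conj_aa, w4, w5]
    have : σ (g * d * g) *ᵥ ee 0 = a • σ g *ᵥ ee (Fin.castAdd 2 (0 : Fin 4)) + b • σ g *ᵥ ee (q.castAdd 2) := by
      rw [map_mul, map_mul, ← mulVec_mulVec, ← mulVec_mulVec, show σ g *ᵥ ee 0 = _ from e, hd]
      simp only [mulVec_add, mulVec_smul, mono_ee, Pi.one_apply, one_smul, wi, wk]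
      rfl
    rw [this, Pi.add_apply, Pi.smul_apply, Pi.smul_apply, smul_eq_mul, smul_eq_mul]
    by_cases c : (l.castAdd 2 : Fin 6) = i.castAdd 2 ∨ (l.castAdd 2 : Fin 6) = k.castAdd 2
    · rw [(E' _).2 ((p l).1 c)]
      linear_combination 2 * a ^ 2 * (E _).1 c + ha
    · rw [(E _).2 c]
      linear_combination 2 * b ^ 2 * (E' _).1 (by_contra fun c' => c ((p l).2 c')) + hb
  · have := dot_orth (h.orth g) (ee (Fin.castAdd 2 (0 : Fin 4))) (ee (q.castAdd 2))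
    rw [dotProduct, Finset.sum_eq_single l (fun l' _ c => by
      rcases p l' c with c | c
      · rw [(E _).2 c, zero_mul]
      · rw [(E' _).2 c, mul_zero]) (by simp)] at this
    refine mul_ne_zero (nz _ ((E _).1 p1)) (nz _ ((E' _).1 p2)) (this.trans ?_)
    rw [single_one_dotProduct]
    exact Pi.single_eq_of_ne (castA_inj.not.2 q0.symm) _

theorem HW.cz (h : HW σ π) (cs : CS X) (F : Frm σ) (hY : Yg σ = YS5 ∨ Yg σ = YA6) {i : Fin 6}
    (hi : i ≠ 5) {g : G} (hg : g ∈ Cz σ (aa i 5)) : ∃ w, IsMono (σ g) w := by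
  have hA : YA5 ≤ Yg σ := by
    rcases hY with e | e <;> rw [e]
    exacts [inf_le_right, inf_le_left]
  have n : Equiv.swap 4 5 ∉ Yg σ := by
    rcases hY with e | e <;> rw [e] <;> intro c
    · exact (by decide : ¬ Equiv.swap (4 : Fin 6) 5 5 = 5) c
    · exact absurd (Equiv.Perm.mem_alternatingGroup.1 c) (by decide)
  obtain ⟨w, w4, w5, ws⟩ := idx3 i hi
  obtain ⟨d, -, md⟩ := exists_mono h F hA w5 ws
  have e := md.conj_aa 4 5
  rw [w4, w5] at e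
  have e' := md.inv.conj_aa i 5
  rw [Equiv.Perm.inv_eq_iff_eq.2 w4.symm, Equiv.Perm.inv_eq_iff_eq.2 w5.symm] at e'
  obtain ⟨u, m⟩ := cz4 h cs F hY hA n (g := d⁻¹ * g * d) (by
    change σ _ * _ = _ * σ _
    have hg' : σ g * _ = _ * σ g := hg
    rw [map_mul, map_mul, mul_assoc, e, ← mul_assoc, mul_assoc (σ d⁻¹), hg', ← mul_assoc, e']
    simp only [mul_assoc])
  have := (md.mul m).mul md.inv
  rw [← map_mul, ← map_mul, show d * (d⁻¹ * g * d) * d⁻¹ = g by group] at this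
  exact ⟨_, this⟩

end Cfsg.Agent.D4
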