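import Cfsg.Agent.D4.SO4
import Cfsg.Agent.D4.WFrm

/-!
Centralisers of sign changes: matrix computations.
-/

set_option autoImplicit false

open Matrix
open scoped MatrixGroups

namespace Cfsg.Agent.D4.WF

open WB

variable {K : Type*} [Field K] {G X : Type*} [Group G] [Group X] {σ : G →* M6 K} {π : G →* X}

theorem mem_Cz (h : HW σ π) {g t : G} : g ∈ Cz σ (σ t) ↔ g * t = t * g :=
  ⟨fun e => h.inj (by rw [map_mul, map_mul]; exact e), fun e => by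
    change σ g * σ t = σ t * σ g
    rw [← map_mul, e, map_mul]⟩

theorem pm_ee (τ : S6) (j : Fin 6) : (pm τ : O6 K).1 *ᵥ ee j = ee (τ j) := by
  simp only [pm, mono_ee, Pi.one_apply, one_smul]

theorem pm_vec (τ : S6) (g : G) (j : Fin 6) :
    σ g *ᵥ ee (τ j) = (pm τ : O6 K).1 *ᵥ cw σ (pm τ) g *ᵥ ee j := by rw [cw_vec, pm_ee]

theorem cw_pm_apply (τ : S6) (g : G) (i j : Fin 6) : cw σ (pm τ) g i j = σ g (τ i) (τ j) := by
  rw [cw_apply, conj_apply, pm_ee, pm_ee]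
  simp

theorem cz_pm (h : HW σ π) (F : Frm σ) (τ : S6) {i j : Fin 6} (n : i ≠ j) :
    Cz (cw σ (pm τ)) (aa i j) = Cz σ (aa (τ i) (τ j)) := by
  obtain ⟨t, ht⟩ := F _ _ (τ.injective.ne n)
  ext g
  rw [← ht, ← (cw_pm_aa τ t i j).2 ht, mem_Cz h, mem_Cz (h.cw _)]

theorem cp_diag (ε : Fin 4 → K) : cp (diagonal ε) = diagonal
    ![(2 * ε 0 * ε 1 + 2 * ε 2 * ε 3) / 4, (2 * ε 0 * ε 2 + 2 * ε 1 * ε 3) / 4, (2 * ε 0 * ε 3 + 2 * ε 1 * ε 2) / 4] ∧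
    cm (diagonal ε) = diagonal
    ![(2 * ε 0 * ε 1 + 2 * ε 2 * ε 3) / 4, (2 * ε 0 * ε 2 + 2 * ε 1 * ε 3) / 4, (2 * ε 0 * ε 3 + 2 * ε 1 * ε 2) / 4] := by
  constructor <;> ext i j <;> fin_cases i <;> fin_cases j <;>
    simp [cp, cm, Jp, Jm, trace, mul_apply, Fin.sum_univ_four, diagonal_apply] <;> ring

theorem b4_aa (i j : Fin 6) : b4 (aa i j : M6 K) =
    diagonal fun k : Fin 4 => if Fin.castAdd 2 k = i ∨ Fin.castAdd 2 k = j then -1 else 1 := by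
  exact submatrix_diagonal (m := Fin 6) _ (Fin.castAdd 2) (Fin.castAdd_injective 4 2)

theorem aa_idx : ∀ i j : Fin 6, ∀ m : Fin 3,
    (i, j, m) ∈ [(0, 1, 0), (2, 3, 0), (0, 2, 1), (2, 0, 1), (0, 3, 2), (2, 1, 2)] →
    ∏ k : Fin 4, (if Fin.castAdd 2 k = i ∨ Fin.castAdd 2 k = j then -1 else 1 : ℤ) = 1 ∧ ∀ l : Fin 3,
      let ε : Fin 4 → ℤ := fun k => if Fin.castAdd 2 k = i ∨ Fin.castAdd 2 k = j then -1 else 1
      ![2 * ε 0 * ε 1 + 2 * ε 2 * ε 3, 2 * ε 0 * ε 2 + 2 * ε 1 * ε 3, 2 * ε 0 * ε 3 + 2 * ε 1 * ε 2] l =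
        4 * if l = m then 1 else -1 := by decide +kernel

theorem aa_comm (i j k l : Fin 6) : (aa i j : M6 K) * aa k l = aa k l * aa i j := by
  simpa using (isMono_aa i j).conj_aa k l

theorem cp_aa (h2 : (2 : K) ≠ 0) {i j : Fin 6} {m : Fin 3}
    (e : (i, j, m) ∈ [(0, 1, 0), (2, 3, 0), (0, 2, 1), (2, 0, 1), (0, 3, 2), (2, 1, 2)]) :
    (b4 (aa i j : M6 K)).det = 1 ∧ cp (b4 (aa i j : M6 K)) = s3 m ∧ cm (b4 (aa i j : M6 K)) = s3 m := by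
  obtain ⟨a, b⟩ := aa_idx i j m e
  have h4 := four h2
  rw [b4_aa, (cp_diag _).1, (cp_diag _).2, det_diagonal, and_self]
  refine ⟨by exact_mod_cast congrArg (Int.cast : ℤ → K) a, congrArg diagonal (funext fun l => ?_)⟩
  have := congrArg (Int.cast : ℤ → K) (b l)
  fin_cases l <;> simp only [Fin.reduceFinMk, cons_val, Fin.zero_eta, Fin.mk_one, cons_val_zero, cons_val_one] at this ⊢ <;>
    rw [div_eq_iff h4] <;> push_cast at this <;> exact this.trans (mul_comm _ _)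

theorem in0_aa (h : HW σ π) {g : G} {i j : Fin 6} {m : Fin 3} (hg : σ g = aa i j)
    (e : (i, j, m) ∈ [(0, 1, 0), (2, 3, 0), (0, 2, 1), (2, 0, 1), (0, 3, 2), (2, 1, 2)]) : In0 σ g :=
  ⟨by change σ g * _ = _ * σ g; rw [hg, aa_comm], by rw [hg]; exact (cp_aa h.two e).1⟩

theorem det_b4_c3 : (b4 (mono c3⁻¹ 1 : M6 K)).det = 1 := by
  have : b4 (mono c3⁻¹ 1 : M6 K) = !![0, 1, 0, 0; 0, 0, 1, 0; 1, 0, 0, 0; 0, 0, 0, 1] := by
    have : ∀ (i : Fin 6) (j : Fin 4), i = c3⁻¹ (Fin.castAdd 2 j) ↔ i = ![2, 0, 1, 3] j := by decide +kernel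
    ext i j
    simp only [b4, mono, submatrix_apply, of_apply, Pi.one_apply, this]
    fin_cases i <;> fin_cases j <;> simp
  rw [this]
  simp [det_succ_row_zero, Fin.sum_univ_succ, Fin.succAbove]

/-- The two rotation groups contain the tetrahedral group. -/
theorem big [IsAlgClosed K] [Finite G] (h : HW σ π) (F : Frm σ) (c : c3 ∈ Yg σ) {C : Subgroup G}
    (hC : ∀ g, g ∈ C ↔ In0 σ g) {φ : C →* M3 K}
    (hφ : (∀ g, φ g = cp (b4 (σ g))) ∨ ∀ g, φ g = cm (b4 (σ g))) :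
    (∀ i, ∃ g, φ g = s3 i) ∧ ∃ g, φ g * s3 0 = s3 1 * φ g ∧ φ g * s3 1 = s3 2 * φ g := by
  have p : ∀ {i j m} (_ : (i, j, m) ∈ [(0, 1, 0), (2, 3, 0), (0, 2, 1), (2, 0, 1), (0, 3, 2), (2, 1, 2)]),
      ∃ g : C, σ g = aa i j ∧ φ g = s3 m := fun {i j m} e => by
    obtain ⟨g, hg⟩ := F i j (by revert i j m; decide)
    refine ⟨⟨g, (hC g).2 (in0_aa h hg e)⟩, hg, ?_⟩
    rcases hφ with f | f <;> rw [f, hg]
    exacts [(cp_aa h.two e).2.1, (cp_aa h.two e).2.2]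
  obtain ⟨a0, b0, c0⟩ := p (i := 0) (j := 1) (m := 0) (by decide)
  obtain ⟨a1, b1, c1⟩ := p (i := 0) (j := 2) (m := 1) (by decide)
  obtain ⟨a2, -, c2⟩ := p (i := 0) (j := 3) (m := 2) (by decide)
  obtain ⟨a1', b1', c1'⟩ := p (i := 2) (j := 0) (m := 1) (by decide)
  obtain ⟨a2', b2', c2'⟩ := p (i := 2) (j := 1) (m := 2) (by decide)
  refine ⟨fun i => by fin_cases i; exacts [⟨a0, c0⟩, ⟨a1, c1⟩, ⟨a2, c2⟩], ?_⟩
  have m : IsMono (mono c3⁻¹ 1 : M6 K) c3⁻¹ := ⟨1, by simp, rfl⟩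
  obtain ⟨d, hd⟩ := h.mono_mem F (inv_mem c) m (by
    rw [det_mono, show Equiv.Perm.sign c3⁻¹ = 1 from by decide]; simp)
  have dC : d ∈ C := (hC d).2 ⟨by change σ d * _ = _ * σ d; rw [hd, m.conj_aa]; rfl, by rw [hd, det_b4_c3]⟩
  refine ⟨⟨d, dC⟩, ?_, ?_⟩
  · rw [← c0, ← c1', ← map_mul, ← map_mul]
    refine congrArg _ (Subtype.ext (h.inj ?_))
    simp only [Subgroup.coe_mul, map_mul, b0, b1', hd, m.conj_aa]; rfl
  · rw [← c1, ← c2', ← map_mul, ← map_mul]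
    refine congrArg _ (Subtype.ext (h.inj ?_))
    simp only [Subgroup.coe_mul, map_mul, b1, b2', hd, m.conj_aa]; rfl

/-- The integral form of `Jp`. -/
def JpZ : Fin 3 → Matrix (Fin 4) (Fin 4) ℤ :=
  ![!![0, -1, 0, 0; 1, 0, 0, 0; 0, 0, 0, -1; 0, 0, 1, 0],
    !![0, 0, -1, 0; 0, 0, 0, 1; 1, 0, 0, 0; 0, -1, 0, 0],
    !![0, 0, 0, -1; 0, 0, -1, 0; 0, 1, 0, 0; 1, 0, 0, 0]]

/-- The integral form of `Jm`. -/
def JmZ : Fin 3 → Matrix (Fin 4) (Fin 4) ℤ :=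
  ![!![0, -1, 0, 0; 1, 0, 0, 0; 0, 0, 0, 1; 0, 0, -1, 0],
    !![0, 0, -1, 0; 0, 0, 0, -1; 1, 0, 0, 0; 0, 1, 0, 0],
    !![0, 0, 0, -1; 0, 0, 1, 0; 0, -1, 0, 0; 1, 0, 0, 0]]

theorem Jp_eq (i : Fin 3) : (Jp i : M4 K) = (Int.castRingHom K).mapMatrix (JpZ i) ∧
    (Jm i : M4 K) = (Int.castRingHom K).mapMatrix (JmZ i) := by
  constructor <;> ext j k <;> fin_cases i <;> fin_cases j <;> fin_cases k <;> simp [Jp, Jm, JpZ, JmZ]

/-- Four times a projection. -/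
def Qz (a b a' b' : Fin 3) (e e' : ℤ) : Matrix (Fin 4) (Fin 4) ℤ :=
  (1 + e • (JpZ a * JmZ b)) * (1 + e' • (JpZ a' * JmZ b'))

theorem Qz_cast (a b a' b' : Fin 3) (e e' : ℤ) : (Int.castRingHom K).mapMatrix (Qz a b a' b' e e') =
    (1 + (e : K) • (Jp a * Jm b)) * (1 + (e' : K) • (Jp a' * Jm b')) := by
  simp only [Qz, map_mul, map_add, map_one, map_zsmul, (Jp_eq _).1, (Jp_eq _).2, Int.cast_smul_eq_zsmul]

theorem Qz_one : ∀ j : Fin 4, ∃ e ∈ [1, -1], ∃ e' ∈ [1, -1], Qz 0 0 1 1 e e' = Matrix.single j j 4 := by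
  decide +kernel

theorem Qz_cases : ∀ a b a' b' : Fin 3, a ≠ a' → b ≠ b' →
    (∀ e ∈ [1, -1], ∀ e' ∈ [1, -1], ∃ i, ∀ k, Qz a b a' b' e e' k k = if k = i then 4 else 0) ∨
    (∀ e ∈ [1, -1], ∀ e' ∈ [1, -1], ∀ k, Qz a b a' b' e e' k k = 1) ∨
    ∀ e ∈ [1, -1], ∀ e' ∈ [1, -1], ∃ i l, i ≠ l ∧
      ∀ k, Qz a b a' b' e e' k k = if k = i ∨ k = l then 2 else 0 := by
  decide +kernel

/-- A rotation normalising the sign changes. -/
theorem col_s3 (h2 : (2 : K) ≠ 0) {P : M3 K} (o : Pᵀ * P = 1) {i j : Fin 3} (e : P * s3 i = s3 j * P) :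
    P j i * P j i = 1 ∧ ∀ k, k ≠ j → P k i = 0 := by
  have z : ∀ k, k ≠ j → P k i = 0 := fun k n => by
    have := congrFun (congrFun e k) i
    simp only [s3, mul_diagonal, diagonal_mul, if_true, if_neg n] at this
    exact (mul_eq_zero.1 (by linear_combination this : 2 * P k i = 0)).resolve_left h2
  refine ⟨?_, z⟩
  have := congrFun (congrFun o i) i
  rwa [mul_apply, Finset.sum_eq_single j (fun k _ n => by rw [z k n, mul_zero]) (by simp), one_apply_eq] at this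

theorem s3_ne (h2 : (2 : K) ≠ 0) {P : M3 K} (o : Pᵀ * P = 1) {j j' : Fin 3} (e : P * s3 0 = s3 j * P)
    (e' : P * s3 1 = s3 j' * P) : j ≠ j' := by
  rintro rfl
  have := congrArg (Pᵀ * ·) (e.trans e'.symm)
  simp only [← mul_assoc, o, one_mul] at this
  have := congrFun (congrFun this 0) 0
  simp [s3] at this
  exact h2 (by linear_combination this)

theorem sum_single {J : Fin 3 → M4 K} {P : M3 K} {i j : Fin 3} (z : ∀ k, k ≠ j → P k i = 0) :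
    ∑ k, P k i • J k = P j i • J j :=
  Finset.sum_eq_single j (fun k _ n => by rw [z k n, zero_smul]) (by simp)

theorem pm_int {c : K} (h : c * c = 1) {e : ℤ} (he : e ∈ [1, -1]) : ∃ e' ∈ [(1 : ℤ), -1], (e : K) * c = e' := by
  simp only [List.mem_cons, List.not_mem_nil, or_false] at he
  rcases mul_self_eq_one_iff.1 h with rfl | rfl <;> rcases he with rfl | rfl <;> simp

/-- The columns of an element of `SO₄` normalising the quaternion units. -/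
theorem cols (h2 : (2 : K) ≠ 0) {M : M4 K} (o : Mᵀ * M = 1) (d : M.det = 1) (op : (cp M)ᵀ * cp M = 1)
    (om : (cm M)ᵀ * cm M = 1) (hp : ∀ i, ∃ j, cp M * s3 i = s3 j * cp M)
    (hm : ∀ i, ∃ j, cm M * s3 i = s3 j * cm M) : ∃ a b a' b' : Fin 3, a ≠ a' ∧ b ≠ b' ∧
      ∀ j, ∃ e ∈ [1, -1], ∃ e' ∈ [1, -1], ∀ k, 4 * M k j ^ 2 = (Qz a b a' b' e e' k k : K) := by
  choose α hα using hp
  choose β hβ using hm
  have cj : ∀ i, ∃ c : K, c * c = 1 ∧ M * (Jp i * Jm i) * Mᵀ = c • (Jp (α i) * Jm (β i)) := fun i => by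
    obtain ⟨a1, a2⟩ := col_s3 h2 op (hα i)
    obtain ⟨b1, b2⟩ := col_s3 h2 om (hβ i)
    obtain ⟨c1, c2⟩ := conj_Jp h2 o d i
    rw [sum_single a2] at c1
    rw [sum_single b2] at c2
    refine ⟨cp M (α i) i * cm M (β i) i, by linear_combination cm M (β i) i * cm M (β i) i * a1 + b1, ?_⟩
    rw [← smul_mul_smul_comm, ← c1, ← c2]
    simp only [mul_assoc]
    rw [← mul_assoc Mᵀ, o, one_mul]
  refine ⟨α 0, β 0, α 1, β 1, s3_ne h2 op (hα 0) (hα 1), s3_ne h2 om (hβ 0) (hβ 1), fun j => ?_⟩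
  obtain ⟨e, he, e', he', q⟩ := Qz_one j
  obtain ⟨c, c1, c2⟩ := cj 0
  obtain ⟨c', c1', c2'⟩ := cj 1
  obtain ⟨f, hf, f1⟩ := pm_int c1 he
  obtain ⟨f', hf', f1'⟩ := pm_int c1' he'
  refine ⟨f, hf, f', hf', fun k => ?_⟩
  have b := mul_eq_one_comm.1 o
  have : M * (Int.castRingHom K).mapMatrix (Qz 0 0 1 1 e e') * Mᵀ =
      (Int.castRingHom K).mapMatrix (Qz (α 0) (β 0) (α 1) (β 1) f f') := by
    rw [Qz_cast, Qz_cast, ← f1, ← f1', mul_smul, mul_smul, ← c2, ← c2']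
    have t : ∀ (x : K) (N : M4 K), 1 + x • (M * N * Mᵀ) = M * (1 + x • N) * Mᵀ := fun x N => by
      rw [mul_add, add_mul, mul_one, b, mul_smul_comm, smul_mul_assoc]
    rw [t, t]
    simp only [mul_assoc]
    rw [← mul_assoc Mᵀ, o, one_mul]
  have := congrFun (congrFun this k) k
  rw [q] at this
  simp only [RingHom.mapMatrix_apply, map_apply, eq_intCast] at this
  rw [← this, Matrix.map_single _ _ _ (Int.castRingHom K), mul_apply, Finset.sum_eq_single j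
    (fun l _ n => by rw [mul_single_apply_of_ne (hbj := n), zero_mul]) (by simp), mul_single_apply_same]
  simp only [eq_intCast, Int.cast_ofNat, transpose_apply]
  ring

end Cfsg.Agent.D4.WF
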