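import Cfsg.Agent.D4.WII0

/-!
Non-solvable involution centralisers: the component.
-/

set_option autoImplicit false

open Matrix
open scoped MatrixGroups

namespace Cfsg.Agent.D4

variable {K : Type*} [Field K] {G X : Type*} [Group G] [Group X] {σ : G →* M6 K} {π : G →* X}

namespace WI

theorem a5_el : ∃ a b d : alternatingGroup (Fin 5), a * a = 1 ∧ b * b = 1 ∧ a * b = b * a ∧
    d * d * d = 1 ∧ d * a = b * d ∧ d * b = a * b * d ∧ a ≠ 1 ∧ b ≠ 1 ∧ a ≠ b ∧ d * a ≠ a * d ∧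
    d * b ≠ b * d ∧ d * (a * b) ≠ a * b * d :=
  ⟨⟨.swap 0 1 * .swap 2 3, Equiv.Perm.mem_alternatingGroup.2 (by decide)⟩,
    ⟨.swap 0 2 * .swap 1 3, Equiv.Perm.mem_alternatingGroup.2 (by decide)⟩,
    ⟨.swap 1 3 * .swap 1 2, Equiv.Perm.mem_alternatingGroup.2 (by decide)⟩, by decide⟩

theorem idx : ∀ i j k l : Fin 6, (i ≠ j ∧ k ≠ l ∧ i < 4 ∧ j < 4 ∧ k < 4 ∧ l < 4) →
    (∀ x, (x = i ∨ x = j) ↔ (x = k ∨ x = l)) ∨
    (∀ x, ((x = i ∨ x = j) ↔ (x = k ∨ x = l)) ↔ (x = 4 ∨ x = 5)) ∨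
    ∃ p q r : Fin 6, Function.Injective ![p, q, r, 4, 5] ∧
      (∀ x, (x = i ∨ x = j) ↔ (x = p ∨ x = r)) ∧ ∀ x, (x = k ∨ x = l) ↔ (x = p ∨ x = q) := by
  decide +kernel

theorem aa_congr {i j k l : Fin 6} (e : ∀ x, (x = i ∨ x = j) ↔ (x = k ∨ x = l)) :
    (aa i j : M6 K) = aa k l := by
  simp only [aa, e]

theorem A0.aa (h : HW σ π) {t : G} {L : Subgroup G} (a : A0 σ t L) {g d : G} (hg : g ∈ L)
    (hd : d ∈ L) (m : IsMono (σ g) 1) (n : d * g ≠ g * d) :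
    ∃ i j : Fin 6, i ≠ j ∧ i < 4 ∧ j < 4 ∧ σ g = aa i j := by
  have n1 : (-1 : K) ≠ 1 := fun e => h.two (by linear_combination -e)
  have e4 : σ g 4 4 = 1 := by simpa [b2] using congrFun (congrFun (a.le g hg).2 0) 0
  have e5 : σ g 5 5 = 1 := by simpa [b2] using congrFun (congrFun (a.le g hg).2 1) 1
  rcases WB.diag_cases h.two m (h.det g) with e | e | ⟨i, j, u, e | e⟩
  · exact (n (h.inj (by simp [e]))).elim
  · exact (n (h.inj (by simp [e]))).elim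
  · simp only [e, D4.aa, diagonal_apply_eq, ite_eq_right_iff, n1, imp_false] at e4 e5
    exact ⟨i, j, u, by omega, by omega, e⟩
  · refine (n (h.inj ?_)).elim
    simp only [e, D4.aa, Matrix.neg_apply, diagonal_apply_eq, neg_eq_iff_eq_neg, ite_eq_left_iff,
      n1.symm, imp_false, not_not] at e4 e5
    have : (D4.aa i j : M6 K) = D4.aa 4 5 := aa_congr fun x => by omega
    simp only [map_mul, e, this, mul_neg, neg_mul]
    exact congrArg _ (a.le d hd).1.1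

theorem mono_of (h2 : (2 : K) ≠ 0) {D : M6 K} (e1 : D * aa 0 2 = aa 0 1 * D)
    (e2 : D * aa 0 1 = aa 0 2 * aa 0 1 * D) (e3 : D * aa 4 5 = aa 4 5 * D) (e4 : b2 D = 1) :
    D = mono c3 ![D 1 0, D 2 1, D 0 2, D 3 3, 1, 1] := by
  have z : ∀ x : K, x = -x ↔ x = 0 := fun x =>
    ⟨fun e => (mul_eq_zero.1 (by linear_combination e)).resolve_left h2, fun e => by simp [e]⟩
  have z' : ∀ x : K, -x = x ↔ x = 0 := fun x => eq_comm.trans (z x)
  have f0 := congrFun (congrFun e4 0) 0; have f1 := congrFun (congrFun e4 0) 1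
  have f2 := congrFun (congrFun e4 1) 0; have f3 := congrFun (congrFun e4 1) 1
  simp [b2] at f0 f1 f2 f3
  ext i j
  have a := congrFun (congrFun e1 i) j
  have b := congrFun (congrFun e2 i) j
  have c := congrFun (congrFun e3 i) j
  simp only [aa, diagonal_mul_diagonal, mul_diagonal, diagonal_mul] at a b c
  fin_cases i <;> fin_cases j <;> simp [z, z'] at a b c <;>
    simp [mono, c3, Equiv.swap_apply_def, *]

theorem sign_of {D : M6 K} {x0 x1 x2 x3 : K} (hd : D = mono c3 ![x0, x1, x2, x3, 1, 1])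
    (o : Dᵀ * D = 1) (d3 : D * D * D = 1) :
    ∃ δ : Fin 6 → K, (∀ s, δ s * δ s = 1) ∧ diagonal δ * D * diagonal δ = mono c3 1 := by
  rw [hd, WB.mono_transpose, mono_mul] at o
  rw [hd, mono_mul, mono_mul] at d3
  have o0 := congrFun (congrFun o 0) 0; have o1 := congrFun (congrFun o 1) 1
  have o3 := congrFun (congrFun o 3) 3
  have d0 := congrFun (congrFun d3 0) 0; have d1 := congrFun (congrFun d3 3) 3
  simp [mono, c3, Equiv.swap_apply_def] at o0 o1 o3 d0 d1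
  refine ⟨![1, x0, x0 * x1, 1, 1, 1], fun s => by fin_cases s <;> simp <;> grind, ?_⟩
  simp only [hd, ← WB.mono_one_eq, mono_mul, one_mul, mul_one]
  refine congrArg _ (funext fun s => ?_)
  fin_cases s <;> simp [c3, Equiv.swap_apply_def] <;> grind

end WI

open WI

variable [IsAlgClosed K] [Finite G]

theorem HW.exists_a2 (h : HW σ π) (na : ∀ B, ¬ A1 (D4.cw σ B)) {t : G} (e : t * t = 1)
    (ht : (σ t).trace = 2) (n : ¬ Group.IsSolvable (Cz σ (σ t))) :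
    ∃ (B : O6 K) (L : Subgroup G), D4.cw σ B t = aa 4 5 ∧ A2 (D4.cw σ B) L := by
  obtain ⟨B0, b0⟩ := h.exists_frame e ht
  obtain ⟨L, a0⟩ := exists_a0 (h.cw B0) (na B0) (fun C => by
    obtain ⟨E, -, u⟩ := cw_cw (σ := σ) B0 C
    exact u ▸ na E) b0 (by rwa [← b0, cz_eq (h.cw B0), ← cz_eq h])
  have chg : ∀ B, D4.cw σ B t = aa 4 5 → A0 (D4.cw σ B) t L := fun B u => by
    obtain ⟨E, v, w⟩ := cw_cw (σ := σ) B0
      ⟨B0.1ᵀ * B.1, (cw_cw (σ := σ) ⟨B0.1ᵀ, by simpa using mul_eq_one_comm.1 B0.2⟩ B).elim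
        fun E x => x.1 ▸ E.2⟩
    obtain rfl : E = B := Subtype.ext (by rw [v, ← mul_assoc, mul_eq_one_comm.1 B0.2, one_mul])
    exact w ▸ a0.chg (h.cw B0) (w ▸ u)
  obtain ⟨f⟩ := a0.iso
  obtain ⟨a, b, d, h1, h2, h3, h4, h5, h6, h7, h8, h9, n1, n2, n3⟩ : ∃ a b d : L, a * a = 1 ∧
      b * b = 1 ∧ a * b = b * a ∧ d * d * d = 1 ∧ d * a = b * d ∧ d * b = a * b * d ∧ a ≠ 1 ∧ b ≠ 1 ∧
      a ≠ b ∧ d * a ≠ a * d ∧ d * b ≠ b * d ∧ d * (a * b) ≠ a * b * d := by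
    obtain ⟨a, b, d, u⟩ := a5_el
    refine ⟨f.symm a, f.symm b, f.symm d, ?_⟩
    simpa only [← map_mul, ne_eq, map_eq_one_iff _ f.symm.injective, f.symm.injective.eq_iff] using u
  have ct : ∀ g : L, g.1 * t = t * g := fun g => Subgroup.mem_centralizer_singleton_iff.1 (by
    rw [← cz_eq (h.cw B0), b0]; exact (a0.le g g.2).1.1)
  obtain ⟨B1, b1⟩ := h.exists_diag ![t, a, b]
    (fun i => by fin_cases i; exacts [e, congrArg Subtype.val h1, congrArg Subtype.val h2])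
    (fun i j => by
      have : a.1 * b = b * a := congrArg Subtype.val h3
      fin_cases i <;> fin_cases j <;> simp [this, ct])
  obtain ⟨u, v, uv, bt⟩ := (h.cw B1).aa_of_diag (b1 0) (by rwa [WB.cw_trace])
  obtain ⟨w, hw⟩ := Equiv.Perm.exists_extending_pair ![(4 : Fin 6), 5] ![u, v] (by decide)
    (by simpa [Function.Injective, Fin.forall_fin_two] using ⟨uv, uv.symm⟩)
  obtain ⟨B2, -, b2'⟩ := cw_cw (σ := σ) B1 (pm w)
  have t2 : D4.cw σ B2 t = aa 4 5 := by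
    rw [← b2', cw_pm_aa, show w 4 = u from hw 0, show w 5 = v from hw 1]; exact bt
  have a2 := chg B2 t2
  obtain ⟨i, j, ij, i4, j4, ea⟩ := a2.aa (h.cw B2) a.2 d.2
    (by rw [← b2', cw_pm_mono]; simpa using b1 1) fun x => n1 (Subtype.ext x)
  obtain ⟨k, l, kl, k4, l4, eb⟩ := a2.aa (h.cw B2) b.2 d.2
    (by rw [← b2', cw_pm_mono]; simpa using b1 2) fun x => n2 (Subtype.ext x)
  rcases idx i j k l ⟨ij, kl, i4, j4, k4, l4⟩ with x | x | ⟨p, q, r, x, y, z⟩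
  · exact (h9 (Subtype.ext ((h.cw B2).inj (by rw [ea, eb, aa_congr x])))).elim
  · refine (n3 (Subtype.ext ((h.cw B2).inj ?_))).elim
    have : D4.cw σ B2 a * D4.cw σ B2 b = -aa 4 5 := by
      rw [ea, eb, aa, aa, aa, diagonal_mul_diagonal, diagonal_neg]
      refine congrArg _ (funext fun s => ?_)
      have := x s
      by_cases c : s = i ∨ s = j <;> by_cases c' : s = k ∨ s = l <;> simp_all
    simp only [Subgroup.coe_mul, map_mul, this, mul_neg, neg_mul]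
    exact congrArg _ (a2.le d d.2).1.1
  obtain ⟨w, hw⟩ := Equiv.Perm.exists_extending_pair ![(0 : Fin 6), 1, 2, 4, 5] _ (by decide) x
  obtain ⟨B3, -, b3⟩ := cw_cw (σ := σ) B2 (pm w)
  have t3 : D4.cw σ B3 t = aa 4 5 := by
    rw [← b3, cw_pm_aa, show w 4 = 4 from hw 3, show w 5 = 5 from hw 4, t2]
  have fa : D4.cw σ B3 a = aa 0 2 := by
    rw [← b3, cw_pm_aa, show w 0 = p from hw 0, show w 2 = r from hw 2, ea, aa_congr y]
  have fb : D4.cw σ B3 b = aa 0 1 := by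
    rw [← b3, cw_pm_aa, show w 0 = p from hw 0, show w 1 = q from hw 1, eb, aa_congr z]
  have a3 := chg B3 t3
  have hd := mono_of (D := D4.cw σ B3 d) h.two
    (by rw [← fa, ← fb, ← map_mul, ← map_mul]; exact congrArg (fun g : L => D4.cw σ B3 g) h5)
    (by rw [← fa, ← fb, ← map_mul, ← map_mul, ← map_mul]
        exact congrArg (fun g : L => D4.cw σ B3 g) h6) (a3.le d d.2).1.1 (a3.le d d.2).2
  have o := (h.cw B3).orth d
  have d3 : D4.cw σ B3 d * D4.cw σ B3 d * D4.cw σ B3 d = 1 := by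
    rw [← map_mul, ← map_mul, ← map_one (D4.cw σ B3)]
    exact congrArg _ (show d.1 * d * d = 1 from congrArg Subtype.val h4)
  obtain ⟨δ, dd, hδ⟩ := sign_of hd o d3
  obtain ⟨B4, -, b4'⟩ := cw_cw (σ := σ) B3 ⟨diagonal δ, by simp [dd]⟩
  have k : ∀ (g : G) i j, D4.cw σ B3 g = aa i j → D4.cw σ B4 g = aa i j := fun g i j u => by
    rw [← b4', cw_apply, u, aa]
    simp only [diagonal_transpose, diagonal_mul_diagonal]
    exact congrArg _ (funext fun s => by rw [mul_right_comm, dd, one_mul])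
  have a4 := chg B4 (k _ _ _ t3)
  refine ⟨B4, L, a4.t, ⟨t, a4.t⟩, a4.iso, a4.le, a4.nrm, a4.top, a4.cen, ⟨b, b.2, k _ _ _ fb⟩,
    ⟨a, a.2, k _ _ _ fa⟩, d, d.2, ?_⟩
  rw [← b4', cw_apply]
  simpa using hδ

end Cfsg.Agent.D4
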