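import Cfsg.Agent.D4.SO4

/-!
Non-solvable involution centralisers: the perfect residual.
-/

set_option autoImplicit false

open Matrix
open scoped MatrixGroups commutatorElement

namespace Cfsg.Agent.D4.WI

variable {K : Type*} [Field K] {G X : Type*} [Group G] [Group X] {σ : G →* M6 K} {π : G →* X}

theorem perf_hom {L : Subgroup G} (hL : ⁅L, L⁆ = L) {M : Type*} [Monoid M] (f : L →* M)
    (hc : ∀ a b, f a * f b = f b * f a) (g : L) : f g = 1 := by
  have hp : commutator L = ⊤ := Subgroup.map_injective L.subtype_injective (by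
    rw [Subgroup.map_subtype_commutator, hL, ← MonoidHom.range_eq_map, Subgroup.range_subtype])
  have : commutator L ≤ f.ker := Subgroup.commutator_le.2 fun a _ b _ => by
    rw [MonoidHom.mem_ker, commutatorElement_def, map_mul, map_mul, map_mul, hc a b, mul_assoc (f b),
      ← map_mul, mul_inv_cancel, map_one, mul_one, ← map_mul, mul_inv_cancel, map_one]
  exact this (hp ▸ trivial)

theorem exists_res [Finite G] (C : Subgroup G) (n : ¬ Group.IsSolvable C) :
    ∃ L ≤ C, ⁅L, L⁆ = L ∧ ¬ Group.IsSolvable L ∧ (∀ k ∈ C, ∀ g ∈ L, k * g * k⁻¹ ∈ L) ∧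
      ∀ P ≤ C, ⁅P, P⁆ = P → P ≤ L := by
  let L := sSup {P | P ≤ C ∧ ⁅P, P⁆ = P}
  have top : ∀ P ≤ C, ⁅P, P⁆ = P → P ≤ L := fun P a b => le_sSup ⟨a, b⟩
  have le : L ≤ C := sSup_le fun _ h => h.1
  have pf : ⁅L, L⁆ = L := le_antisymm (Subgroup.commutator_le_self _) (sSup_le fun P h =>
    h.2.ge.trans (Subgroup.commutator_mono (top P h.1 h.2) (top P h.1 h.2)))
  refine ⟨L, le, pf, fun s => n (Group.isSolvable_iff_commutator_lt.2 fun H hH => ?_),
    fun k hk g hg => ?_, top⟩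
  · refine lt_of_le_of_ne (Subgroup.commutator_le_self _) fun e => ?_
    have a := top (H.map C.subtype) (Subgroup.map_subtype_le H) (by
      rw [← Subgroup.map_commutator, e])
    have := Group.IsSolvable.commutator_lt_of_ne_bot (G := L) (H := ⊤) fun f => hH (by
      rw [← Subgroup.map_subtype_inj, Subgroup.map_bot, eq_bot_iff]
      intro x hx
      have : (⟨x, a hx⟩ : L) ∈ (⊥ : Subgroup L) := f ▸ Subgroup.mem_top _
      exact congrArg Subtype.val (Subgroup.mem_bot.1 this))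
    rw [← Subgroup.map_subtype_lt_map_subtype, Subgroup.map_commutator, ← MonoidHom.range_eq_map,
      Subgroup.range_subtype, pf] at this
    exact this.false
  · refine top (L.map (MulAut.conj k).toMonoidHom) ?_ (by rw [← Subgroup.map_commutator, pf])
      ⟨g, hg, rfl⟩
    rintro _ ⟨x, hx, rfl⟩
    exact mul_mem (mul_mem hk (le hx)) (inv_mem hk)

theorem ker_le {L M : Type*} [Group L] [Monoid M] {f : L →* M}
    (e : L ⧸ f.ker ≃* alternatingGroup (Fin 5)) (N : Subgroup L) [N.Normal]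
    (s : Group.IsSolvable N) : N ≤ f.ker := by
  let q := e.toMonoidHom.comp (QuotientGroup.mk' f.ker)
  have hq : Function.Surjective q := e.surjective.comp (QuotientGroup.mk'_surjective _)
  have := Group.isSolvable_of_surjective (q.subgroupMap_surjective N)
  rcases (Subgroup.Normal.map ‹_› q hq).eq_bot_or_eq_top with u | u
  · intro x hx
    have : q x ∈ N.map q := ⟨x, hx, rfl⟩
    rw [u, Subgroup.mem_bot] at this
    exact (QuotientGroup.eq_one_iff x).1 ((map_eq_one_iff _ e.injective).1 this)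
  · rw [u] at this
    exact (SO.not_solv_a5 Subgroup.topEquiv this).elim

theorem cent_one.{u} {L : Type u} [Group L] [Finite L]
    (hp : ∀ {M : Type u} [CommGroup M] (f : L →* M) g, f g = 1) (h2 : ∀ (g : L) (k : ℕ), g ^ 2 ^ k = 1 → g * g = 1) {z : L} (e : z * z = 1)
    (c : ∀ g, z * g = g * z) : z = 1 := by
  obtain ⟨S⟩ : Nonempty (Sylow 2 L) := inferInstance
  have sq : ∀ a : S, a * a = 1 := fun a => by
    obtain ⟨k, hk⟩ := S.isPGroup' a
    exact Subtype.ext (h2 a k (by exact_mod_cast congrArg Subtype.val hk))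
  let _ : CommGroup S := { (inferInstance : Group S) with
    mul_comm a b := by
      rw [← inv_eq_of_mul_eq_one_right (sq (a * b)), _root_.mul_inv_rev,
        inv_eq_of_mul_eq_one_right (sq a), inv_eq_of_mul_eq_one_right (sq b)] }
  have := MonoidHom.transfer_eq_pow (MonoidHom.id S) z fun k g _ => by
    rw [mul_assoc, (Commute.pow_left (c g) k).eq, inv_mul_cancel_left]
  rw [hp] at this
  have o : z ^ (S : Subgroup L).index = 1 := (congrArg Subtype.val this).symm
  obtain ⟨m, hm⟩ := Nat.not_even_iff_odd.1 fun u => S.not_dvd_index u.two_dvd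
  rwa [hm, pow_succ, pow_mul, pow_two, e, one_pow, one_mul] at o

theorem sq_neg (h2 : (2 : K) ≠ 0) {M : M4 K} (h : Mᵀ * M = 1) (d : M.det = 1) (e : M * M = -1) :
    cp M = 1 ∨ cm M = 1 := by
  have t : Mᵀ = -M := by rw [← mul_one Mᵀ, ← neg_neg 1, ← e, mul_neg, ← mul_assoc, h, one_mul]
  have a := (So4.hat_conj h2 (M := 1) (by simp) t e).2
  simp only [one_mul, transpose_one, mul_one] at a
  have p : pf M * pf M = 1 := by
    have u := fun i j => congrFun (congrFun a i) j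
    have u1 := u 0 1; have u2 := u 0 2; have u3 := u 0 3
    have v1 := u 2 3; have v2 := u 1 3; have v3 := u 1 2
    have w := congrFun (congrFun e 0) 0
    rw [So4.alt_form h2 t] at w
    simp [hat, mul_apply, Fin.sum_univ_four] at u1 u2 u3 v1 v2 v3 w
    generalize pf M = P at *
    grind
  rcases mul_self_eq_one_iff.1 p with p | p <;> rw [p] at a
  · exact Or.inr ((cm_eq_one h2 h d).1.2 ⟨0, _, by
      rw [zero_smul, zero_add]; exact So4.sd h2 t (by simpa using a)⟩)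
  · exact Or.inl ((cm_eq_one h2 h d).2.2 ⟨0, _, by
      rw [zero_smul, zero_add]; exact So4.asd h2 t (by simpa using a)⟩)

theorem blk_neg : b4 (-aa 4 5 : M6 K) = -1 ∧ b2 (-aa 4 5 : M6 K) = 1 := by
  constructor <;> ext i j <;> fin_cases i <;> fin_cases j <;> simp [b4, b2, aa]

/-- The part of `A2` which does not depend on the frame. -/
structure A0 (σ : G →* M6 K) (t : G) (L : Subgroup G) : Prop where
  t : σ t = aa 4 5
  iso : Nonempty (L ≃* alternatingGroup (Fin 5))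
  le : ∀ g ∈ L, In0 σ g ∧ b2 (σ g) = 1
  nrm : ∀ k ∈ Cz σ (aa 4 5), ∀ g ∈ L, k * g * k⁻¹ ∈ L
  top : ∀ P ≤ Cz σ (aa 4 5), ⁅P, P⁆ = P → P ≤ L
  cen : ∀ k, In0 σ k → ∃ g ∈ L, ∀ l ∈ L, k * g * l = l * (k * g)

theorem cz_eq (h : HW σ π) (t : G) : Cz σ (σ t) = Subgroup.centralizer {t} := by
  ext g
  rw [Subgroup.mem_centralizer_singleton_iff, ← h.inj.eq_iff, map_mul, map_mul]
  rfl

theorem A0.chg (h : HW σ π) {t : G} {L : Subgroup G} (a : A0 σ t L) {B : O6 K}
    (e : cw σ B t = aa 4 5) : A0 (cw σ B) t L := by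
  have c : Cz (cw σ B) (aa 4 5) = Cz σ (aa 4 5) := by
    rw [show Cz σ (aa 4 5) = _ from a.t ▸ cz_eq h t, ← e, cz_eq (h.cw B)]
  have b := mul_eq_one_comm.1 B.2
  have b1 : B.1ᵀ * aa 4 5 = aa 4 5 * B.1ᵀ := by
    nth_rewrite 2 [← e]
    rw [cw_apply, a.t, mul_assoc, b, mul_one]
  have blk : ∀ g ∈ Cz σ (aa 4 5), (b4 (cw σ B g)).det = (b4 (σ g)).det ∧
      (b2 (σ g) = 1 → b2 (cw σ B g) = 1) := fun g hg => by
    have u := b4_mul h.two b1 B.1
    rw [B.2, So4.b4_one.1, So4.b4_one.2] at u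
    rw [cw_apply, mul_assoc, (b4_mul h.two b1 _).1, (b4_mul h.two b1 _).2, (b4_mul h.two hg _).1,
      (b4_mul h.two hg _).2, det_mul, det_mul, mul_left_comm, ← det_mul, ← u.1, det_one, mul_one]
    exact ⟨rfl, fun v => by rw [v, one_mul, ← u.2]⟩
  refine ⟨e, a.iso, fun g hg => ?_, c ▸ a.nrm, c ▸ a.top, fun k hk => a.cen k ?_⟩
  · obtain ⟨⟨u, v⟩, w⟩ := a.le g hg
    exact ⟨⟨c ▸ u, (blk g u).1.trans v⟩, (blk g u).2 w⟩
  · exact ⟨c ▸ hk.1, (blk k (c ▸ hk.1)).1.symm.trans hk.2⟩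

variable [IsAlgClosed K] [Finite G]

theorem exists_a0 (h : HW σ π) (n1 : ¬ A1 σ) (na : ∀ B, ¬ A1 (cw σ B)) {t : G}
    (ht : σ t = aa 4 5) (n : ¬ Group.IsSolvable (Cz σ (aa 4 5))) : ∃ L, A0 σ t L := by
  obtain ⟨L, le, pf, ns, nrm, top⟩ := exists_res _ n
  let β4 : L →* M4 K := ⟨⟨fun g => b4 (σ g), by simpa using So4.b4_one.1⟩, fun a b => by
    simpa using (b4_mul h.two (le a.2) _).1⟩
  let β2 : L →* Matrix (Fin 2) (Fin 2) K := ⟨⟨fun g => b2 (σ g), by simpa using So4.b4_one.2⟩,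
    fun a b => by simpa using (b4_mul h.two (le a.2) _).2⟩
  have i0 : ∀ g ∈ L, In0 σ g := fun g hg =>
    ⟨le hg, perf_hom pf (detMonoidHom.comp β4) (fun _ _ => mul_comm ..) ⟨g, hg⟩⟩
  have i2 : ∀ g ∈ L, b2 (σ g) = 1 := fun g hg =>
    perf_hom pf β2 (fun a b => h.rot_comm (i0 _ a.2) (i0 _ b.2)) ⟨g, hg⟩
  obtain ⟨C, φ, ψ, hC, hφ, hψ, tφ, tψ⟩ := h.exists_c0
  have lc : L ≤ C := fun g hg => (hC g).2 (i0 g hg)
  have tm : ∀ χ : C →* M3 K, Tm χ → Tm (χ.comp (Subgroup.inclusion lc)) := fun χ t =>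
    ⟨t.two, t.lf, fun g => t.orth _, fun g => t.det _, fun g k => t.quad _ _⟩
  set f := φ.comp (Subgroup.inclusion lc)
  set f' := ψ.comp (Subgroup.inclusion lc)
  have hf : ∀ g, f g = cp (b4 (σ g)) := fun g => hφ _
  have hf' : ∀ g, f' g = cm (b4 (σ g)) := fun g => hψ _
  have sv : ∀ N : Subgroup L, Group.IsSolvable (N.map L.subtype) → Group.IsSolvable N :=
    fun N _ => Group.isSolvable_of_isSolvable_injective
      (f := (N.equivMapOfInjective _ L.subtype_injective).toMonoidHom) (MulEquiv.injective _)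
  have s' : Group.IsSolvable f'.ker := sv _ (by_contra fun u => n1 ⟨⟨t, ht⟩, _, u, by
    rintro _ ⟨g, hg, rfl⟩
    exact ⟨i0 _ g.2, i2 _ g.2, (hf' g).symm.trans hg⟩⟩)
  have s : Group.IsSolvable f.ker := sv _ (by_contra fun u => by
    obtain ⟨B, b1, b2⟩ := h.flip
    refine na B ⟨⟨t, (b1 t).2 ht⟩, _, u, ?_⟩
    rintro _ ⟨g, hg, rfl⟩
    have := (b2 g).2 (i0 _ g.2)
    exact ⟨(b2 g).1.2 (i0 _ g.2), this.1.trans (i2 _ g.2), this.2.2 ((hf g).symm.trans hg)⟩)
  obtain ⟨e⟩ := (tm φ tφ).solv.resolve_left fun u =>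
    ns ((Group.isSolvable_iff_subgroup_quotient f.ker).2 ⟨s, u⟩)
  obtain ⟨e'⟩ := (tm ψ tψ).solv.resolve_left fun u =>
    ns ((Group.isSolvable_iff_subgroup_quotient f'.ker).2 ⟨s', u⟩)
  have k1 := ker_le e _ s'
  have k2 := ker_le e' _ s
  have kr : ∀ g ∈ f.ker, b4 (σ g) = 1 ∨ b4 (σ g) = -1 := fun g hg =>
    cpm_ker h.two (h.blk (le g.2)).1 (i0 _ g.2).2 ((hf g).symm.trans hg) ((hf' g).symm.trans (k2 hg))
  have k0 : ∀ g : L, b4 (σ g) = 1 → g = 1 := fun g u => Subtype.ext (h.inj ((blk_ext h.two (le g.2)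
    (by simp) (u.trans So4.b4_one.1.symm) ((i2 _ g.2).trans So4.b4_one.2.symm)).trans
    (map_one σ).symm))
  have ksq : ∀ g ∈ f.ker, g * g = 1 := fun g hg => k0 _ <| by
    change β4 (g * g) = 1
    rw [map_mul]
    change b4 (σ g) * b4 (σ g) = 1
    rcases kr g hg with u | u <;> simp [u]
  have ker : ∀ g ∈ f.ker, g = 1 := fun z hz => by
    refine cent_one (fun f => perf_hom pf f fun _ _ => mul_comm ..) (fun g k hk => ?_) (ksq z hz)
      fun g => ?_
    · have a5 : ∀ x : alternatingGroup (Fin 5), x * x = 1 ∨ x ^ 15 = 1 := by decide +kernel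
      have gg : g * g ∈ f.ker := by
        rw [← QuotientGroup.eq_one_iff, ← map_eq_one_iff _ e.injective, QuotientGroup.mk_mul, map_mul]
        refine (a5 (e g)).elim id fun u => ?_
        have := pow_gcd_eq_one.2 ⟨u, show e g ^ 2 ^ k = 1 by
          rw [← map_pow, ← QuotientGroup.mk_pow, hk, QuotientGroup.mk_one, map_one]⟩
        rw [Nat.Coprime.pow_right k (by norm_num), pow_one] at this
        rw [this, one_mul]
      refine (kr _ gg).elim (k0 _) fun u => ksq g ?_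
      rcases sq_neg h.two (h.blk (le g.2)).1 (i0 _ g.2).2 ((β4.map_mul g g).symm.trans u) with v | v
      · exact (hf g).trans v
      · exact k1 ((hf' g).trans v)
    · rcases kr z hz with u | u
      · simp [k0 z u]
      · have : σ z = -aa 4 5 := blk_ext h.two (le z.2) (by simp) (u.trans blk_neg.1.symm)
          ((i2 _ z.2).trans blk_neg.2.symm)
        refine Subtype.ext (h.inj ?_)
        simp only [Subgroup.coe_mul, map_mul, this, neg_mul, mul_neg]
        exact congrArg _ (le g.2).symm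
  have kb : f.ker = ⊥ := eq_bot_iff.2 ker
  refine ⟨L, ht, ⟨(QuotientGroup.quotientBot.symm.trans
    (QuotientGroup.quotientMulEquivOfEq kb).symm).trans e⟩, fun g hg => ⟨i0 g hg, i2 g hg⟩, nrm, top,
    fun k hk => ?_⟩
  obtain ⟨l, hl, u⟩ := tφ.onto (L := L.subgroupOf C) (fun _ => ns
    (Group.isSolvable_of_isSolvable_injective (f := ((QuotientGroup.mk' φ.ker).comp
      (Subgroup.inclusion lc)).codRestrict ((L.subgroupOf C).map (QuotientGroup.mk' φ.ker))
        fun g => ⟨⟨g, lc g.2⟩, g.2, rfl⟩) ((injective_iff_map_eq_one _).2 fun g v =>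
          ker g ((QuotientGroup.eq_one_iff (Subgroup.inclusion lc g)).1 (congrArg Subtype.val v))))) ⟨k, (hC k).2 hk⟩⁻¹
  refine ⟨l, hl, fun m hm => ?_⟩
  let x : C := ⟨k, (hC k).2 hk⟩ * l
  have hx : φ x = 1 := by rw [map_mul, u, ← map_mul, mul_inv_cancel, map_one]
  have := congrArg Subtype.val (ker ⟨x * m * x⁻¹ * m⁻¹, mul_mem (nrm _ ((hC _).1 x.2).1 m hm)
    (inv_mem hm)⟩ (show φ (x * ⟨m, lc hm⟩ * x⁻¹ * ⟨m, lc hm⟩⁻¹) = 1 by
      rw [map_mul, map_mul, map_mul, hx, MonoidHom.mem_ker.1 (φ.ker.inv_mem hx), one_mul, mul_one,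
        ← map_mul, mul_inv_cancel, map_one]))
  exact commutatorElement_eq_one_iff_mul_comm.1 this

end Cfsg.Agent.D4.WI
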